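import Mathlib
import Cfsg.Prelude.Def_DStar

set_option autoImplicit false

namespace Cfsg.Agent.Helper51

open Subgroup
open scoped commutatorElement

theorem mem_centralizer_closure {S : Type*} [Group S] {k : Set S} {c : S}
    (h : ∀ g ∈ k, g * c = c * g) : c ∈ centralizer (closure k : Set S) := by
  rw [mem_centralizer_iff]
  intro g hg
  induction hg using closure_induction with
  | mem x hx => exact h x hx
  | one => simp
  | mul x y _ _ hx hy => rw [mul_assoc, hy, ← mul_assoc, hx, mul_assoc]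
  | inv x _ hx =>
    have : x⁻¹ * (x * c) * x⁻¹ = x⁻¹ * (c * x) * x⁻¹ := by rw [hx]
    simpa [mul_assoc] using this.symm

/-- If every commutator `⁅a, x⁆` (`a ∈ A`, `A` abelian) is central in `⟨A, x⟩` then `⟨A, x⟩` has class at most 2. -/
theorem triple_comm_eq_bot_of_central {S : Type*} [Group S] (A : Subgroup S) (hA : IsMulCommutative A) (x : S)
    (h : ∀ a ∈ A, (∀ a' ∈ A, a' * ⁅a, x⁆ = ⁅a, x⁆ * a') ∧ x * ⁅a, x⁆ = ⁅a, x⁆ * x) :
    ⁅⁅A ⊔ zpowers x, A ⊔ zpowers x⁆, A ⊔ zpowers x⁆ = ⊥ := by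
  have hH : A ⊔ zpowers x = closure ((A : Set S) ∪ {x}) := by
    rw [Subgroup.closure_union, closure_eq, zpowers_eq_closure]
  rw [commutator_eq_bot_iff_le_centralizer, commutator_le, hH]
  set k : Set S := (A : Set S) ∪ {x} with hk
  have hcent : ∀ a ∈ A, ⁅a, x⁆ ∈ centralizer (closure k : Set S) := by
    intro a ha
    apply mem_centralizer_closure
    rintro g (hg | hg)
    · exact (h a ha).1 g hg
    · rw [Set.mem_singleton_iff] at hg; subst hg; exact (h a ha).2
  intro g₁ hg₁ g₂ hg₂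
  induction hg₁, hg₂ using closure_induction₂ with
  | mem y z hy hz =>
    rcases hy with hy | hy <;> rcases hz with hz | hz
    · have : ⁅y, z⁆ = 1 := by
        rw [commutatorElement_eq_one_iff_mul_comm]
        exact setLike_mul_comm hy hz
      rw [this]; exact one_mem _
    · rw [Set.mem_singleton_iff] at hz; subst hz; exact hcent y hy
    · rw [Set.mem_singleton_iff] at hy; subst hy
      rw [← commutatorElement_inv]; exact inv_mem (hcent z hz)
    · rw [Set.mem_singleton_iff] at hy hz; subst hy; subst hz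
      rw [commutatorElement_self]; exact one_mem _
  | one_left y hy => rw [commutatorElement_one_left]; exact one_mem _
  | one_right y hy => rw [commutatorElement_one_right]; exact one_mem _
  | mul_left y z w hy hz hw h₁ h₂ =>
    have e : ⁅y * z, w⁆ = y * ⁅z, w⁆ * y⁻¹ * ⁅y, w⁆ := by
      simp only [commutatorElement_def]; group
    have e2 : y * ⁅z, w⁆ * y⁻¹ = ⁅z, w⁆ := by
      rw [mem_centralizer_iff] at h₂
      rw [h₂ y hy]; group
    rw [e, e2]; exact mul_mem h₂ h₁
  | mul_right z w y hz hw hy h₁ h₂ =>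
    have e : ⁅y, z * w⁆ = ⁅y, z⁆ * (z * ⁅y, w⁆ * z⁻¹) := by
      simp only [commutatorElement_def]; group
    have e2 : z * ⁅y, w⁆ * z⁻¹ = ⁅y, w⁆ := by
      rw [mem_centralizer_iff] at h₂
      rw [h₂ z hz]; group
    rw [e, e2]; exact mul_mem h₁ h₂
  | inv_left y z hy hz h₁ =>
    have e : ⁅y⁻¹, z⁆ = y⁻¹ * ⁅y, z⁆⁻¹ * y := by
      simp only [commutatorElement_def]; group
    have e2 : y⁻¹ * ⁅y, z⁆⁻¹ * y = ⁅y, z⁆⁻¹ := by
      have h₁' := inv_mem h₁
      rw [mem_centralizer_iff] at h₁'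
      rw [mul_assoc, ← h₁' y hy]; group
    rw [e, e2]; exact inv_mem h₁
  | inv_right y z hy hz h₁ =>
    have e : ⁅y, z⁻¹⁆ = z⁻¹ * ⁅y, z⁆⁻¹ * z := by
      simp only [commutatorElement_def]; group
    have e2 : z⁻¹ * ⁅y, z⁆⁻¹ * z = ⁅y, z⁆⁻¹ := by
      have h₁' := inv_mem h₁
      rw [mem_centralizer_iff] at h₁'
      rw [mul_assoc, ← h₁' z hz]; group
    rw [e, e2]; exact inv_mem h₁


/-- The family behind `D*` is invariant under conjugation. -/
theorem dStarFamily_conj {S : Type*} [Group S] {A : Subgroup S} (hA : A ∈ Cfsg.dStarFamily S) (t : S) :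
    A.map (MulAut.conj t).toMonoidHom ∈ Cfsg.dStarFamily S := by
  obtain ⟨hcomm, hprop⟩ := hA
  refine ⟨inferInstance, ?_⟩
  intro x hx a' ha'
  set φ : S →* S := (MulAut.conj t).toMonoidHom with hφ
  have hinj : Function.Injective φ := (MulAut.conj t).injective
  set y : S := t⁻¹ * x * t with hy
  have hφy : φ y = x := by
    simp [hφ, hy, MulAut.conj_apply, mul_assoc]
  have hmap : (A ⊔ zpowers y).map φ = A.map φ ⊔ zpowers x := by
    rw [Subgroup.map_sup, MonoidHom.map_zpowers, hφy]
  have h3 : ⁅⁅A ⊔ zpowers y, A ⊔ zpowers y⁆, A ⊔ zpowers y⁆ = ⊥ := by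
    rw [← Subgroup.map_eq_bot_iff_of_injective _ hinj, Subgroup.map_commutator,
      Subgroup.map_commutator, hmap]
    exact hx
  obtain ⟨a, ha, rfl⟩ := ha'
  have := hprop y h3 a ha
  have e1 : φ a = t * a * t⁻¹ := by simp [hφ, MulAut.conj_apply]
  rw [e1]
  have : t * (a * y) * t⁻¹ = t * (y * a) * t⁻¹ := by rw [this]
  simpa [hy, mul_assoc] using this

/-- Any two members of the `D*` family of a finite nilpotent group commute elementwise. -/
theorem dStarFamily_commute {S : Type*} [Group S] [Finite S] [Group.IsNilpotent S] :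
    ∀ n : ℕ, ∀ A B : Subgroup S, A ∈ Cfsg.dStarFamily S → B ∈ Cfsg.dStarFamily S →
      Nat.card ↥(A ⊔ B) = n → ∀ a ∈ A, ∀ b ∈ B, a * b = b * a := by
  intro n
  induction n using Nat.strong_induction_on with
  | _ n ih =>
  -- key claim: conjugates of a proper member under `A ⊔ B` commute with it
  have claim : ∀ A B : Subgroup S, A ∈ Cfsg.dStarFamily S → Nat.card ↥(A ⊔ B) = n →
      A.subgroupOf (A ⊔ B) ≠ ⊤ →
      ∀ t ∈ A ⊔ B, ∀ a ∈ A, ∀ a' ∈ A, (t * a * t⁻¹) * a' = a' * (t * a * t⁻¹) := by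
    intro A B hA hn hne t ht a ha a' ha'
    set T := A ⊔ B with hT
    obtain ⟨M', hM', hAM'⟩ := (eq_top_or_exists_le_coatom (A.subgroupOf T)).resolve_left hne
    have hnorm : M'.Normal :=
      NormalizerCondition.normal_of_coatom M' Group.normalizerCondition_of_isNilpotent hM'
    set M := M'.map T.subtype with hM
    have hAT : A ≤ T := le_sup_left
    have hAM : A ≤ M := by
      intro g hg
      exact ⟨⟨g, hAT hg⟩, hAM' (by simpa [Subgroup.mem_subgroupOf] using hg), rfl⟩
    have hconjM : A.map (MulAut.conj t).toMonoidHom ≤ M := by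
      rintro _ ⟨g, hg, rfl⟩
      have hgM' : (⟨g, hAT hg⟩ : ↥T) ∈ M' := hAM' (by simpa [Subgroup.mem_subgroupOf] using hg)
      have := hnorm.conj_mem _ hgM' ⟨t, ht⟩
      exact ⟨_, this, by simp [MulAut.conj_apply]⟩
    have hcardM : Nat.card ↥M < n := by
      have h1 : Nat.card ↥M = Nat.card ↥M' :=
        Nat.card_congr (M'.equivMapOfInjective T.subtype T.subtype_injective).symm.toEquiv
      rw [h1, ← hn]
      by_contra hcon
      push Not at hcon
      exact hM'.1 (Subgroup.eq_top_of_le_card M' hcon)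
    have hle : A.map (MulAut.conj t).toMonoidHom ⊔ A ≤ M := sup_le hconjM hAM
    have hlt : Nat.card ↥(A.map (MulAut.conj t).toMonoidHom ⊔ A) < n :=
      lt_of_le_of_lt (Subgroup.card_le_of_le hle) hcardM
    exact ih _ hlt _ _ (dStarFamily_conj hA t) hA rfl _ ⟨a, ha, by simp [MulAut.conj_apply]⟩ _ ha'
  intro A B hA hB hn a ha b hb
  by_cases hAtop : A.subgroupOf (A ⊔ B) = ⊤
  · rw [Subgroup.subgroupOf_eq_top] at hAtop
    have hbA : b ∈ A := hAtop (le_sup_right (a := A) hb)
    have := hA.1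
    exact setLike_mul_comm ha hbA
  by_cases hBtop : B.subgroupOf (A ⊔ B) = ⊤
  · rw [Subgroup.subgroupOf_eq_top] at hBtop
    have haB : a ∈ B := hBtop (le_sup_left (b := B) ha)
    have := hB.1
    exact setLike_mul_comm haB hb
  have claimA := claim A B hA hn hAtop
  have hn' : Nat.card ↥(B ⊔ A) = n := by rw [sup_comm]; exact hn
  have hBtop' : B.subgroupOf (B ⊔ A) ≠ ⊤ := by rw [sup_comm]; exact hBtop
  have claimB := claim B A hB hn' hBtop'
  -- commutators are central
  have hcentral : ∀ a ∈ A, (∀ a' ∈ A, a' * ⁅a, b⁆ = ⁅a, b⁆ * a') ∧ b * ⁅a, b⁆ = ⁅a, b⁆ * b := by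
    intro a ha
    have := hA.1
    have := hB.1
    constructor
    · intro a' ha'
      have h1 := claimA b (le_sup_right (a := A) hb) a⁻¹ (inv_mem ha) a' ha'
      have h2 : a * a' = a' * a := setLike_mul_comm ha ha'
      have e : ⁅a, b⁆ = a * (b * a⁻¹ * b⁻¹) := by simp only [commutatorElement_def]; group
      rw [e]
      generalize b * a⁻¹ * b⁻¹ = X at h1
      calc a' * (a * X) = (a' * a) * X := by rw [mul_assoc]
        _ = (a * a') * X := by rw [h2]
        _ = a * (a' * X) := by rw [mul_assoc]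
        _ = a * (X * a') := by rw [h1]
        _ = a * X * a' := by rw [mul_assoc]
    · have h1 := claimB a (le_sup_right (a := B) ha) b hb b hb
      have e : ⁅a, b⁆ = (a * b * a⁻¹) * b⁻¹ := by simp only [commutatorElement_def]
      rw [e]
      generalize a * b * a⁻¹ = Y at h1
      calc b * (Y * b⁻¹) = (b * Y) * b⁻¹ := by rw [mul_assoc]
        _ = (Y * b) * b⁻¹ := by rw [h1]
        _ = Y * b⁻¹ * b := by group
  have h3 := triple_comm_eq_bot_of_central A hA.1 b hcentral
  exact hA.2 b h3 a ha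

/-- `D*(S)` belongs to its own defining family. -/
theorem dStar_mem_family {S : Type*} [Group S] [Finite S] [Group.IsNilpotent S] :
    Cfsg.dStar S ∈ Cfsg.dStarFamily S := by
  have hcomm : ∀ A B : Subgroup S, A ∈ Cfsg.dStarFamily S → B ∈ Cfsg.dStarFamily S →
      ∀ a ∈ A, ∀ b ∈ B, a * b = b * a :=
    fun A B hA hB => dStarFamily_commute _ A B hA hB rfl
  constructor
  · unfold Cfsg.dStar
    rw [sSup_eq_iSup', Subgroup.iSup_eq_closure]
    apply Subgroup.isMulCommutative_closure
    intro x hx y hy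
    simp only [Set.mem_iUnion] at hx hy
    obtain ⟨A, hxA⟩ := hx
    obtain ⟨B, hyB⟩ := hy
    exact hcomm A B A.2 B.2 x hxA y hyB
  · intro x hx a ha
    -- every member is centralized by x
    have hle : Cfsg.dStar S ≤ centralizer ({x} : Set S) := by
      unfold Cfsg.dStar
      apply sSup_le
      intro A hA a ha
      rw [mem_centralizer_iff]
      intro y hy
      rw [Set.mem_singleton_iff] at hy; subst hy
      have hAle : A ≤ Cfsg.dStar S := le_sSup hA
      have hmono : A ⊔ zpowers y ≤ Cfsg.dStar S ⊔ zpowers y := sup_le_sup_right hAle _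
      have h3 : ⁅⁅A ⊔ zpowers y, A ⊔ zpowers y⁆, A ⊔ zpowers y⁆ = ⊥ := by
        rw [eq_bot_iff, ← hx]
        exact Subgroup.commutator_mono (Subgroup.commutator_mono hmono hmono) hmono
      exact (hA.2 y h3 a ha).symm
    have := hle ha
    rw [mem_centralizer_iff] at this
    exact (this x (Set.mem_singleton x)).symm

end Cfsg.Agent.Helper51
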