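import Mathlib
import Cfsg.Prelude.Def_DStar
import Cfsg.Prelude.Def_PLocal
import Cfsg.Agent.Lib.Helper51.DStar

set_option autoImplicit false

namespace Cfsg.Agent.Helper51

open Subgroup
open scoped commutatorElement

theorem card_mul_relIndex_of_le {G : Type*} [Group G] (H K : Subgroup G) (h : H ≤ K) :
    Nat.card ↥H * H.relIndex K = Nat.card ↥K := by
  have := Subgroup.relIndex_mul_relIndex (⊥ : Subgroup G) H K bot_le h
  rwa [Subgroup.relIndex_bot_left, Subgroup.relIndex_bot_left] at this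

theorem commElt_mul_right {G : Type*} [Group G] (y z w : G) :
    ⁅y, z * w⁆ = ⁅y, z⁆ * (z * ⁅y, w⁆ * z⁻¹) := by
  simp only [commutatorElement_def]; group

/-- Key computation in Thompson's replacement theorem. -/
theorem replacement_key {S : Type*} [Group S] (A : Subgroup S) (hA : IsMulCommutative A) (x u w : S)
    (hu : u ∈ A) (hw : w ∈ A)
    (hMcomm : ∀ a ∈ A, ∀ a' ∈ A, ⁅x, a⁆ * ⁅x, a'⁆ = ⁅x, a'⁆ * ⁅x, a⁆)
    (h : ⁅x, u⁆⁻¹ * ⁅x, w⁆ ∈ A) :
    ∀ a ∈ A, ⁅x, a⁆ * (u⁻¹ * w) = (u⁻¹ * w) * ⁅x, a⁆ := by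
  set t := u⁻¹ * w with ht
  have htA : t ∈ A := mul_mem (inv_mem hu) hw
  have hw' : w = u * t := by rw [ht]; group
  have hc : ⁅x, t⁆ ∈ A := by
    have e : ⁅x, u⁆⁻¹ * ⁅x, w⁆ = u * ⁅x, t⁆ * u⁻¹ := by
      rw [hw', commElt_mul_right]; group
    rw [e] at h
    have := mul_mem (mul_mem (inv_mem hu) h) hu
    have e2 : u⁻¹ * (u * ⁅x, t⁆ * u⁻¹) * u = ⁅x, t⁆ := by group
    rwa [e2] at this
  intro a ha
  have hta : t * a = a * t := setLike_mul_comm htA ha
  have e1 : ⁅x, t * a⁆ = ⁅x, t⁆ * (t * ⁅x, a⁆ * t⁻¹) := commElt_mul_right _ _ _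
  have e2 : ⁅x, a * t⁆ = ⁅x, a⁆ * ⁅x, t⁆ := by
    rw [commElt_mul_right]
    have : a * ⁅x, t⁆ = ⁅x, t⁆ * a := setLike_mul_comm ha hc
    rw [this]; group
  rw [hta, e2, hMcomm a ha t htA] at e1
  have e3 : ⁅x, a⁆ = t * ⁅x, a⁆ * t⁻¹ := mul_left_cancel e1
  calc ⁅x, a⁆ * t = (t * ⁅x, a⁆ * t⁻¹) * t := by rw [← e3]
    _ = t * ⁅x, a⁆ := by group

/-- Thompson's replacement theorem (core step), with the replacement inside the normal closure. -/
theorem thompson_replacement_core' {S : Type*} [Group S] [Finite S] (A D : Subgroup S)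
    (hA : A ∈ Cfsg.maxAbelianSubgroups S) (hD : IsMulCommutative D) (x : S)
    (hx : x ∉ normalizer (A : Set S)) (hxa : ∀ a ∈ A, ⁅x, a⁆ ∈ D ⊓ normalizer (A : Set S)) :
    ∃ B ∈ Cfsg.maxAbelianSubgroups S, A ⊓ D < B ⊓ D ∧ B ≤ normalizer (A : Set S) ∧
      B ≤ Subgroup.normalClosure (A : Set S) := by
  have hAc : IsMulCommutative A := hA.1
  set gen : Set S := {g | ∃ a ∈ A, g = ⁅x, a⁆} with hgen
  set M : Subgroup S := closure gen with hM
  have hgenD : gen ⊆ (D : Set S) := by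
    rintro g ⟨a, ha, rfl⟩; exact (hxa a ha).1
  have hgenN : gen ⊆ (normalizer (A : Set S) : Set S) := by
    rintro g ⟨a, ha, rfl⟩; exact (hxa a ha).2
  have hMD : M ≤ D := (closure_le D).mpr hgenD
  have hMN : M ≤ normalizer (A : Set S) := (closure_le _).mpr hgenN
  have hMcomm : ∀ m ∈ M, ∀ m' ∈ M, m * m' = m' * m :=
    fun m hm m' hm' => setLike_mul_comm (hMD hm) (hMD hm')
  set C : Subgroup S := A ⊓ centralizer (M : Set S) with hC
  set B : Subgroup S := M ⊔ C with hB
  have hCA : C ≤ A := inf_le_left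
  have hMcentM : M ≤ centralizer (M : Set S) := by
    intro m hm
    rw [mem_centralizer_iff]
    intro m' hm'
    exact hMcomm m' hm' m hm
  -- B is abelian
  have hBc : IsMulCommutative B := by
    have e : B = closure ((M : Set S) ∪ (C : Set S)) := by
      rw [hB, Subgroup.closure_union, closure_eq, closure_eq]
    rw [e]
    apply Subgroup.isMulCommutative_closure
    rintro g (hg | hg) g' (hg' | hg')
    · exact hMcomm g hg g' hg'
    · have this : g' ∈ centralizer (M : Set S) := (Subgroup.mem_inf.mp hg').2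
      rw [mem_centralizer_iff] at this
      exact this g hg
    · have this : g ∈ centralizer (M : Set S) := (Subgroup.mem_inf.mp hg).2
      rw [mem_centralizer_iff] at this
      exact (this g' hg').symm
    · exact setLike_mul_comm (hCA hg) (hCA hg')
  have hBN : B ≤ normalizer (A : Set S) := sup_le hMN (hCA.trans le_normalizer)
  -- A ⊓ D ≤ C
  have hADC : A ⊓ D ≤ C := by
    intro g hg
    rw [Subgroup.mem_inf] at hg
    rw [hC, Subgroup.mem_inf]
    refine ⟨hg.1, ?_⟩
    rw [mem_centralizer_iff]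
    intro m hm
    exact setLike_mul_comm (hMD hm) hg.2
  have hle : A ⊓ D ≤ B ⊓ D := le_inf (hADC.trans le_sup_right) inf_le_right
  -- strictness
  have hex : ∃ a ∈ A, x * a * x⁻¹ ∉ A := by
    by_contra hcon
    push Not at hcon
    exact hx (mem_normalizer_fintype hcon)
  obtain ⟨a₀, ha₀, hna₀⟩ := hex
  have hc₀ : ⁅x, a₀⁆ ∉ A := by
    intro hmem
    apply hna₀
    have := mul_mem hmem ha₀
    have e : ⁅x, a₀⁆ * a₀ = x * a₀ * x⁻¹ := by simp only [commutatorElement_def]; group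
    rwa [e] at this
  have hc₀M : ⁅x, a₀⁆ ∈ M := subset_closure ⟨a₀, ha₀, rfl⟩
  have hlt : A ⊓ D < B ⊓ D := by
    refine lt_of_le_of_ne hle ?_
    intro heq
    have : ⁅x, a₀⁆ ∈ B ⊓ D := ⟨le_sup_left (a := M) hc₀M, hMD hc₀M⟩
    rw [← heq] at this
    exact hc₀ this.1
  -- cardinality
  have hcard : Nat.card ↥A ≤ Nat.card ↥B := by
    have hCB : C ≤ B := le_sup_right
    have hMB : M ≤ B := le_sup_left
    have h1 := card_mul_relIndex_of_le C A hCA
    have h2 := card_mul_relIndex_of_le C B hCB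
    have hne : C.relIndex B ≠ 0 := by
      have : Nat.card ↥B ≠ 0 := Nat.card_pos.ne'
      intro h0; rw [h0, mul_zero] at h2; exact this h2.symm
    have h5 : C.relIndex M ≤ C.relIndex B := relIndex_le_of_le_right hMB hne
    have h4 : (M ⊓ A).relIndex M = C.relIndex M := by
      have e : M ⊓ A = C ⊓ M := by
        rw [hC]
        apply le_antisymm
        · intro g hg; exact ⟨⟨hg.2, hMcentM hg.1⟩, hg.1⟩
        · intro g hg; exact ⟨hg.2, hg.1.1⟩
      rw [e, inf_relIndex_right]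
    have h3 : C.relIndex A ≤ (M ⊓ A).relIndex M := by
      unfold Subgroup.relIndex Subgroup.index
      let φ : (↥A ⧸ C.subgroupOf A) → (↥M ⧸ (M ⊓ A).subgroupOf M) := fun q =>
        QuotientGroup.mk ⟨⁅x, ((q.out : ↥A) : S)⁆, subset_closure ⟨_, (q.out : ↥A).2, rfl⟩⟩
      apply Nat.card_le_card_of_injective φ
      intro q q' hqq'
      simp only [φ] at hqq'
      rw [QuotientGroup.eq] at hqq'
      rw [Subgroup.mem_subgroupOf] at hqq'
      have hmem : ⁅x, ((q.out : ↥A) : S)⁆⁻¹ * ⁅x, ((q'.out : ↥A) : S)⁆ ∈ A := by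
        have := hqq'.2
        simpa using this
      have key := replacement_key A hAc x _ _ (q.out : ↥A).2 (q'.out : ↥A).2
        (fun a ha a' ha' => hMcomm _ (subset_closure ⟨a, ha, rfl⟩) _ (subset_closure ⟨a', ha', rfl⟩))
        hmem
      have hin : ((q.out : ↥A) : S)⁻¹ * ((q'.out : ↥A) : S) ∈ C := by
        show _ ∈ A ⊓ centralizer (M : Set S)
        rw [Subgroup.mem_inf]
        refine ⟨mul_mem (inv_mem (q.out : ↥A).2) (q'.out : ↥A).2, ?_⟩
        apply mem_centralizer_closure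
        rintro g ⟨a, ha, rfl⟩
        exact key a ha
      have : (QuotientGroup.mk (q.out : ↥A) : ↥A ⧸ C.subgroupOf A) = QuotientGroup.mk (q'.out : ↥A) := by
        rw [QuotientGroup.eq, Subgroup.mem_subgroupOf]
        simpa using hin
      simpa using this
    calc Nat.card ↥A = Nat.card ↥C * C.relIndex A := h1.symm
      _ ≤ Nat.card ↥C * (M ⊓ A).relIndex M := Nat.mul_le_mul_left _ h3
      _ = Nat.card ↥C * C.relIndex M := by rw [h4]
      _ ≤ Nat.card ↥C * C.relIndex B := Nat.mul_le_mul_left _ h5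
      _ = Nat.card ↥B := h2
  have hBncl : B ≤ Subgroup.normalClosure (A : Set S) := by
    refine sup_le ?_ (hCA.trans Subgroup.le_normalClosure)
    rw [hM, closure_le]
    rintro g ⟨a, ha, rfl⟩
    have h1 : x * a * x⁻¹ ∈ Subgroup.normalClosure (A : Set S) :=
      Subgroup.normalClosure_normal.conj_mem a (Subgroup.le_normalClosure ha) x
    have h2 : a⁻¹ ∈ Subgroup.normalClosure (A : Set S) :=
      inv_mem (Subgroup.le_normalClosure ha)
    have e : ⁅x, a⁆ = x * a * x⁻¹ * a⁻¹ := by simp only [commutatorElement_def]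
    rw [SetLike.mem_coe, e]
    exact mul_mem h1 h2
  refine ⟨B, ⟨hBc, fun B' hB' => (hA.2 B' hB').trans hcard⟩, hlt, hBN, hBncl⟩

/-- Thompson's replacement theorem (core step). -/
theorem thompson_replacement_core {S : Type*} [Group S] [Finite S] (A D : Subgroup S)
    (hA : A ∈ Cfsg.maxAbelianSubgroups S) (hD : IsMulCommutative D) (x : S)
    (hx : x ∉ normalizer (A : Set S)) (hxa : ∀ a ∈ A, ⁅x, a⁆ ∈ D ⊓ normalizer (A : Set S)) :
    ∃ B ∈ Cfsg.maxAbelianSubgroups S, A ⊓ D < B ⊓ D ∧ B ≤ normalizer (A : Set S) := by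
  obtain ⟨B, hB, h1, h2, _⟩ := thompson_replacement_core' A D hA hD x hx hxa
  exact ⟨B, hB, h1, h2⟩

/-- In a nilpotent group, if the normal subgroup `D` does not normalize `B`, there is
`x ∈ D` outside `N(B)` with `[x, B] ⊆ D ∩ N(B)`. -/
theorem exists_replacement_elt {S : Type*} [Group S] [Group.IsNilpotent S] (D B : Subgroup S)
    (hDn : D.Normal) (hDB : ¬ D ≤ normalizer (B : Set S)) :
    ∃ x ∈ D, x ∉ normalizer (B : Set S) ∧ ∀ b ∈ B, ⁅x, b⁆ ∈ D ⊓ normalizer (B : Set S) := by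
  by_contra hcon
  push Not at hcon
  have hall : ∀ j : ℕ, D ⊓ Subgroup.upperCentralSeries S j ≤ normalizer (B : Set S) := by
    intro j
    induction j with
    | zero =>
      rw [Subgroup.upperCentralSeries_zero, inf_bot_eq]; exact bot_le
    | succ j ihj =>
      intro y hy
      rw [Subgroup.mem_inf] at hy
      by_contra hyN
      obtain ⟨b, hb, hbn⟩ := hcon y hy.1 hyN
      apply hbn
      rw [Subgroup.mem_inf]
      have hmemD : ⁅y, b⁆ ∈ D := by
        have h1 : b * y⁻¹ * b⁻¹ ∈ D := hDn.conj_mem _ (inv_mem hy.1) b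
        have e : ⁅y, b⁆ = y * (b * y⁻¹ * b⁻¹) := by simp only [commutatorElement_def]; group
        rw [e]; exact mul_mem hy.1 h1
      have hmemZ : ⁅y, b⁆ ∈ Subgroup.upperCentralSeries S j :=
        Subgroup.mem_upperCentralSeries_succ_iff.mp hy.2 b
      exact ⟨hmemD, ihj (Subgroup.mem_inf.mpr ⟨hmemD, hmemZ⟩)⟩
  obtain ⟨n, hn⟩ := Group.IsNilpotent.nilpotent S
  have := hall n
  rw [hn, inf_top_eq] at this
  exact hDB this

end Cfsg.Agent.Helper51
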