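import Mathlib
import Cfsg.Prelude.Def_Transfer
import Cfsg.Agent.Lib.Helper51.Replacement
import Cfsg.Agent.Lib.Helper50.ChermakDelgado

set_option autoImplicit false

namespace Cfsg.Agent.Helper51

open Subgroup
open scoped commutatorElement

variable {G : Type*} [Group G]

/-- The fixed points of `B` on `V`. -/
abbrev cv (V B : Subgroup G) : Subgroup G := V ⊓ centralizer (B : Set G)

/-- The measure `|B| * |C_V(B)|`. -/
noncomputable abbrev tm (V B : Subgroup G) : ℕ := Nat.card B * Nat.card ↥(cv V B)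

theorem centralizer_sup_eq (X Y : Subgroup G) :
    centralizer ((X ⊔ Y : Subgroup G) : Set G) =
      centralizer (X : Set G) ⊓ centralizer (Y : Set G) := by
  apply le_antisymm
  · apply le_inf
    · exact centralizer_le (SetLike.coe_subset_coe.mpr le_sup_left)
    · exact centralizer_le (SetLike.coe_subset_coe.mpr le_sup_right)
  · rw [le_centralizer_iff, sup_le_iff]
    constructor
    · rw [← le_centralizer_iff]; exact inf_le_left
    · rw [← le_centralizer_iff]; exact inf_le_right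

theorem comm_mem_of_normalizes {V A : Subgroup G} (hAV : A ≤ normalizer (V : Set G)) {v a : G}
    (hv : v ∈ V) (ha : a ∈ A) : ⁅v, a⁆ ∈ V := by
  have h1 : a * v⁻¹ * a⁻¹ ∈ V := (mem_normalizer_iff.mp (hAV ha) v⁻¹).mp (V.inv_mem hv)
  have e : ⁅v, a⁆ = v * (a * v⁻¹ * a⁻¹) := by simp only [commutatorElement_def]; group
  rw [e]; exact V.mul_mem hv h1

theorem conj_mem_of_normalizes {V A : Subgroup G} (hAV : A ≤ normalizer (V : Set G)) {v a : G}
    (hv : v ∈ V) (ha : a ∈ A) : a * v * a⁻¹ ∈ V :=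
  (mem_normalizer_iff.mp (hAV ha) v).mp hv

/-- The actions of `a` and `b` on `V` commute when `⁅A, A⁆` centralizes `V`. -/
theorem conj_conj_comm {V A : Subgroup G} (hAV : A ≤ normalizer (V : Set G))
    (hab : ⁅A, A⁆ ≤ centralizer (V : Set G)) {u a b : G} (hu : u ∈ V) (ha : a ∈ A) (hb : b ∈ A) :
    a * b * u * b⁻¹ * a⁻¹ = b * a * u * a⁻¹ * b⁻¹ := by
  have hc : ⁅a, b⁆ ∈ centralizer (V : Set G) := hab (commutator_mem_commutator ha hb)
  have hw : b * a * u * a⁻¹ * b⁻¹ ∈ V := by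
    have h1 := conj_mem_of_normalizes hAV hu ha
    have h2 := conj_mem_of_normalizes hAV h1 hb
    have e : b * (a * u * a⁻¹) * b⁻¹ = b * a * u * a⁻¹ * b⁻¹ := by group
    rwa [e] at h2
  have h3 := (mem_centralizer_iff.mp hc) _ hw
  -- h3 : w * ⁅a,b⁆ = ⁅a,b⁆ * w
  have e1 : a * b * u * b⁻¹ * a⁻¹ = ⁅a, b⁆ * (b * a * u * a⁻¹ * b⁻¹) * ⁅a, b⁆⁻¹ := by
    simp only [commutatorElement_def]; group
  rw [e1, ← h3]; group

/-- Symmetry: `a` commutes with `⁅u, b⁆` iff `b` commutes with `⁅u, a⁆`. -/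
theorem comm_symm_of_abelian {V A : Subgroup G} (hVc : ∀ x ∈ V, ∀ y ∈ V, x * y = y * x)
    (hAV : A ≤ normalizer (V : Set G)) (hab : ⁅A, A⁆ ≤ centralizer (V : Set G))
    {u a b : G} (hu : u ∈ V) (ha : a ∈ A) (hb : b ∈ A)
    (h : a * ⁅u, b⁆ = ⁅u, b⁆ * a) : b * ⁅u, a⁆ = ⁅u, a⁆ * b := by
  set x := a * u * a⁻¹ with hx
  set y := b * u * b⁻¹ with hy
  set t := a * b * u * b⁻¹ * a⁻¹ with ht
  have hxV : x ∈ V := conj_mem_of_normalizes hAV hu ha
  have hyV : y ∈ V := conj_mem_of_normalizes hAV hu hb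
  have htV : t ∈ V := by
    have h2 := conj_mem_of_normalizes hAV hyV ha
    have e : a * (b * u * b⁻¹) * a⁻¹ = a * b * u * b⁻¹ * a⁻¹ := by group
    rwa [hy, e] at h2
  have ht' : t = b * a * u * a⁻¹ * b⁻¹ := conj_conj_comm hAV hab hu ha hb
  -- h says x t⁻¹ = u y⁻¹
  have h1 : x * t⁻¹ = u * y⁻¹ := by
    have e1 : x * t⁻¹ = a * ⁅u, b⁆ * a⁻¹ := by
      simp only [hx, ht, commutatorElement_def]; group
    have e2 : u * y⁻¹ = ⁅u, b⁆ := by simp only [hy, commutatorElement_def]; group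
    rw [e1, e2, h]; group
  -- so x y = u t
  have h2 : x * y = u * t := by
    have e : x * y = (x * t⁻¹) * (t * y) := by group
    rw [e, h1, hVc t htV y hyV]; group
  -- goal: y t⁻¹ = u x⁻¹
  have h3 : y * t⁻¹ = u * x⁻¹ := by
    have h2' : y * x = u * t := by rw [hVc y hyV x hxV]; exact h2
    have e : y * t⁻¹ = (y * x) * (x⁻¹ * t⁻¹) := by group
    rw [e, h2', hVc x⁻¹ (V.inv_mem hxV) t⁻¹ (V.inv_mem htV)]; group
  have e1 : y * t⁻¹ = b * ⁅u, a⁆ * b⁻¹ := by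
    rw [ht']; simp only [hy, commutatorElement_def]; group
  have e2 : u * x⁻¹ = ⁅u, a⁆ := by simp only [hx, commutatorElement_def]; group
  rw [e1, e2] at h3
  calc b * ⁅u, a⁆ = (b * ⁅u, a⁆ * b⁻¹) * b := by group
    _ = ⁅u, a⁆ * b := by rw [h3]

/-- The subgroup `[u, A]` generated by the commutators `⁅u, a⁆`, `a ∈ A`. -/
def commSub (A : Subgroup G) (u : G) : Subgroup G := closure {g | ∃ a ∈ A, g = ⁅u, a⁆}

theorem comm_mem_commSub {A : Subgroup G} (u : G) {a : G} (ha : a ∈ A) : ⁅u, a⁆ ∈ commSub A u :=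
  subset_closure ⟨a, ha, rfl⟩

theorem commSub_le {V A : Subgroup G} (hAV : A ≤ normalizer (V : Set G)) {u : G} (hu : u ∈ V) :
    commSub A u ≤ V := by
  unfold commSub
  rw [closure_le]
  rintro g ⟨a, ha, rfl⟩
  exact comm_mem_of_normalizes hAV hu ha

theorem mem_centralizer_commSub_iff {V A : Subgroup G} (hVc : ∀ x ∈ V, ∀ y ∈ V, x * y = y * x)
    (hAV : A ≤ normalizer (V : Set G)) (hab : ⁅A, A⁆ ≤ centralizer (V : Set G))
    {u a : G} (hu : u ∈ V) (ha : a ∈ A) :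
    a ∈ centralizer (commSub A u : Set G) ↔ ⁅u, a⁆ ∈ centralizer (A : Set G) := by
  constructor
  · intro h
    rw [mem_centralizer_iff]
    intro b hb
    have h1 := (mem_centralizer_iff.mp h) _ (comm_mem_commSub u hb)
    exact comm_symm_of_abelian hVc hAV hab hu ha hb h1.symm
  · intro h
    unfold commSub
    apply mem_centralizer_closure
    rintro g ⟨b, hb, rfl⟩
    have h1 := (mem_centralizer_iff.mp h) b hb
    exact (comm_symm_of_abelian hVc hAV hab hu hb ha h1).symm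

theorem single_step [Finite G] {V A : Subgroup G} (hVc : ∀ x ∈ V, ∀ y ∈ V, x * y = y * x)
    (hAV : A ≤ normalizer (V : Set G)) (hab : ⁅A, A⁆ ≤ centralizer (V : Set G))
    (hmax : ∀ B : Subgroup G, B ≤ A → tm V B ≤ tm V A) {u : G} (hu : u ∈ V) :
    tm V (A ⊓ centralizer (commSub A u : Set G)) = tm V A ∧
      cv V (A ⊓ centralizer (commSub A u : Set G)) = commSub A u ⊔ cv V A := by
  set X := commSub A u with hX
  set Au := A ⊓ centralizer (X : Set G) with hAu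
  set C := cv V A with hC
  set W := X ⊔ C with hW
  have hXV : X ≤ V := commSub_le hAV hu
  have hAuA : Au ≤ A := inf_le_left
  have hCW : C ≤ W := le_sup_right
  have hWle : W ≤ cv V Au := by
    apply sup_le
    · apply le_inf hXV
      rw [le_centralizer_iff]
      exact inf_le_right
    · exact inf_le_inf_left V (centralizer_le (SetLike.coe_subset_coe.mpr hAuA))
  have hCcentA : C ≤ centralizer (A : Set G) := inf_le_right
  -- the index inequality
  have hidx : Au.relIndex A ≤ C.relIndex W := by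
    unfold Subgroup.relIndex Subgroup.index
    let φ : (↥A ⧸ Au.subgroupOf A) → (↥W ⧸ C.subgroupOf W) := fun q =>
      QuotientGroup.mk ⟨⁅u, ((q.out : ↥A) : G)⁆,
        le_sup_left (a := X) (comm_mem_commSub u (q.out : ↥A).2)⟩
    apply Nat.card_le_card_of_injective φ
    intro q q' hqq'
    simp only [φ] at hqq'
    rw [QuotientGroup.eq, Subgroup.mem_subgroupOf] at hqq'
    have hmem : ⁅u, ((q.out : ↥A) : G)⁆⁻¹ * ⁅u, ((q'.out : ↥A) : G)⁆ ∈ C := by
      simpa using hqq'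
    set a := ((q.out : ↥A) : G) with ha
    set a' := ((q'.out : ↥A) : G) with ha'
    have haA : a ∈ A := (q.out : ↥A).2
    have ha'A : a' ∈ A := (q'.out : ↥A).2
    have hcA : a⁻¹ * a' ∈ A := A.mul_mem (A.inv_mem haA) ha'A
    have e1 : ⁅u, a'⁆ = ⁅u, a⁆ * (a * ⁅u, a⁻¹ * a'⁆ * a⁻¹) := by
      have : a' = a * (a⁻¹ * a') := by group
      conv_lhs => rw [this]
      exact commElt_mul_right _ _ _
    have hz : a * ⁅u, a⁻¹ * a'⁆ * a⁻¹ ∈ C := by
      have : a * ⁅u, a⁻¹ * a'⁆ * a⁻¹ = ⁅u, a⁆⁻¹ * ⁅u, a'⁆ := by rw [e1]; group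
      rw [this]; exact hmem
    have hz2 : ⁅u, a⁻¹ * a'⁆ ∈ centralizer (A : Set G) := by
      have h1 := (mem_centralizer_iff.mp (hCcentA hz)) a haA
      -- a * z = z * a with z = a * w * a⁻¹ gives w = z
      have h2 : ⁅u, a⁻¹ * a'⁆ = a * ⁅u, a⁻¹ * a'⁆ * a⁻¹ := by
        have : a⁻¹ * (a * (a * ⁅u, a⁻¹ * a'⁆ * a⁻¹)) * a⁻¹⁻¹ =
            a⁻¹ * ((a * ⁅u, a⁻¹ * a'⁆ * a⁻¹) * a) * a⁻¹⁻¹ := by rw [h1]
        have e3 : a⁻¹ * (a * (a * ⁅u, a⁻¹ * a'⁆ * a⁻¹)) * a⁻¹⁻¹ = a * ⁅u, a⁻¹ * a'⁆ * a⁻¹ * a := by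
          group
        have e4 : a⁻¹ * ((a * ⁅u, a⁻¹ * a'⁆ * a⁻¹) * a) * a⁻¹⁻¹ = ⁅u, a⁻¹ * a'⁆ * a := by group
        rw [e3, e4] at this
        exact (mul_right_cancel this).symm
      rw [h2]; exact hCcentA hz
    have hin : a⁻¹ * a' ∈ Au := by
      rw [hAu, mem_inf]
      exact ⟨hcA, (mem_centralizer_commSub_iff hVc hAV hab hu hcA).mpr hz2⟩
    have : (QuotientGroup.mk (q.out : ↥A) : ↥A ⧸ Au.subgroupOf A) =
        QuotientGroup.mk (q'.out : ↥A) := by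
      rw [QuotientGroup.eq, Subgroup.mem_subgroupOf]
      simpa using hin
    simpa using this
  -- arithmetic
  have h1 := card_mul_relIndex_of_le Au A hAuA
  have h2 := card_mul_relIndex_of_le C W hCW
  have h3 : Nat.card ↥W ≤ Nat.card ↥(cv V Au) := Subgroup.card_le_of_le hWle
  have h4 := hmax Au hAuA
  have hchain : tm V A ≤ Nat.card ↥Au * Nat.card ↥W := by
    calc tm V A = Nat.card ↥Au * Au.relIndex A * Nat.card ↥C := by rw [h1]
      _ ≤ Nat.card ↥Au * C.relIndex W * Nat.card ↥C := by gcongr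
      _ = Nat.card ↥Au * (Nat.card ↥C * C.relIndex W) := by ring
      _ = Nat.card ↥Au * Nat.card ↥W := by rw [h2]
  have hchain2 : Nat.card ↥Au * Nat.card ↥W ≤ tm V Au := Nat.mul_le_mul_left _ h3
  have heq1 : tm V Au = tm V A := le_antisymm h4 (hchain.trans hchain2)
  refine ⟨heq1, ?_⟩
  have hcardeq : Nat.card ↥(cv V Au) ≤ Nat.card ↥W := by
    have hpos : 0 < Nat.card ↥Au := Nat.card_pos
    have : Nat.card ↥Au * Nat.card ↥(cv V Au) ≤ Nat.card ↥Au * Nat.card ↥W := by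
      calc Nat.card ↥Au * Nat.card ↥(cv V Au) = tm V Au := rfl
        _ = tm V A := heq1
        _ ≤ Nat.card ↥Au * Nat.card ↥W := hchain
    exact Nat.le_of_mul_le_mul_left this hpos
  exact (Subgroup.eq_of_le_of_card_ge hWle hcardeq).symm

/-- The property propagated through the lattice argument. -/
def GoodSub (V A X : Subgroup G) : Prop :=
  tm V (A ⊓ centralizer (X : Set G)) = tm V A ∧ cv V (A ⊓ centralizer (X : Set G)) = X ⊔ cv V A

theorem goodSub_bot (V A : Subgroup G) : GoodSub V A ⊥ := by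
  unfold GoodSub
  have h : A ⊓ centralizer ((⊥ : Subgroup G) : Set G) = A := by
    rw [inf_eq_left]
    intro a _
    rw [mem_centralizer_iff]
    intro x hx
    have : x = 1 := hx
    rw [this, one_mul, mul_one]
  rw [h, bot_sup_eq]
  exact ⟨rfl, rfl⟩

theorem goodSub_sup [Finite G] {V A X Y : Subgroup G}
    (hmax : ∀ B : Subgroup G, B ≤ A → tm V B ≤ tm V A)
    (hX : GoodSub V A X) (hY : GoodSub V A Y) : GoodSub V A (X ⊔ Y) := by
  unfold GoodSub at *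
  obtain ⟨hX1, hX2⟩ := hX
  obtain ⟨hY1, hY2⟩ := hY
  set BX := A ⊓ centralizer (X : Set G) with hBX
  set BY := A ⊓ centralizer (Y : Set G) with hBY
  have hB : A ⊓ centralizer ((X ⊔ Y : Subgroup G) : Set G) = BX ⊓ BY := by
    rw [centralizer_sup_eq, hBX, hBY]
    ext g
    simp only [mem_inf]
    tauto
  rw [hB]
  set CX := cv V BX with hCX
  set CY := cv V BY with hCY
  have hsupA : BX ⊔ BY ≤ A := sup_le inf_le_left inf_le_left
  have hinfA : BX ⊓ BY ≤ A := inf_le_left.trans inf_le_left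
  have hcvsup : cv V (BX ⊔ BY) = CX ⊓ CY := by
    show V ⊓ centralizer ((BX ⊔ BY : Subgroup G) : Set G) = _
    rw [centralizer_sup_eq, hCX, hCY]
    ext g
    simp only [mem_inf]
    tauto
  have hcvinf : CX ⊔ CY ≤ cv V (BX ⊓ BY) := by
    apply sup_le
    · exact inf_le_inf_left V (centralizer_le (SetLike.coe_subset_coe.mpr inf_le_left))
    · exact inf_le_inf_left V (centralizer_le (SetLike.coe_subset_coe.mpr inf_le_right))
  have i1 := Cfsg.Agent.Helper50.card_mul_card_le BX BY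
  have i2 := Cfsg.Agent.Helper50.card_mul_card_le CX CY
  have i3 : Nat.card ↥(CX ⊔ CY) ≤ Nat.card ↥(cv V (BX ⊓ BY)) := Subgroup.card_le_of_le hcvinf
  have m1 : tm V (BX ⊔ BY) ≤ tm V A := hmax _ hsupA
  have m2 : tm V (BX ⊓ BY) ≤ tm V A := hmax _ hinfA
  have hm1 : tm V (BX ⊔ BY) = Nat.card ↥(BX ⊔ BY) * Nat.card ↥(CX ⊓ CY) := by
    show Nat.card ↥(BX ⊔ BY) * Nat.card ↥(cv V (BX ⊔ BY)) = _
    rw [hcvsup]
  have hXm : Nat.card ↥BX * Nat.card ↥CX = tm V A := hX1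
  have hYm : Nat.card ↥BY * Nat.card ↥CY = tm V A := hY1
  have hpos : 0 < tm V A := Nat.mul_pos Nat.card_pos Nat.card_pos
  -- tm A * tm A ≤ tm A * (|BX ⊓ BY| * |CX ⊔ CY|)
  have key : tm V A * tm V A ≤ tm V A * (Nat.card ↥(BX ⊓ BY) * Nat.card ↥(CX ⊔ CY)) := by
    calc tm V A * tm V A = (Nat.card ↥BX * Nat.card ↥CX) * (Nat.card ↥BY * Nat.card ↥CY) := by
          rw [hXm, hYm]
      _ = (Nat.card ↥BX * Nat.card ↥BY) * (Nat.card ↥CX * Nat.card ↥CY) := by ring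
      _ ≤ (Nat.card ↥(BX ⊔ BY) * Nat.card ↥(BX ⊓ BY)) *
            (Nat.card ↥(CX ⊔ CY) * Nat.card ↥(CX ⊓ CY)) := Nat.mul_le_mul i1 i2
      _ = (Nat.card ↥(BX ⊔ BY) * Nat.card ↥(CX ⊓ CY)) *
            (Nat.card ↥(BX ⊓ BY) * Nat.card ↥(CX ⊔ CY)) := by ring
      _ = tm V (BX ⊔ BY) * (Nat.card ↥(BX ⊓ BY) * Nat.card ↥(CX ⊔ CY)) := by rw [hm1]
      _ ≤ tm V A * (Nat.card ↥(BX ⊓ BY) * Nat.card ↥(CX ⊔ CY)) := Nat.mul_le_mul_right _ m1
  have key2 : tm V A ≤ Nat.card ↥(BX ⊓ BY) * Nat.card ↥(CX ⊔ CY) :=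
    Nat.le_of_mul_le_mul_left key hpos
  have key3 : Nat.card ↥(BX ⊓ BY) * Nat.card ↥(CX ⊔ CY) ≤ tm V (BX ⊓ BY) :=
    Nat.mul_le_mul_left _ i3
  have heq : tm V (BX ⊓ BY) = tm V A := le_antisymm m2 (key2.trans key3)
  refine ⟨heq, ?_⟩
  have hcardle : Nat.card ↥(cv V (BX ⊓ BY)) ≤ Nat.card ↥(CX ⊔ CY) := by
    have hpos' : 0 < Nat.card ↥(BX ⊓ BY) := Nat.card_pos
    have : Nat.card ↥(BX ⊓ BY) * Nat.card ↥(cv V (BX ⊓ BY)) ≤
        Nat.card ↥(BX ⊓ BY) * Nat.card ↥(CX ⊔ CY) := by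
      calc Nat.card ↥(BX ⊓ BY) * Nat.card ↥(cv V (BX ⊓ BY)) = tm V (BX ⊓ BY) := rfl
        _ = tm V A := heq
        _ ≤ _ := key2
    exact Nat.le_of_mul_le_mul_left this hpos'
  have h5 : cv V (BX ⊓ BY) = CX ⊔ CY := (Subgroup.eq_of_le_of_card_ge hcvinf hcardle).symm
  rw [h5, hX2, hY2]
  -- (X ⊔ C) ⊔ (Y ⊔ C) = (X ⊔ Y) ⊔ C
  exact (sup_sup_distrib_right X Y (cv V A)).symm

/-- Thompson's replacement dichotomy (Kurzweil–Stellmacher 9.2.1), maximal case. -/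
theorem goodSub_commutator [Finite G] {V A : Subgroup G} (hVc : ∀ x ∈ V, ∀ y ∈ V, x * y = y * x)
    (hAV : A ≤ normalizer (V : Set G)) (hab : ⁅A, A⁆ ≤ centralizer (V : Set G))
    (hmax : ∀ B : Subgroup G, B ≤ A → tm V B ≤ tm V A) {U : Subgroup G} (hU : U ≤ V) :
    GoodSub V A ⁅U, A⁆ := by
  have hne : Nonempty {X : Subgroup G // X ≤ ⁅U, A⁆ ∧ GoodSub V A X} :=
    ⟨⟨⊥, bot_le, goodSub_bot V A⟩⟩
  obtain ⟨⟨X, hXle, hXg⟩, hXmax⟩ := Finite.exists_max
    (fun X : {X : Subgroup G // X ≤ ⁅U, A⁆ ∧ GoodSub V A X} => Nat.card ↥(X : Subgroup G))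
  have hle : ⁅U, A⁆ ≤ X := by
    rw [Subgroup.commutator_def, closure_le]
    rintro g ⟨u, hu, a, ha, rfl⟩
    by_contra hg
    have hgood : GoodSub V A (X ⊔ commSub A u) :=
      goodSub_sup hmax hXg (single_step hVc hAV hab hmax (hU hu))
    have hsub : commSub A u ≤ ⁅U, A⁆ := by
      unfold commSub
      rw [closure_le]
      rintro g' ⟨a', ha', rfl⟩
      exact commutator_mem_commutator hu ha'
    have hle' : X ⊔ commSub A u ≤ ⁅U, A⁆ := sup_le hXle hsub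
    have h1 := hXmax ⟨X ⊔ commSub A u, hle', hgood⟩
    simp only at h1
    have hlt : X < X ⊔ commSub A u := by
      refine lt_of_le_of_ne le_sup_left ?_
      intro heq
      apply hg
      rw [heq]
      exact le_sup_right (a := X) (comm_mem_commSub u ha)
    have h2 : Nat.card ↥X < Nat.card ↥(X ⊔ commSub A u) := by
      by_contra hcon
      push Not at hcon
      exact (lt_irrefl _ (lt_of_lt_of_le hlt (Subgroup.eq_of_le_of_card_ge hlt.le hcon).ge))
    omega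
  have : X = ⁅U, A⁆ := le_antisymm hXle hle
  rw [← this]; exact hXg

end Cfsg.Agent.Helper51
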