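import Cfsg.Agent.Lib.Helper51.CTCount10

/-!
# Counting in finite groups whose non-central centralizers are abelian, XI: the main theorem

If `G` is a finite group, `p` an odd prime, `Z` a central `p'`-subgroup such that every
non-central centralizer is abelian (plus the structural hypotheses `Hyp`, `HypB`), and `G` has
more than one Sylow `p`-subgroup `U`, then the number of Sylow `p`-subgroups is `|U| + 1`,
unless `p = 3` and every element has its square, cube or fifth power in `Z`.
-/

set_option autoImplicit false
set_option linter.unusedSectionVars false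
set_option linter.unusedVariables false
set_option linter.style.haveILetI false
set_option maxHeartbeats 1600000

namespace Cfsg.Agent.Helper51.CT

variable {G : Type*} [Group G] [Finite G] {p : ℕ} [Fact p.Prime] {Z : Subgroup G}

theorem Hyp.exists_not_mem_cls (h : Hyp p Z) {x : G} (hx : x ∈ semis p Z)
    (hne : (semis p Z).ncard ≠ (cls Z x).ncard) : ∃ y ∈ semis p Z, y ∉ cls Z x := by
  by_contra hno
  push Not at hno
  exact hne (h.ncard_semis_eq_one hx hno)

theorem Hyp.main (h : Hyp p Z) (hp : p ≠ 2) (U : Sylow p G) (hN : 1 < Nat.card (Sylow p G))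
    (hB : HypB p Z (U : Subgroup G)) :
    Nat.card (Sylow p G) = Nat.card (U : Subgroup G) + 1 ∨
      (p = 3 ∧ ∀ y : G, y ^ 2 ∈ Z ∨ y ^ 3 ∈ Z ∨ y ^ 5 ∈ Z) := by
  obtain ⟨hU, hq3, ⟨k, hk1, hNk⟩, ⟨e, he1, hBcard⟩, hG⟩ := h.setup hp U hN
  have hz1 : 1 ≤ Nat.card Z := Nat.card_pos
  have hsum := ncard_unip_add_semis p Z
  rw [h.ncard_unip U hU] at hsum
  have hGe : Nat.card G = Nat.card (Sylow p G) *
      (e * (Nat.card Z * Nat.card (U : Subgroup G))) := by rw [hG, hBcard]
  have hS : (semis p Z).ncard + Nat.card Z + Nat.card (Sylow p G) *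
      (Nat.card Z * Nat.card (U : Subgroup G) - Nat.card Z) =
      Nat.card (Sylow p G) * (e * (Nat.card Z * Nat.card (U : Subgroup G))) := by
    rw [← hGe]; linarith
  have hN2 : 2 ≤ Nat.card (Sylow p G) := hN
  -- facts about classes, in numeric form
  have hfour : ∀ x ∈ semis p Z, Nat.card (Sylow p G) *
      (e * (Nat.card Z * Nat.card (U : Subgroup G))) ≤ 4 * (cls Z x).ncard := by
    intro x hx
    rw [← hGe]; exact h.card_le_four_mul_ncard_cls hx
  have htwo : ∀ x ∈ semis p Z,
      Nat.card (Subgroup.normalizer ((cent x : Subgroup G) : Set G)) = Nat.card (cent x) →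
      Nat.card (Sylow p G) *
      (e * (Nat.card Z * Nat.card (U : Subgroup G))) ≤ 2 * (cls Z x).ncard := by
    intro x hx hM
    rw [← hGe]; exact h.card_le_two_mul_ncard_cls hx hM
  have hcls : ∀ x ∈ semis p Z, (cls Z x).ncard *
      Nat.card (Subgroup.normalizer ((cent x : Subgroup G) : Set G)) =
      Nat.card (Sylow p G) * (e * (Nat.card Z * Nat.card (U : Subgroup G))) *
        (Nat.card (cent x) - Nat.card Z) := by
    intro x hx
    rw [← hGe]; exact h.ncard_cls hx.1
  rcases Nat.lt_or_ge e 2 with he2 | he2
  · -- `e = 1`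
    have he : e = 1 := by omega
    subst he
    left
    simp only [one_mul] at hS hfour htwo hcls hGe
    have hS1 : (semis p Z).ncard + Nat.card Z = Nat.card Z * Nat.card (Sylow p G) := by
      have h1 : Nat.card (Sylow p G) *
          (Nat.card Z * Nat.card (U : Subgroup G) - Nat.card Z) +
          Nat.card (Sylow p G) * Nat.card Z =
          Nat.card (Sylow p G) * (Nat.card Z * Nat.card (U : Subgroup G)) := by
        rw [← Nat.mul_add, Nat.sub_add_cancel]
        exact Nat.le_mul_of_pos_right _ (by omega)
      linarith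
    have hSpos : 0 < (semis p Z).ncard := by nlinarith
    obtain ⟨x, hx⟩ := (Set.ncard_pos).mp hSpos
    apply core_e_one (Nat.card (Sylow p G)) (Nat.card (U : Subgroup G)) (Nat.card Z)
      (semis p Z).ncard hz1 hN2 hq3 hS1 (cls Z x).ncard (Nat.card (cent x))
      (Nat.card (Subgroup.normalizer ((cent x : Subgroup G) : Set G)))
      (h.ncard_cls_le hx)
    · have := hfour x hx
      calc Nat.card (Sylow p G) * Nat.card Z * Nat.card (U : Subgroup G)
          = Nat.card (Sylow p G) * (Nat.card Z * Nat.card (U : Subgroup G)) := by ring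
        _ ≤ _ := this
    · exact h.card_normalizer_cases hx
    · intro hM
      have := htwo x hx hM
      calc Nat.card (Sylow p G) * Nat.card Z * Nat.card (U : Subgroup G)
          = Nat.card (Sylow p G) * (Nat.card Z * Nat.card (U : Subgroup G)) := by ring
        _ ≤ _ := this
    · rw [hcls x hx]; ring
    · exact h.two_mul_card_Z_le hx.1
    · exact Subgroup.card_dvd_of_le (h.Z_le_cent x)
    · intro hne
      obtain ⟨y, hy, hyx⟩ := h.exists_not_mem_cls hx hne
      refine ⟨(cls Z y).ncard, h.ncard_two_cls_le hx hy hyx, ?_⟩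
      have := hfour y hy
      calc Nat.card (Sylow p G) * Nat.card Z * Nat.card (U : Subgroup G)
          = Nat.card (Sylow p G) * (Nat.card Z * Nat.card (U : Subgroup G)) := by ring
        _ ≤ _ := this
  · -- `e ≥ 2`
    obtain ⟨c₀, hc₀, hT₀, heq⟩ := h.exists_torus U hU hB hBcard he2
    have hSZ := coreS _ _ _ _ _ hq3 hz1 hS
    have ha := hcls c₀ hc₀
    rw [hT₀] at ha
    rcases h.card_normalizer_cases hc₀ with hM | hM
    · exfalso
      rw [hM, hT₀] at ha
      apply coreA _ _ _ _ _ _ hN2 hq3 hz1 he2 hSZ ha
      intro hne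
      obtain ⟨y, hy, hyx⟩ := h.exists_not_mem_cls hc₀ hne
      exact ⟨(cls Z y).ncard, h.ncard_two_cls_le hc₀ hy hyx, hfour y hy⟩
    · rw [hM, hT₀] at ha
      obtain ⟨hSa, hthree, htwo', hfinal⟩ :=
        coreB _ _ _ _ _ _ k hN2 hq3 hz1 he2 heq hk1 hNk hSZ ha
      obtain ⟨x, hx, hxc⟩ := h.exists_not_mem_cls hc₀ hSa
      have hall : ∀ w ∈ semis p Z, w ∈ cls Z c₀ ∨ w ∈ cls Z x := by
        intro w hw
        by_contra hno
        push Not at hno
        exact hthree _ _ (h.ncard_three_cls_le hc₀ hx hw hxc hno.1 hno.2) (hfour x hx)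
          (hfour w hw)
      have hSab := h.ncard_semis_eq_two hc₀ hx hxc hall
      rcases h.card_normalizer_cases hx with hMx | hMx
      · exfalso
        exact htwo' _ hSab (htwo x hx hMx)
      · have hb := hcls x hx
        rw [hMx] at hb
        rcases hfinal _ _ hSab (h.two_mul_card_Z_le hx.1)
          (Subgroup.card_dvd_of_le (h.Z_le_cent x)) hb with hk | ⟨hq, hk, he, hT⟩
        · left
          rw [hNk, hk]; ring
        · right
          have hp3 : p = 3 := by
            obtain ⟨n, hn⟩ := IsPGroup.iff_card.mp U.isPGroup'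
            rw [hq] at hn
            have hpd : p ∣ 3 := by
              rcases n with _ | n
              · simp at hn
              · rw [hn]; exact dvd_pow_self p (Nat.succ_ne_zero n)
            exact ((Nat.prime_dvd_prime_iff_eq (Fact.out : p.Prime) Nat.prime_three).mp hpd)
          refine ⟨hp3, fun y => ?_⟩
          by_cases hyZ : y ∈ Z
          · left; exact Z.pow_mem hyZ 2
          by_cases hyp : p ∣ Nat.card (cent y)
          · -- unipotent type
            right; left
            obtain ⟨P, hP⟩ := h.exists_sylow_of_unip (⟨hyZ, hyp⟩ : y ∈ unip p Z)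
            have hc := (h.cent_of_mem_sup P hP hyZ).1
            have hPne : (P : Subgroup G) ≠ ⊥ := by
              intro hh
              rw [hh, sup_bot_eq] at hP
              exact hyZ hP
            have hPU : Nat.card (P : Subgroup G) = Nat.card (U : Subgroup G) := by
              rw [Sylow.card_eq_multiplicity, Sylow.card_eq_multiplicity]
            apply h.pow_mem_of_card_cent
            rw [hc, (h.cent_sylow P hPne).1, hPU, hq]
          · have hys : y ∈ semis p Z := ⟨hyZ, hyp⟩
            rcases hall y hys with hy1 | hy1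
            · left
              apply h.pow_mem_of_card_cent
              rw [card_cent_of_mem_cls hy1, hT₀, he]
            · right; right
              apply h.pow_mem_of_card_cent
              rw [card_cent_of_mem_cls hy1, hT]; ring

end Cfsg.Agent.Helper51.CT
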