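import Mathlib
import Cfsg.Agent.S1451

/-!
# R3 for S1402 (BG Lemma 9.5)

`X` solvable of odd order with `RankLE 2 (fittingSubgroup X)` and `X` nontrivial: the largest prime
divisor `q` of `|X|` has a normal Sylow `q`-subgroup (from S1451, third clause, with `p := q - 1`).
-/

set_option autoImplicit false
open Cfsg

namespace Cfsg.Agent.Helper51.BG95R3

/-- Subgroup form: a characteristic `q`-subgroup `N` with `q ∤ [X : N]` for the largest prime `q`. -/
theorem r3_sub {X : Type*} [Group X] [Finite X] [Group.IsSolvable X] (hodd : Odd (Nat.card X))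
    (hr : Cfsg.RankLE 2 (Cfsg.fittingSubgroup X)) [Nontrivial X] :
    ∃ q : ℕ, q.Prime ∧ q ∣ Nat.card X ∧ (∀ r : ℕ, r.Prime → r ∣ Nat.card X → r ≤ q) ∧
      ∃ N : Subgroup X, N.Characteristic ∧ IsPGroup q N ∧ ¬ q ∣ N.index := by
  classical
  have hcard : 1 < Nat.card X := Finite.one_lt_card
  have hne : Nat.card X ≠ 0 := by omega
  -- the largest prime factor
  have hnonempty : (Nat.card X).primeFactors.Nonempty := by
    rw [Nat.nonempty_primeFactors]; exact hcard
  set q := (Nat.card X).primeFactors.max' hnonempty with hqdef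
  have hqmem : q ∈ (Nat.card X).primeFactors := Finset.max'_mem _ _
  have hqp : q.Prime := Nat.prime_of_mem_primeFactors hqmem
  have hqd : q ∣ Nat.card X := Nat.dvd_of_mem_primeFactors hqmem
  have hmax : ∀ r : ℕ, r.Prime → r ∣ Nat.card X → r ≤ q := by
    intro r hr hrd
    exact Finset.le_max' _ _ (Nat.mem_primeFactors.mpr ⟨hr, hrd, hne⟩)
  have hfact : Fact q.Prime := ⟨hqp⟩
  obtain ⟨N, hNchar, hNpi, hNhall⟩ := (Cfsg.Agent.S1451.result hodd (Or.inr hr)).2.2 (q - 1)
  -- N is a q-group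
  have hNq : IsPGroup q N := by
    have hNcard : ∀ r : ℕ, r.Prime → r ∣ Nat.card N → r = q := by
      intro r hrp hrd
      have h1 := hNpi r hrp hrd
      have h2 : r ≤ q := hmax r hrp (hrd.trans (Subgroup.card_subgroup_dvd_card N))
      have h3 : q - 1 < r := h1.2
      omega
    have hN0 : Nat.card N ≠ 0 := Nat.card_pos.ne'
    have := Nat.eq_prime_pow_of_unique_prime_dvd hN0 (fun {d} hd hdd => hNcard d hd hdd)
    exact IsPGroup.of_card this
  have hNidx : ¬ q ∣ N.index := hNhall q hqp ⟨hqp, by have := hqp.pos; omega⟩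
  exact ⟨q, hqp, hqd, hmax, N, hNchar, hNq, hNidx⟩

/-- Sylow form (R3 of helper73's list for S1402). -/
theorem r3 {X : Type*} [Group X] [Finite X] [Group.IsSolvable X] (hodd : Odd (Nat.card X))
    (hr : Cfsg.RankLE 2 (Cfsg.fittingSubgroup X)) [Nontrivial X] :
    ∃ q : ℕ, q.Prime ∧ q ∣ Nat.card X ∧ (∀ r : ℕ, r.Prime → r ∣ Nat.card X → r ≤ q) ∧
      ∃ (_ : Fact q.Prime) (Q : Sylow q X), (Q : Subgroup X).Normal := by
  obtain ⟨q, hqp, hqd, hmax, N, hNchar, hNq, hNidx⟩ := r3_sub hodd hr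
  have hfact : Fact q.Prime := ⟨hqp⟩
  refine ⟨q, hqp, hqd, hmax, hfact, hNq.toSylow hNidx, ?_⟩
  rw [IsPGroup.toSylow_coe]
  have := hNchar
  infer_instance

end Cfsg.Agent.Helper51.BG95R3
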