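import Mathlib
import Cfsg.Prelude.Def_OddOrder
import Cfsg.Prelude.Def_OddOrderLocal
import Cfsg.Agent.Lib.Helper54.BGTransitivity
import Cfsg.Agent.Lib.Helper96.BGU
import Cfsg.Agent.Lib.Helper19.BG95Aux
import Cfsg.Agent.Lib.Helper55.Cores

/-!
Piece S1b of the proof of Bender-Glauberman Lemma 9.5 (S1402), requested by helper73:
for a maximal subgroup `M` whose Fitting subgroup has `q`-rank at least 3 and `A ≤ M`, there is a
maximal `A`-invariant `q`-subgroup `Q` of `G` with `N_G(Q) ≤ M`.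
-/

set_option autoImplicit false

namespace Cfsg.Agent.Helper51.BG95S1b

open Cfsg Subgroup

variable {G : Type*} [Group G] [Finite G]

/-- `M` normalizes `O_q(M)` (as a subgroup of `G`). -/
theorem le_normalizer_pCoreOf (q : ℕ) (M : Subgroup G) :
    M ≤ normalizer ((pCoreOf q M : Subgroup G) : Set G) := by
  intro m hm
  rw [mem_normalizer_iff]
  intro x
  have hN : (pCore q ↥M).Normal := inferInstance
  constructor
  · rintro ⟨y, hy, rfl⟩
    refine ⟨(⟨m, hm⟩ : M) * y * (⟨m, hm⟩ : M)⁻¹, hN.conj_mem y hy ⟨m, hm⟩, ?_⟩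
    simp
  · rintro ⟨y, hy, hyx⟩
    have h1 : (⟨m, hm⟩ : M)⁻¹ * y * ((⟨m, hm⟩ : M)⁻¹)⁻¹ ∈ pCore q ↥M :=
      hN.conj_mem y hy (⟨m, hm⟩ : M)⁻¹
    refine ⟨_, h1, ?_⟩
    have : (y : G) = m * x * m⁻¹ := hyx
    simp [this, mul_assoc]

theorem isPGroup_pCoreOf (q : ℕ) [Fact q.Prime] (M : Subgroup G) :
    IsPGroup q (pCoreOf q M : Subgroup G) :=
  (Cfsg.Agent.Helper55.isPGroup_pCore (G := ↥M) (p := q)).map _

/-- a `q`-subgroup of `F(M)` lies in `O_q(M)`. -/
theorem le_pCoreOf_of_le_fittingOf (q : ℕ) [Fact q.Prime] (M U : Subgroup G)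
    (hU : IsPGroup q U) (hUF : U ≤ fittingOf M) : U ≤ pCoreOf q M := by
  have hUM : U ≤ M := hUF.trans (map_subtype_le _)
  have h1 : U.subgroupOf M ≤ fittingSubgroup ↥M := by
    intro x hx
    have hx' : (x : G) ∈ fittingOf M := hUF hx
    obtain ⟨y, hy, hyx⟩ := hx'
    have : y = x := Subtype.ext hyx
    rwa [← this]
  have h2 : IsPGroup q (U.subgroupOf M) := by
    have := hU.comap_of_injective M.subtype M.subtype_injective
    exact this
  have h3 := Cfsg.Agent.Helper19.BG95Aux.le_pCore_of_le_fitting q (U.subgroupOf M) h2 h1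
  intro u hu
  exact ⟨⟨u, hUM hu⟩, h3 (show (⟨u, hUM hu⟩ : M) ∈ U.subgroupOf M from hu), rfl⟩

/-- **S1b (step 1, big rank case).** -/
theorem step1_big (hG : IsMinSimpleOddOrder G)
    (h94 : ∀ (M : Subgroup G), IsCoatom M → ∀ (p : ℕ) [Fact p.Prime],
      ¬ PRankLE p 2 ↥(fittingOf M) → ∀ A : Subgroup G, IsPGroup p A → IsMulCommutative A →
        ¬ PRankLE p 2 ↥A → InUniqueMaximal A)
    (M : Subgroup G) (hM : IsCoatom M) (q : ℕ) [Fact q.Prime]
    (hq : ¬ PRankLE q 2 ↥(fittingOf M)) (A : Subgroup G) (hAM : A ≤ M) :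
    ∃ Q, Cfsg.Agent.Helper54.IsMaxInvQ A q Q ∧ normalizer (Q : Set G) ≤ M := by
  have hqp : q.Prime := Fact.out
  haveI : IsSimpleGroup G := hG.2.1
  obtain ⟨U, hUF, hUe, hUc⟩ := Cfsg.Agent.Helper96.BGU.exists_elemAb_of_not_pRankLE hq
  have hUq : IsPGroup q U := Cfsg.Agent.Helper96.BGU.isPGroup_of_elemAb hUe
  have hUr : ¬ PRankLE q 2 ↥U :=
    Cfsg.Agent.Helper96.BGU.not_pRankLE_of_elemAb U le_rfl hUe hUc
  have hUU : InUniqueMaximal U := h94 M hM q hq U hUq hUe.1 hUr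
  have hUM : U ≤ M := hUF.trans (map_subtype_le _)
  have hUY : U ≤ pCoreOf q M := le_pCoreOf_of_le_fittingOf q M U hUq hUF
  have hAY : A ≤ normalizer ((pCoreOf q M : Subgroup G) : Set G) :=
    hAM.trans (le_normalizer_pCoreOf q M)
  obtain ⟨Q, hQ, hYQ⟩ :=
    Cfsg.Agent.Helper54.exists_isMaxInvQ_ge (E := A) (isPGroup_pCoreOf q M) hAY
  refine ⟨Q, hQ, ?_⟩
  have hUQ : U ≤ Q := hUY.trans hYQ
  have hU1 : 1 < Nat.card U := by
    have : 1 ≤ q ^ 2 := Nat.one_le_pow _ _ hqp.pos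
    omega
  have hQ0 : Q ≠ ⊥ := by
    intro h
    rw [h] at hUQ
    have : U = ⊥ := le_bot_iff.mp hUQ
    rw [this] at hU1
    simp at hU1
  have hQtop : Q ≠ ⊤ := by
    intro h
    apply hG.2.2.1
    have hGq : IsPGroup q G := by
      intro g
      obtain ⟨k, hk⟩ := hQ.1 ⟨g, h ▸ mem_top g⟩
      exact ⟨k, by simpa using congrArg Subtype.val hk⟩
    haveI : Nontrivial G := IsSimpleGroup.toNontrivial
    haveI := hGq.center_nontrivial
    have hc : center G = ⊤ := by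
      rcases (inferInstance : (center G).Normal).eq_bot_or_eq_top with h0 | h0
      · exact absurd h0 (Subgroup.nontrivial_iff_ne_bot _ |>.mp inferInstance)
      · exact h0
    refine ⟨⟨fun a b => ?_⟩⟩
    have ha : a ∈ center G := hc ▸ mem_top a
    exact ((mem_center_iff.mp ha) b).symm
  have hN : normalizer (Q : Set G) ≠ ⊤ :=
    Cfsg.Agent.Helper54.normalizer_ne_top_of_isSimpleGroup Q hQ0 hQtop
  exact Cfsg.Agent.Helper96.BGU.le_of_inUniqueMaximal hUU hM hUM (hUQ.trans le_normalizer) hN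

end Cfsg.Agent.Helper51.BG95S1b
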