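import Mathlib
import Cfsg.Agent.Lib.Helper97.FXDefs
import Cfsg.Agent.Lib.Helper97.FXDefs2
import Cfsg.Agent.Lib.Helper48.SympRep

/-!
# FX server (S3818), wave 2, piece (BSC) `mem_scalar_iff` (with a private copy of Schur's lemma).
-/

set_option autoImplicit false

namespace Cfsg.Agent.Helper51.FX

open Cfsg.Agent.Helper97.FX Cfsg.Agent.Helper48.SympRep
open scoped TensorProduct

universe u

section RT
variable {K : Type*} [Field K] [IsAlgClosed K] {G : Type*} [Group G] [Finite G]
variable {V : Type u} [AddCommGroup V] [Module K V] [FiniteDimensional K V] [Nontrivial V]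

omit [Finite G] in
/-- Schur's lemma (private copy of piece (SCHUR)) -/
theorem h51_schur (ρ : G →* Module.End K V) (hirr : Irr ρ) (T : Module.End K V)
    (hT : ∀ g, T * ρ g = ρ g * T) : ∃ c : K, T = c • 1 := by
  obtain ⟨c, hc⟩ := Module.End.exists_eigenvalue T
  refine ⟨c, ?_⟩
  have hinv : ∀ g, ∀ w ∈ Module.End.eigenspace T c, ρ g w ∈ Module.End.eigenspace T c := by
    intro g w hw
    rw [Module.End.mem_eigenspace_iff] at hw ⊢
    have h1 : T (ρ g w) = (T * ρ g) w := rfl
    rw [h1, hT g, Module.End.mul_apply, hw, map_smul]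
  rcases hirr _ hinv with h0 | h1
  · exact absurd h0 hc
  · ext v
    have hv : v ∈ Module.End.eigenspace T c := by
      rw [h1]
      exact Submodule.mem_top
    rw [Module.End.mem_eigenspace_iff] at hv
    rw [hv, LinearMap.smul_apply, Module.End.one_apply]

set_option linter.unusedSectionVars false in
/-- piece (BSC) -/
theorem mem_scalar_iff (ρ : G →* Module.End K V) (hirr : Irr ρ) (hf : Function.Injective ρ)
    (N : Subgroup G) [Fintype N] (u : N) :
    u ∈ scalarSubgroup (ρ.comp N.subtype) ↔ (u : G) ∈ Subgroup.center G := by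
  constructor
  · rintro ⟨l, hl⟩
    rw [Subgroup.mem_center_iff]
    intro k
    apply hf
    have hl' : ρ (u : G) = l • 1 := hl
    rw [map_mul, map_mul, hl', smul_mul_assoc, mul_smul_comm, one_mul, mul_one]
  · intro hu
    rw [Subgroup.mem_center_iff] at hu
    have hcomm : ∀ k, ρ (u : G) * ρ k = ρ k * ρ (u : G) := by
      intro k
      rw [← map_mul, ← map_mul, hu k]
    obtain ⟨c, hc⟩ := h51_schur ρ hirr (ρ (u : G)) hcomm
    exact ⟨c, hc⟩

end RT

end Cfsg.Agent.Helper51.FX
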