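import Mathlib
import Cfsg.Agent.Lib.Helper97.FXDefs
import Cfsg.Agent.Lib.Helper97.FXDefs2
import Cfsg.Agent.Lib.Helper48.SympRep
import Cfsg.Agent.Lib.Helper51.FXBSC

/-!
# FX server (S3818), wave 2, piece (BSIG) `exists_moved`.
-/

set_option autoImplicit false

namespace Cfsg.Agent.Helper51.FX

open Cfsg.Agent.Helper97.FX Cfsg.Agent.Helper48.SympRep
open scoped TensorProduct

universe u

section GT

variable {G : Type*} [Group G]

/-- the subgroup of elements acting trivially on `N` modulo the centre -/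
def h51_centMod (N : Subgroup G) [N.Normal] : Subgroup G where
  carrier := {k | ∀ u ∈ N, k * u * k⁻¹ * u⁻¹ ∈ Subgroup.center G}
  one_mem' := by
    intro u hu
    have : (1 : G) * u * 1⁻¹ * u⁻¹ = 1 := by group
    rw [this]
    exact Subgroup.one_mem _
  mul_mem' := by
    intro k l hk hl u hu
    have hz := hl u hu
    have hz' := hk u hu
    have hc := Subgroup.mem_center_iff.mp hz k
    have e1 : k * l * u * (k * l)⁻¹ * u⁻¹ = k * (l * u * l⁻¹ * u⁻¹) * (u * k⁻¹ * u⁻¹) := by group
    have e2 : l * u * l⁻¹ * u⁻¹ * k * (u * k⁻¹ * u⁻¹) =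
        (l * u * l⁻¹ * u⁻¹) * (k * u * k⁻¹ * u⁻¹) := by group
    rw [e1, hc, e2]
    exact Subgroup.mul_mem _ hz hz'
  inv_mem' := by
    intro k hk u hu
    have hv : k⁻¹ * u * k ∈ N := by
      have := ‹N.Normal›.conj_mem u hu k⁻¹
      simpa using this
    have hz := hk (k⁻¹ * u * k) hv
    have e1 : k⁻¹ * u * k⁻¹⁻¹ * u⁻¹ = (k * (k⁻¹ * u * k) * k⁻¹ * (k⁻¹ * u * k)⁻¹)⁻¹ := by group
    rw [e1]
    exact Subgroup.inv_mem _ hz

lemma h51_centMod_normal (N : Subgroup G) [N.Normal] : (h51_centMod N).Normal := by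
  constructor
  intro k hk t u hu
  have hu' : t⁻¹ * u * t ∈ N := by
    have := ‹N.Normal›.conj_mem u hu t⁻¹
    simpa using this
  have hz := hk (t⁻¹ * u * t) hu'
  have hc := Subgroup.mem_center_iff.mp hz t
  have e1 : t * k * t⁻¹ * u * (t * k * t⁻¹)⁻¹ * u⁻¹ =
      t * (k * (t⁻¹ * u * t) * k⁻¹ * (t⁻¹ * u * t)⁻¹) * t⁻¹ := by group
  rw [e1, hc, mul_inv_cancel_right]
  exact hz

/-- if all of `G` acts trivially on `N` modulo the centre, `N` is not abelian and every proper
`G`-normal subgroup of `N` is central, then every element of `N` is central -/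
lemma h51_central_of_centMod (N : Subgroup G) [N.Normal]
    (hall : ∀ k : G, ∀ u ∈ N, k * u * k⁻¹ * u⁻¹ ∈ Subgroup.center G)
    (hmin : ∀ M : Subgroup G, M.Normal → M < N → M ≤ Subgroup.center G)
    (hnab : ¬ ∀ a ∈ N, ∀ b ∈ N, a * b = b * a) (n : G) (hn : n ∈ N) :
    n ∈ Subgroup.center G := by
  set Mgen : Set G := ((N ⊓ Subgroup.center G : Subgroup G) : Set G) ∪ {n} with hMgen
  have hgenN : Mgen ⊆ (N : Set G) := by
    rintro y (hy | hy)
    · exact hy.1
    · rw [Set.mem_singleton_iff] at hy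
      rw [hy]
      exact hn
  have hcommgen : ∀ y ∈ Mgen, ∀ z ∈ Mgen, y * z = z * y := by
    rintro y (hy | hy) z hz
    · exact (Subgroup.mem_center_iff.mp hy.2 z).symm
    · rcases hz with hz | hz
      · exact Subgroup.mem_center_iff.mp hz.2 y
      · rw [Set.mem_singleton_iff] at hy hz
        rw [hy, hz]
  have hMle : Subgroup.closure Mgen ≤ N := (Subgroup.closure_le N).mpr hgenN
  have hMab : ∀ y ∈ Subgroup.closure Mgen, ∀ z ∈ Subgroup.closure Mgen, y * z = z * y := by
    letI := Subgroup.closureCommGroupOfComm hcommgen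
    intro y hy z hz
    exact congrArg Subtype.val (mul_comm (⟨y, hy⟩ : Subgroup.closure Mgen) ⟨z, hz⟩)
  have hMn : (Subgroup.closure Mgen).Normal := by
    constructor
    intro m hm
    induction hm using Subgroup.closure_induction with
    | mem y hy =>
      intro t
      rcases hy with hy | hy
      · have hc := Subgroup.mem_center_iff.mp hy.2 t
        rw [hc, mul_inv_cancel_right]
        exact Subgroup.subset_closure (Or.inl hy)
      · rw [Set.mem_singleton_iff] at hy
        rw [hy]
        have hz := hall t n hn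
        have hzN : t * n * t⁻¹ * n⁻¹ ∈ N :=
          N.mul_mem (‹N.Normal›.conj_mem n hn t) (N.inv_mem hn)
        have e1 : t * n * t⁻¹ = (t * n * t⁻¹ * n⁻¹) * n := by group
        rw [e1]
        exact Subgroup.mul_mem _ (Subgroup.subset_closure (Or.inl ⟨hzN, hz⟩))
          (Subgroup.subset_closure (Or.inr rfl))
    | one =>
      intro t
      rw [mul_one, mul_inv_cancel]
      exact Subgroup.one_mem _
    | mul y z _ _ ihy ihz =>
      intro t
      have e1 : t * (y * z) * t⁻¹ = (t * y * t⁻¹) * (t * z * t⁻¹) := by group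
      rw [e1]
      exact Subgroup.mul_mem _ (ihy t) (ihz t)
    | inv y _ ihy =>
      intro t
      have e1 : t * y⁻¹ * t⁻¹ = (t * y * t⁻¹)⁻¹ := by group
      rw [e1]
      exact Subgroup.inv_mem _ (ihy t)
  have hne : Subgroup.closure Mgen ≠ N := by
    intro heq
    apply hnab
    intro y hy z hz
    rw [← heq] at hy hz
    exact hMab y hy z hz
  have hlt : Subgroup.closure Mgen < N := lt_of_le_of_ne hMle hne
  exact hmin _ hMn hlt (Subgroup.subset_closure (Or.inr rfl))

end GT

section RT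
variable {K : Type*} [Field K] [IsAlgClosed K] {G : Type*} [Group G] [Finite G]
variable {V : Type u} [AddCommGroup V] [Module K V] [FiniteDimensional K V] [Nontrivial V]

set_option linter.unusedSectionVars false in
/-- piece (BSIG) -/
theorem exists_moved (ρ : G →* Module.End K V) (hirr : Irr ρ) (hf : Function.Injective ρ) (x : G)
    (hgen : Subgroup.normalClosure ({x} : Set G) = ⊤) (N : Subgroup G) [N.Normal] [Fintype N]
    (hxN : ∃ n ∈ N, x * n ≠ n * x)
    (hmin : ∀ M : Subgroup G, M.Normal → M < N → M ≤ Subgroup.center G)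
    (hnab : ¬ ∀ a ∈ N, ∀ b ∈ N, a * b = b * a) :
    ∃ u : N, MulAut.conjNormal x u * u⁻¹ ∉ scalarSubgroup (ρ.comp N.subtype) := by
  by_contra hcon
  push Not at hcon
  have hx : x ∈ h51_centMod N := by
    intro u hu
    have h1 := (mem_scalar_iff ρ hirr hf N _).mp (hcon ⟨u, hu⟩)
    rw [Subgroup.coe_mul, MulAut.conjNormal_apply, Subgroup.coe_inv] at h1
    exact h1
  have hCn := h51_centMod_normal N
  have hle : Subgroup.normalClosure ({x} : Set G) ≤ h51_centMod N :=
    Subgroup.normalClosure_le_normal (Set.singleton_subset_iff.mpr hx)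
  rw [hgen] at hle
  have hall : ∀ k : G, ∀ u ∈ N, k * u * k⁻¹ * u⁻¹ ∈ Subgroup.center G :=
    fun k => hle (Subgroup.mem_top k)
  obtain ⟨n, hn, hxn⟩ := hxN
  have hnc := h51_central_of_centMod N hall hmin hnab n hn
  exact hxn (Subgroup.mem_center_iff.mp hnc x)

end RT

end Cfsg.Agent.Helper51.FX
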