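import Mathlib
import Cfsg.Agent.Lib.Helper97.FXDefs
import Cfsg.Agent.Lib.Helper97.FXDefs2
import Cfsg.Agent.Lib.Helper48.SympRep
import Cfsg.Agent.Lib.Helper51.FXBSC

/-!
# FX server (S3818), wave 2, piece (BSYMP) `symp_of_minimal`.
-/

set_option autoImplicit false

namespace Cfsg.Agent.Helper51.FX

open Cfsg.Agent.Helper97.FX Cfsg.Agent.Helper48.SympRep
open scoped TensorProduct
open scoped commutatorElement

universe u

section RT
variable {K : Type*} [Field K] [IsAlgClosed K] {G : Type*} [Group G] [Finite G]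
variable {V : Type u} [AddCommGroup V] [Module K V] [FiniteDimensional K V] [Nontrivial V]

omit [Finite G] in
/-- a central element acts as a scalar -/
lemma h51_scalar_of_central (ρ : G →* Module.End K V) (hirr : Irr ρ) (c : G)
    (hc : c ∈ Subgroup.center G) : ∃ l : K, ρ c = l • 1 := by
  rw [Subgroup.mem_center_iff] at hc
  apply h51_schur ρ hirr (ρ c)
  intro k
  rw [← map_mul, ← map_mul, hc k]

set_option linter.unusedSectionVars false in
/-- piece (BSYMP) -/
theorem symp_of_minimal [Group.IsSolvable G] (ρ : G →* Module.End K V) (hirr : Irr ρ)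
    (hf : Function.Injective ρ) (N : Subgroup G) [N.Normal] [Fintype N]
    (hmin : ∀ M : Subgroup G, M.Normal → M < N → M ≤ Subgroup.center G)
    (hnab : ¬ ∀ a ∈ N, ∀ b ∈ N, a * b = b * a) : Symp (ρ.comp N.subtype) := by
  have hNne : N ≠ ⊥ := by
    intro h0
    apply hnab
    intro a ha b hb
    rw [h0, Subgroup.mem_bot] at ha hb
    rw [ha, hb]
  have hlt : ⁅N, N⁆ < N := Group.IsSolvable.commutator_lt_of_ne_bot hNne
  have hcn : (⁅N, N⁆ : Subgroup G).Normal := inferInstance
  have hcen : ⁅N, N⁆ ≤ Subgroup.center G := hmin _ hcn hlt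
  constructor
  · intro u w
    have hc : ⁅(u : G), (w : G)⁆ ∈ Subgroup.center G :=
      hcen (Subgroup.commutator_mem_commutator u.2 w.2)
    obtain ⟨l, hl⟩ := h51_scalar_of_central ρ hirr _ hc
    refine ⟨l, ?_⟩
    show ρ (u : G) * ρ (w : G) = l • (ρ (w : G) * ρ (u : G))
    have e1 : (u : G) * w = ⁅(u : G), (w : G)⁆ * w * u := by
      rw [commutatorElement_def]
      group
    rw [← map_mul, e1, map_mul, map_mul, hl, smul_mul_assoc, smul_mul_assoc, one_mul]
  · intro u hu
    have hu' : ∀ w ∈ N, w * (u : G) = (u : G) * w := by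
      intro w hw
      apply hf
      have := hu ⟨w, hw⟩
      rw [map_mul, map_mul]
      exact this.symm
    have hZn : (N ⊓ Subgroup.centralizer (N : Set G)).Normal := inferInstance
    have hZle : N ⊓ Subgroup.centralizer (N : Set G) ≤ N := inf_le_left
    have hZne : N ⊓ Subgroup.centralizer (N : Set G) ≠ N := by
      intro heq
      apply hnab
      intro a ha b hb
      have hb' : b ∈ N ⊓ Subgroup.centralizer (N : Set G) := by
        rw [heq]
        exact hb
      exact Subgroup.mem_centralizer_iff.mp hb'.2 a ha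
    have hZc := hmin _ hZn (lt_of_le_of_ne hZle hZne)
    have huZ : (u : G) ∈ N ⊓ Subgroup.centralizer (N : Set G) :=
      ⟨u.2, Subgroup.mem_centralizer_iff.mpr hu'⟩
    obtain ⟨l, hl⟩ := h51_scalar_of_central ρ hirr _ (hZc huZ)
    exact ⟨l, hl⟩

end RT

end Cfsg.Agent.Helper51.FX
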