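import Mathlib
import Cfsg.Agent.Lib.Helper97.FXDefs
import Cfsg.Agent.Lib.Helper48.SympRep

/-!
# FX server (S3818), piece (TRC) `transv_case`: core, with (TRANSV) as a hypothesis.
-/

set_option autoImplicit false

namespace Cfsg.Agent.Helper51.FX

open Cfsg.Agent.Helper97.FX Cfsg.Agent.Helper48.SympRep

universe u

section SY
variable {K : Type*} [Field K] {M : Type u} [AddCommGroup M] [Module K M] [FiniteDimensional K M]
variable {Q : Type*} [Group Q] [Fintype Q]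
variable {ρ : Q →* Module.End K M} {a : Q ≃* Q} {g g' : Module.End K M}

omit [FiniteDimensional K M] in
/-- commutators act as scalars -/
lemma h51_comm_mem (hρ : Symp ρ) (u w : Q) : u * w * u⁻¹ * w⁻¹ ∈ scalarSubgroup ρ := by
  obtain ⟨l, hl⟩ := hρ.comm_scalar u w
  refine ⟨l, ?_⟩
  rw [map_mul, map_mul, map_mul, hl, smul_mul_assoc, smul_mul_assoc, mul_assoc (ρ w),
    rho_mul_inv, mul_one, rho_mul_inv]

omit [FiniteDimensional K M] in
lemma h51_quot_comm (hρ : Symp ρ) (x y : Q ⧸ scalarSubgroup ρ) : x * y = y * x := by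
  obtain ⟨u, rfl⟩ := QuotientGroup.mk_surjective x
  obtain ⟨w, rfl⟩ := QuotientGroup.mk_surjective y
  rw [← QuotientGroup.mk_mul, ← QuotientGroup.mk_mul, QuotientGroup.eq]
  have := h51_comm_mem hρ w⁻¹ u⁻¹
  simpa [mul_assoc] using this

omit [FiniteDimensional K M] in
lemma h51_sigma_eq (h : Normalises ρ a g g') (x : Q ⧸ scalarSubgroup ρ) :
    sigma h x = (QuotientGroup.congr (scalarSubgroup ρ) (scalarSubgroup ρ) a h.map_eq) x := rfl

/-- the fixed subgroup of `sigma h` -/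
def h51_fix (h : Normalises ρ a g g') : Subgroup (Q ⧸ scalarSubgroup ρ) where
  carrier := {x | sigma h x = x}
  one_mem' := by
    show sigma h 1 = 1
    rw [h51_sigma_eq, map_one]
  mul_mem' := by
    intro x y hx hy
    show sigma h (x * y) = x * y
    have hx' : sigma h x = x := hx
    have hy' : sigma h y = y := hy
    rw [h51_sigma_eq, map_mul, ← h51_sigma_eq h, ← h51_sigma_eq h, hx', hy']
  inv_mem' := by
    intro x hx
    show sigma h x⁻¹ = x⁻¹
    have hx' : sigma h x = x := hx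
    rw [h51_sigma_eq, map_inv, ← h51_sigma_eq h, hx']

omit [FiniteDimensional K M] in
lemma h51_mem_fix (h : Normalises ρ a g g') (x : Q ⧸ scalarSubgroup ρ) :
    x ∈ h51_fix h ↔ sigma h x = x := Iff.rfl

/-- the preimage `M₀` of the fixed subgroup -/
def h51_M0 (h : Normalises ρ a g g') : Subgroup Q :=
  (h51_fix h).comap (QuotientGroup.mk' (scalarSubgroup ρ))

omit [FiniteDimensional K M] in
lemma h51_mem_M0 (h : Normalises ρ a g g') (m : Q) :
    m ∈ h51_M0 h ↔ a m * m⁻¹ ∈ scalarSubgroup ρ := by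
  unfold h51_M0
  rw [Subgroup.mem_comap, h51_mem_fix, QuotientGroup.mk'_apply, sigma_mk, QuotientGroup.eq,
    ← Subgroup.inv_mem_iff, mul_inv_rev, inv_inv]
  exact (scalarSubgroup_normal ρ).mem_comm_iff

omit [FiniteDimensional K M] in
lemma h51_fix_normal (hρ : Symp ρ) (h : Normalises ρ a g g') : (h51_fix h).Normal :=
  ⟨fun n hn x => by rw [h51_quot_comm hρ x n, mul_inv_cancel_right]; exact hn⟩

omit [FiniteDimensional K M] in
lemma h51_fix_index (h : Normalises ρ a g g') {p : ℕ}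
    (hidx : Nat.card (Q ⧸ scalarSubgroup ρ) =
      p * Nat.card {w : Q ⧸ scalarSubgroup ρ // sigma h w = w}) :
    (h51_fix h).index = p := by
  have h1 := Subgroup.card_mul_index (h51_fix h)
  have h2 : Nat.card (h51_fix h) = Nat.card {w : Q ⧸ scalarSubgroup ρ // sigma h w = w} := rfl
  rw [hidx, ← h2] at h1
  have hpos : 0 < Nat.card (h51_fix h) := Nat.card_pos
  exact Nat.eq_of_mul_eq_mul_left hpos (by rw [h1, mul_comm])

omit [FiniteDimensional K M] in
lemma h51_M0_index (h : Normalises ρ a g g') {p : ℕ}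
    (hidx : Nat.card (Q ⧸ scalarSubgroup ρ) =
      p * Nat.card {w : Q ⧸ scalarSubgroup ρ // sigma h w = w}) :
    (h51_M0 h).index = p := by
  unfold h51_M0
  rw [Subgroup.index_comap_of_surjective _ (QuotientGroup.mk'_surjective _)]
  exact h51_fix_index h hidx

omit [FiniteDimensional K M] in
lemma h51_M0_normal (hρ : Symp ρ) (h : Normalises ρ a g g') : (h51_M0 h).Normal := by
  have := h51_fix_normal hρ h
  unfold h51_M0
  infer_instance

omit [FiniteDimensional K M] in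
/-- `sigma h` acts trivially on the cosets of its fixed subgroup when the index is a prime `p`
and `sigma h ^ p = 1`. -/
lemma h51_claimA (hρ : Symp ρ) (h : Normalises ρ a g g') {p : ℕ} (hp : p.Prime) (hgp : g ^ p = 1)
    (hidx : (h51_fix h).index = p) (y : Q ⧸ scalarSubgroup ρ) :
    y⁻¹ * sigma h y ∈ h51_fix h := by
  classical
  have := h51_fix_normal hρ h
  have : Fact p.Prime := ⟨hp⟩
  have hmap : (h51_fix h).map
      ((QuotientGroup.congr (scalarSubgroup ρ) (scalarSubgroup ρ) a h.map_eq :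
        (Q ⧸ scalarSubgroup ρ) ≃* (Q ⧸ scalarSubgroup ρ)) : (Q ⧸ scalarSubgroup ρ) →* _) =
      h51_fix h := by
    ext x
    constructor
    · rintro ⟨z, hz, rfl⟩
      have hz' : sigma h z = z := hz
      show (QuotientGroup.congr (scalarSubgroup ρ) (scalarSubgroup ρ) a h.map_eq) z ∈ h51_fix h
      rw [← h51_sigma_eq h, hz']
      exact hz
    · intro hx
      exact ⟨x, hx, hx⟩
  let σb : Equiv.Perm ((Q ⧸ scalarSubgroup ρ) ⧸ h51_fix h) :=
    (QuotientGroup.congr (h51_fix h) (h51_fix h)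
      (QuotientGroup.congr (scalarSubgroup ρ) (scalarSubgroup ρ) a h.map_eq) hmap).toEquiv
  have hσb : ∀ z : Q ⧸ scalarSubgroup ρ,
      σb (QuotientGroup.mk z) = QuotientGroup.mk (sigma h z) := by
    intro z
    rfl
  have hpow : ∀ (k : ℕ) (z : Q ⧸ scalarSubgroup ρ),
      (σb ^ k) (QuotientGroup.mk z) = QuotientGroup.mk ((sigma h ^ k) z) := by
    intro k
    induction k with
    | zero => intro z; simp
    | succ k ih =>
      intro z
      rw [pow_succ', Equiv.Perm.mul_apply, ih, hσb, pow_succ', Equiv.Perm.mul_apply]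
  have hσbp : σb ^ p ^ 1 = 1 := by
    rw [pow_one]
    ext w
    obtain ⟨z, rfl⟩ := QuotientGroup.mk_surjective w
    rw [hpow, sigma_pow_eq_one h hgp]
    simp
  haveI : Fintype ((Q ⧸ scalarSubgroup ρ) ⧸ h51_fix h) := Fintype.ofFinite _
  have hmod := Equiv.Perm.card_compl_support_modEq hσbp
  have hcard : Fintype.card ((Q ⧸ scalarSubgroup ρ) ⧸ h51_fix h) = p := by
    rw [← Nat.card_eq_fintype_card]
    exact hidx
  rw [hcard] at hmod
  have h1 : (QuotientGroup.mk 1 : (Q ⧸ scalarSubgroup ρ) ⧸ h51_fix h) ∈ σb.supportᶜ := by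
    rw [Finset.mem_compl, Equiv.Perm.mem_support, not_not, hσb]
    have : sigma h 1 = 1 := (h51_fix h).one_mem
    rw [this]
  have hpos : 0 < σb.supportᶜ.card := Finset.card_pos.mpr ⟨_, h1⟩
  have hle : σb.supportᶜ.card ≤ p := by
    rw [← hcard]
    exact Finset.card_le_univ _
  have hdvd : p ∣ σb.supportᶜ.card := by
    have h0 : σb.supportᶜ.card ≡ 0 [MOD p] := hmod.trans (by simp [Nat.ModEq])
    exact (Nat.modEq_zero_iff_dvd).mp h0
  have heq : σb.supportᶜ.card = p := le_antisymm hle (Nat.le_of_dvd hpos hdvd)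
  have huniv : σb.supportᶜ = Finset.univ := Finset.eq_univ_of_card _ (by rw [heq, hcard])
  have hfix : σb (QuotientGroup.mk y) = QuotientGroup.mk y := by
    have : (QuotientGroup.mk y : (Q ⧸ scalarSubgroup ρ) ⧸ h51_fix h) ∈ σb.supportᶜ := by
      rw [huniv]
      exact Finset.mem_univ _
    rwa [Finset.mem_compl, Equiv.Perm.mem_support, not_not] at this
  rw [hσb, eq_comm, QuotientGroup.eq] at hfix
  exact hfix

/-- the centraliser (inside `Q`) of an operator -/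
def h51_centOp (ρ : Q →* Module.End K M) (A : Module.End K M) : Subgroup Q where
  carrier := {q | ρ q * A = A * ρ q}
  one_mem' := by
    show ρ 1 * A = A * ρ 1
    rw [map_one, one_mul, mul_one]
  mul_mem' := by
    intro x y hx hy
    have hx' : ρ x * A = A * ρ x := hx
    have hy' : ρ y * A = A * ρ y := hy
    show ρ (x * y) * A = A * ρ (x * y)
    rw [map_mul, mul_assoc, hy', ← mul_assoc, hx', mul_assoc]
  inv_mem' := by
    intro x hx
    have hx' : ρ x * A = A * ρ x := hx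
    show ρ x⁻¹ * A = A * ρ x⁻¹
    calc ρ x⁻¹ * A = ρ x⁻¹ * A * (ρ x * ρ x⁻¹) := by rw [rho_mul_inv, mul_one]
      _ = ρ x⁻¹ * (A * ρ x) * ρ x⁻¹ := by simp only [mul_assoc]
      _ = ρ x⁻¹ * (ρ x * A) * ρ x⁻¹ := by rw [hx']
      _ = (ρ x⁻¹ * ρ x) * A * ρ x⁻¹ := by simp only [mul_assoc]
      _ = A * ρ x⁻¹ := by rw [rho_inv_mul, one_mul]

omit [FiniteDimensional K M] in
lemma h51_mem_centOp (A : Module.End K M) (q : Q) :
    q ∈ h51_centOp ρ A ↔ ρ q * A = A * ρ q := Iff.rfl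

/-- (TRC) with (TRANSV) as a hypothesis -/
theorem h51_transv_case_of (hρ : Symp ρ) (hQ : (Fintype.card Q : K) ≠ 0)
    (h : Normalises ρ a g g') {p : ℕ} (hp : p.Prime) (hgp : g ^ p = 1)
    (hidx : Nat.card (Q ⧸ scalarSubgroup ρ) =
      p * Nat.card {w : Q ⧸ scalarSubgroup ρ // sigma h w = w})
    (hσ : ∃ u : Q, a u * u⁻¹ ∉ scalarSubgroup ρ)
    (hns : ∀ m : Q, a m * m⁻¹ ∈ scalarSubgroup ρ → ρ (a m * m⁻¹) = 1)
    (htb : (p : K) ≠ 0 → ∀ (T A P P' : Module.End K M), P * P' = 1 → P' * P = 1 →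
      ∀ κ : K, κ ≠ 1 → κ ^ p = 1 → T ^ p = 1 → T * A = A * T → P * T * P' = T * A →
      P * A * P' = κ • A → p * fixDim T ≤ 2 * Module.finrank K M) :
    p * fixDim g ≤ 2 * Module.finrank K M := by
  rcases subsingleton_or_nontrivial M with hsub | hnt
  · have h0 : Module.finrank K M = 0 := Module.finrank_zero_of_subsingleton
    have h1 : fixDim g ≤ Module.finrank K M := by
      unfold fixDim
      exact Submodule.finrank_le _
    rw [h0] at h1 ⊢
    rw [Nat.le_zero.mp h1]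
    simp
  obtain ⟨n₁, hn₁⟩ := hσ
  have hM0idx := h51_M0_index h hidx
  have hFidx := h51_fix_index h hidx
  have hM0n := h51_M0_normal hρ h
  have hn₁M : n₁ ∉ h51_M0 h := by
    rw [h51_mem_M0]
    exact hn₁
  -- g commutes with ρ m for m ∈ M₀
  have hcomm : ∀ m ∈ h51_M0 h, ρ m * g = g * ρ m := by
    intro m hm
    rw [h51_mem_M0] at hm
    have h1 := hns m hm
    rw [map_mul] at h1
    have h2 : ρ (a m) = ρ m := by
      calc ρ (a m) = ρ (a m) * (ρ m⁻¹ * ρ m) := by rw [rho_inv_mul, mul_one]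
        _ = (ρ (a m) * ρ m⁻¹) * ρ m := by rw [mul_assoc]
        _ = ρ m := by rw [h1, one_mul]
    rw [h.conj m, h2]
  have hcomm' : ∀ m ∈ h51_M0 h, ρ m * g' = g' * ρ m := by
    intro m hm
    have h1 := hcomm m hm
    calc ρ m * g' = g' * g * (ρ m * g') := by rw [h.inv_mul, one_mul]
      _ = g' * (g * ρ m) * g' := by simp only [mul_assoc]
      _ = g' * (ρ m * g) * g' := by rw [h1]
      _ = g' * ρ m * (g * g') := by simp only [mul_assoc]
      _ = g' * ρ m := by rw [h.mul_inv, mul_one]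
  have hAeq : ρ (a.symm n₁ * n₁⁻¹) = g' * ρ n₁ * g * ρ n₁⁻¹ := by
    rw [map_mul, h.rho_symm]
  -- a' ∈ M₀
  have ha'M : a.symm n₁ * n₁⁻¹ ∈ h51_M0 h := by
    have hA' := h51_claimA hρ h hp hgp hFidx (QuotientGroup.mk (a.symm n₁))
    rw [sigma_mk, MulEquiv.apply_symm_apply] at hA'
    have h2 := (h51_fix h).inv_mem hA'
    rw [mul_inv_rev, inv_inv, h51_quot_comm hρ] at h2
    show QuotientGroup.mk' (scalarSubgroup ρ) (a.symm n₁ * n₁⁻¹) ∈ h51_fix h
    rw [QuotientGroup.mk'_apply, QuotientGroup.mk_mul, QuotientGroup.mk_inv]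
    exact h2
  have hTA : g * ρ (a.symm n₁ * n₁⁻¹) = ρ (a.symm n₁ * n₁⁻¹) * g := (hcomm _ ha'M).symm
  have hPT : ρ n₁ * g * ρ n₁⁻¹ = g * ρ (a.symm n₁ * n₁⁻¹) := by
    rw [hAeq]
    calc ρ n₁ * g * ρ n₁⁻¹ = (g * g') * ρ n₁ * g * ρ n₁⁻¹ := by rw [h.mul_inv, one_mul]
      _ = g * (g' * ρ n₁ * g * ρ n₁⁻¹) := by simp only [mul_assoc]
  obtain ⟨κ, hκ⟩ := hρ.comm_scalar n₁ (a.symm n₁ * n₁⁻¹)
  have hPA : ρ n₁ * ρ (a.symm n₁ * n₁⁻¹) * ρ n₁⁻¹ = κ • ρ (a.symm n₁ * n₁⁻¹) := by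
    rw [hκ, smul_mul_assoc, mul_assoc, rho_mul_inv, mul_one]
  -- Claim C : ρ(M₀) commutes with A
  have hC : ∀ m ∈ h51_M0 h, ρ m * ρ (a.symm n₁ * n₁⁻¹) = ρ (a.symm n₁ * n₁⁻¹) * ρ m := by
    intro m hm
    obtain ⟨d, hd⟩ := hρ.comm_scalar m n₁
    have hd' : ρ n₁⁻¹ * ρ m = d • (ρ m * ρ n₁⁻¹) := by
      calc ρ n₁⁻¹ * ρ m = ρ n₁⁻¹ * (ρ m * ρ n₁) * ρ n₁⁻¹ := by
            rw [mul_assoc, mul_assoc, rho_mul_inv, mul_one]
        _ = ρ n₁⁻¹ * (d • (ρ n₁ * ρ m)) * ρ n₁⁻¹ := by rw [hd]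
        _ = d • (ρ m * ρ n₁⁻¹) := by
            rw [mul_smul_comm, smul_mul_assoc, ← mul_assoc, rho_inv_mul, one_mul]
    have e1 := hcomm m hm
    have e2 := hcomm' m hm
    rw [hAeq]
    calc ρ m * (g' * ρ n₁ * g * ρ n₁⁻¹) = (ρ m * g') * ρ n₁ * g * ρ n₁⁻¹ := by
          simp only [mul_assoc]
      _ = g' * (ρ m * ρ n₁) * g * ρ n₁⁻¹ := by rw [e2]; simp only [mul_assoc]
      _ = d • (g' * ρ n₁ * (ρ m * g) * ρ n₁⁻¹) := by
          rw [hd]
          simp only [mul_smul_comm, smul_mul_assoc, mul_assoc]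
      _ = d • (g' * ρ n₁ * g * (ρ m * ρ n₁⁻¹)) := by rw [e1]; simp only [mul_assoc]
      _ = g' * ρ n₁ * g * (d • (ρ m * ρ n₁⁻¹)) := by rw [mul_smul_comm]
      _ = g' * ρ n₁ * g * ρ n₁⁻¹ * ρ m := by rw [← hd']; simp only [mul_assoc]
  -- κ ^ p = 1
  have hpow : ∀ k : ℕ, ρ n₁ ^ k * ρ (a.symm n₁ * n₁⁻¹) * ρ n₁⁻¹ ^ k =
      κ ^ k • ρ (a.symm n₁ * n₁⁻¹) := by
    intro k
    induction k with
    | zero => simp
    | succ k ih =>
      calc ρ n₁ ^ (k + 1) * ρ (a.symm n₁ * n₁⁻¹) * ρ n₁⁻¹ ^ (k + 1)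
          = ρ n₁ * (ρ n₁ ^ k * ρ (a.symm n₁ * n₁⁻¹) * ρ n₁⁻¹ ^ k) * ρ n₁⁻¹ := by
            rw [pow_succ', pow_succ]
            simp only [mul_assoc]
        _ = κ ^ k • (ρ n₁ * ρ (a.symm n₁ * n₁⁻¹) * ρ n₁⁻¹) := by
            rw [ih, mul_smul_comm, smul_mul_assoc]
        _ = κ ^ (k + 1) • ρ (a.symm n₁ * n₁⁻¹) := by
            rw [hPA, smul_smul, ← pow_succ]
  have hnp : n₁ ^ p ∈ h51_M0 h := by
    have := Subgroup.pow_index_mem (h51_M0 h) n₁
    rwa [hM0idx] at this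
  have hone_ne : (1 : Module.End K M) ≠ 0 := one_ne_zero
  have hκp : κ ^ p = 1 := by
    have h1 := hpow p
    rw [← map_pow, ← map_pow, inv_pow, hC _ hnp, mul_assoc, rho_mul_inv, mul_one] at h1
    -- h1 : A = κ^p • A
    have h2 : (κ ^ p - 1) • (1 : Module.End K M) = 0 := by
      have h3 : (κ ^ p - 1) • ρ (a.symm n₁ * n₁⁻¹) = 0 := by
        rw [sub_smul, one_smul, ← h1, sub_self]
      calc (κ ^ p - 1) • (1 : Module.End K M)
          = (κ ^ p - 1) • (ρ (a.symm n₁ * n₁⁻¹) * ρ (a.symm n₁ * n₁⁻¹)⁻¹) := by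
            rw [rho_mul_inv]
        _ = ((κ ^ p - 1) • ρ (a.symm n₁ * n₁⁻¹)) * ρ (a.symm n₁ * n₁⁻¹)⁻¹ := by
            rw [smul_mul_assoc]
        _ = 0 := by rw [h3, zero_mul]
    rcases smul_eq_zero.mp h2 with h4 | h4
    · exact sub_eq_zero.mp h4
    · exact absurd h4 hone_ne
  -- κ ≠ 1
  have hκ1 : κ ≠ 1 := by
    intro hk1
    rw [hk1, one_smul] at hκ
    have hle : h51_M0 h ≤ h51_centOp ρ (ρ (a.symm n₁ * n₁⁻¹)) := fun m hm => hC m hm
    have hn₁C : n₁ ∈ h51_centOp ρ (ρ (a.symm n₁ * n₁⁻¹)) := hκ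
    have hri := Subgroup.relIndex_mul_index hle
    rw [hM0idx] at hri
    have hdvd : (h51_centOp ρ (ρ (a.symm n₁ * n₁⁻¹))).index ∣ p := Dvd.intro_left _ hri
    rcases (Nat.dvd_prime hp).mp hdvd with h1 | h1
    · -- centraliser is everything
      have htop := Subgroup.index_eq_one.mp h1
      have hall : ∀ w, ρ (a.symm n₁ * n₁⁻¹) * ρ w = ρ w * ρ (a.symm n₁ * n₁⁻¹) := by
        intro w
        have : w ∈ h51_centOp ρ (ρ (a.symm n₁ * n₁⁻¹)) := by
          rw [htop]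
          exact Subgroup.mem_top w
        exact this.symm
      have hS : a.symm n₁ * n₁⁻¹ ∈ scalarSubgroup ρ := hρ.nondeg _ hall
      have hS2 : a (a.symm n₁ * n₁⁻¹) ∈ scalarSubgroup ρ := (h.mem_iff _).mpr hS
      rw [map_mul, MulEquiv.apply_symm_apply, map_inv] at hS2
      have hS3 := (scalarSubgroup ρ).inv_mem hS2
      rw [mul_inv_rev, inv_inv] at hS3
      exact hn₁ hS3
    · rw [h1] at hri
      have hp0 : 0 < p := hp.pos
      have hr1 : (h51_M0 h).relIndex (h51_centOp ρ (ρ (a.symm n₁ * n₁⁻¹))) = 1 := by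
        have : (h51_M0 h).relIndex (h51_centOp ρ (ρ (a.symm n₁ * n₁⁻¹))) * p = 1 * p := by
          rw [hri, one_mul]
        exact Nat.eq_of_mul_eq_mul_right hp0 this
      have hle2 := Subgroup.relIndex_eq_one.mp hr1
      exact hn₁M (hle2 hn₁C)
  -- p ≠ 0 in K
  have hpK : (p : K) ≠ 0 := by
    intro hp0
    have hd : (h51_M0 h).index ∣ Nat.card Q := Subgroup.index_dvd_card _
    rw [hM0idx, Nat.card_eq_fintype_card] at hd
    obtain ⟨k, hk⟩ := hd
    apply hQ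
    rw [hk, Nat.cast_mul, hp0, zero_mul]
  exact htb hpK g (ρ (a.symm n₁ * n₁⁻¹)) (ρ n₁) (ρ n₁⁻¹) (rho_mul_inv ρ n₁) (rho_inv_mul ρ n₁)
    κ hκ1 hκp hgp hTA hPT hPA

end SY

end Cfsg.Agent.Helper51.FX
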