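import Mathlib

/-!
# Frattini subgroup of a finite 2-group: maximal subgroups have index 2
-/

set_option autoImplicit false

namespace Cfsg.Agent.Helper51.RuSyl

open Subgroup

theorem mem_frattini_iff' {P : Type*} [Group P] (x : P) :
    x ∈ frattini P ↔ ∀ M : Subgroup P, IsCoatom M → x ∈ M := by
  simp [frattini, Order.radical, Subgroup.mem_iInf]

/-- a maximal subgroup of a finite 2-group is normal of index 2. -/
theorem coatom_index_two {P : Type*} [Group P] [Finite P] (hP : IsPGroup 2 P)
    (M : Subgroup P) (hM : IsCoatom M) : M.Normal ∧ M.index = 2 := by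
  classical
  have : Fact (Nat.Prime 2) := ⟨Nat.prime_two⟩
  have : Group.IsNilpotent P := hP.isNilpotent
  have hn : M.Normal := Subgroup.NormalizerCondition.normal_of_coatom M
    Group.normalizerCondition_of_isNilpotent hM
  refine ⟨hn, ?_⟩
  have hsub : ∀ S : Subgroup (P ⧸ M), S = ⊥ ∨ S = ⊤ := by
    intro S
    have hle : M ≤ S.comap (QuotientGroup.mk' M) := by
      have := Subgroup.ker_le_comap (QuotientGroup.mk' M) S
      rwa [QuotientGroup.ker_mk'] at this
    rcases hM.le_iff.mp hle with h | h
    · right
      apply Subgroup.comap_injective (QuotientGroup.mk'_surjective M)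
      rw [h, Subgroup.comap_top]
    · left
      apply Subgroup.comap_injective (QuotientGroup.mk'_surjective M)
      rw [h, MonoidHom.comap_bot, QuotientGroup.ker_mk']
  have hPQ : IsPGroup 2 (P ⧸ M) := hP.to_quotient M
  have hnt : Nat.card (P ⧸ M) ≠ 1 := by
    intro h1
    have : M.index = 1 := h1
    exact hM.1 (Subgroup.index_eq_one.mp this)
  have hdvd : 2 ∣ Nat.card (P ⧸ M) := hPQ.card_eq_or_dvd.resolve_left hnt
  obtain ⟨h, hh⟩ := exists_prime_orderOf_dvd_card' 2 hdvd
  have hz : Subgroup.zpowers h = ⊤ := by
    rcases hsub (Subgroup.zpowers h) with h0 | h0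
    · exfalso
      rw [Subgroup.zpowers_eq_bot] at h0
      rw [h0, orderOf_one] at hh
      omega
    · exact h0
  have h1 : Nat.card (Subgroup.zpowers h) = 2 := by rw [Nat.card_zpowers, hh]
  rw [hz, Subgroup.card_top] at h1
  exact h1

theorem isCoatom_of_index_two' {P : Type*} [Group P] [Finite P] {K : Subgroup P}
    (hK : K.index = 2) : IsCoatom K := by
  constructor
  · intro h
    rw [h, Subgroup.index_top] at hK
    omega
  · intro L hL
    have h1 := Subgroup.index_dvd_of_le (le_of_lt hL)
    rw [hK] at h1
    have h2 : L.index = 1 ∨ L.index = 2 := by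
      have := Nat.le_of_dvd (by norm_num) h1
      have h0 : L.index ≠ 0 := Subgroup.index_ne_zero_of_finite
      omega
    rcases h2 with h2 | h2
    · exact Subgroup.index_eq_one.1 h2
    · exfalso
      have h3 : Nat.card K = Nat.card L := by
        have a := Subgroup.card_mul_index K
        have b := Subgroup.card_mul_index L
        rw [hK] at a
        rw [h2] at b
        omega
      have := Subgroup.eq_of_le_of_card_ge (le_of_lt hL) (le_of_eq h3.symm)
      exact (ne_of_lt hL) this

/-- squares and commutators lie in the Frattini subgroup of a finite 2-group. -/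
theorem sq_mem_frattini {P : Type*} [Group P] [Finite P] (hP : IsPGroup 2 P) (x : P) :
    x * x ∈ frattini P := by
  rw [mem_frattini_iff']
  intro M hM
  obtain ⟨_, hidx⟩ := coatom_index_two hP M hM
  have := Subgroup.sq_mem_of_index_two hidx x
  rwa [sq] at this

theorem comm_mem_frattini {P : Type*} [Group P] [Finite P] (hP : IsPGroup 2 P) (x y : P) :
    x * y * x⁻¹ * y⁻¹ ∈ frattini P := by
  rw [mem_frattini_iff']
  intro M hM
  obtain ⟨hn, hidx⟩ := coatom_index_two hP M hM
  rw [Subgroup.mul_mem_iff_of_index_two hidx]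
  constructor
  · intro h
    have h1 := hn.conj_mem _ h x⁻¹
    have e : x⁻¹ * (x * y * x⁻¹) * x⁻¹⁻¹ = y := by group
    rw [e] at h1
    exact M.inv_mem h1
  · intro h
    have h1 := hn.conj_mem _ (M.inv_mem h) x
    simpa using h1

end Cfsg.Agent.Helper51.RuSyl
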