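import Mathlib

/-!
# Fixed points of a 2-group on a normal elementary abelian 2-subgroup

`fx M H = M ⊓ C_X(H)`.  If `A ≤ X` (a finite 2-group), then `|fx M A| ≤ |fx M ⊤| ^ [X : A]`.
-/

set_option autoImplicit false

namespace Cfsg.Agent.Helper51.RuSyl

open Subgroup

variable {X : Type*} [Group X]

/-- fixed points of `H` on `M` (conjugation action). -/
def fx (M H : Subgroup X) : Subgroup X := M ⊓ Subgroup.centralizer (H : Set X)

theorem mem_fx {M H : Subgroup X} {x : X} : x ∈ fx M H ↔ x ∈ M ∧ ∀ h ∈ H, h * x = x * h := by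
  unfold fx
  rw [Subgroup.mem_inf, Subgroup.mem_centralizer_iff]
  rfl

theorem fx_anti {M A B : Subgroup X} (h : A ≤ B) : fx M B ≤ fx M A := by
  intro x hx
  rw [mem_fx] at hx ⊢
  exact ⟨hx.1, fun a ha => hx.2 a (h ha)⟩

theorem fx_le (M A : Subgroup X) : fx M A ≤ M := inf_le_left

/-- the step: `A ≤ A ⊔ ⟨g⟩` with `g` normalising `A` and `g^2 ∈ A`. -/
theorem card_fx_step [Finite X] (M : Subgroup X) [hMn : M.Normal]
    (hMc : ∀ x ∈ M, ∀ y ∈ M, x * y = y * x) (hM2 : ∀ x ∈ M, x * x = 1)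
    (A : Subgroup X) (g : X) (hgA : ∀ a ∈ A, g⁻¹ * a * g ∈ A) (hg2 : g * g ∈ A) :
    Nat.card (fx M A) ≤ Nat.card (fx M (A ⊔ Subgroup.zpowers g)) ^ 2 := by
  classical
  -- the map x ↦ g x g⁻¹ x⁻¹ on fx M A
  have hconj : ∀ x ∈ fx M A, g * x * g⁻¹ ∈ fx M A := by
    intro x hx
    rw [mem_fx] at hx ⊢
    refine ⟨hMn.conj_mem x hx.1 g, fun a ha => ?_⟩
    have h1 := hx.2 _ (hgA a ha)
    -- a * (g x g⁻¹) = g (g⁻¹ a g) x g⁻¹ = g x (g⁻¹ a g) g⁻¹ = g x g⁻¹ a
    calc a * (g * x * g⁻¹) = g * ((g⁻¹ * a * g) * x) * g⁻¹ := by group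
      _ = g * (x * (g⁻¹ * a * g)) * g⁻¹ := by rw [h1]
      _ = g * x * g⁻¹ * a := by group
  let φ : ↥(fx M A) →* ↥(fx M A) :=
    { toFun := fun x => ⟨g * x * g⁻¹ * (x : X)⁻¹,
        (fx M A).mul_mem (hconj x x.2) ((fx M A).inv_mem x.2)⟩
      map_one' := by
        apply Subtype.ext
        simp
      map_mul' := by
        intro x y
        apply Subtype.ext
        have hx := (mem_fx.1 x.2).1
        have hy := (mem_fx.1 y.2).1
        have hgx : g * x * g⁻¹ ∈ M := hMn.conj_mem x hx g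
        have hgy : g * y * g⁻¹ ∈ M := hMn.conj_mem y hy g
        have c1 : (g * (y : X) * g⁻¹) * (x : X)⁻¹ = (x : X)⁻¹ * (g * y * g⁻¹) :=
          hMc _ hgy _ (M.inv_mem hx)
        have c2 : (y : X)⁻¹ * (x : X)⁻¹ = (x : X)⁻¹ * (y : X)⁻¹ :=
          hMc _ (M.inv_mem hy) _ (M.inv_mem hx)
        show g * ((x : X) * y) * g⁻¹ * ((x : X) * y)⁻¹
          = (g * x * g⁻¹ * (x : X)⁻¹) * (g * y * g⁻¹ * (y : X)⁻¹)
        calc g * ((x : X) * y) * g⁻¹ * ((x : X) * y)⁻¹
            = (g * x * g⁻¹) * (g * y * g⁻¹) * ((y : X)⁻¹ * (x : X)⁻¹) := by group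
          _ = (g * x * g⁻¹) * (g * y * g⁻¹) * ((x : X)⁻¹ * (y : X)⁻¹) := by rw [c2]
          _ = (g * x * g⁻¹) * ((g * y * g⁻¹) * (x : X)⁻¹) * (y : X)⁻¹ := by group
          _ = (g * x * g⁻¹) * ((x : X)⁻¹ * (g * y * g⁻¹)) * (y : X)⁻¹ := by rw [c1]
          _ = (g * x * g⁻¹ * (x : X)⁻¹) * (g * y * g⁻¹ * (y : X)⁻¹) := by group }
  have hφ : ∀ x : ↥(fx M A), ((φ x : ↥(fx M A)) : X) = g * x * g⁻¹ * (x : X)⁻¹ := fun _ => rfl
  set K : Subgroup ↥(fx M A) := (fx M (A ⊔ Subgroup.zpowers g)).subgroupOf (fx M A) with hK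
  have hKcard : Nat.card K = Nat.card (fx M (A ⊔ Subgroup.zpowers g)) := by
    rw [hK]
    exact Nat.card_congr (Subgroup.subgroupOfEquivOfLe (fx_anti le_sup_left)).toEquiv
  -- membership in K
  have hmemK : ∀ x : ↥(fx M A), g * (x : X) = (x : X) * g → x ∈ K := by
    intro x hx
    rw [hK, Subgroup.mem_subgroupOf, mem_fx]
    refine ⟨(mem_fx.1 x.2).1, ?_⟩
    have hcen : A ⊔ Subgroup.zpowers g ≤ Subgroup.centralizer ({(x : X)} : Set X) := by
      refine sup_le ?_ ?_
      · intro a ha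
        rw [Subgroup.mem_centralizer_iff]
        intro y hy
        rw [Set.mem_singleton_iff] at hy
        subst hy
        exact ((mem_fx.1 x.2).2 a ha).symm
      · rw [Subgroup.zpowers_le, Subgroup.mem_centralizer_iff]
        intro y hy
        rw [Set.mem_singleton_iff] at hy
        subst hy
        exact hx.symm
    intro h hh
    have := hcen hh
    rw [Subgroup.mem_centralizer_iff] at this
    exact (this _ rfl).symm
  have hker : φ.ker ≤ K := by
    intro x hx
    rw [MonoidHom.mem_ker] at hx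
    have h1 : g * (x : X) * g⁻¹ * (x : X)⁻¹ = 1 := by
      rw [← hφ, hx]; rfl
    apply hmemK
    have : g * (x : X) * g⁻¹ = x := by
      have := mul_inv_eq_one.1 h1
      exact this
    calc g * (x : X) = (g * x * g⁻¹) * g := by group
      _ = x * g := by rw [this]
  have hrange : φ.range ≤ K := by
    rintro y ⟨x, rfl⟩
    apply hmemK
    rw [hφ]
    have hx := mem_fx.1 x.2
    have hg2x : (g * g) * (x : X) = x * (g * g) := hx.2 _ hg2
    have hyM : g * (x : X) * g⁻¹ * (x : X)⁻¹ ∈ M :=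
      M.mul_mem (hMn.conj_mem x hx.1 g) (M.inv_mem hx.1)
    have hsq := hM2 _ hyM
    -- g y g⁻¹ = (g g x g⁻¹ g⁻¹) (g x⁻¹ g⁻¹) = x (g x g⁻¹)⁻¹ = y⁻¹ = y
    have h1 : g * (g * (x : X) * g⁻¹ * (x : X)⁻¹) * g⁻¹ = (g * (x : X) * g⁻¹ * (x : X)⁻¹)⁻¹ := by
      calc g * (g * (x : X) * g⁻¹ * (x : X)⁻¹) * g⁻¹
          = ((g * g) * x) * g⁻¹ * g⁻¹ * (g * (x : X)⁻¹ * g⁻¹) := by group
        _ = (x * (g * g)) * g⁻¹ * g⁻¹ * (g * (x : X)⁻¹ * g⁻¹) := by rw [hg2x]
        _ = (g * (x : X) * g⁻¹ * (x : X)⁻¹)⁻¹ := by group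
    have h2 : (g * (x : X) * g⁻¹ * (x : X)⁻¹)⁻¹ = g * (x : X) * g⁻¹ * (x : X)⁻¹ :=
      inv_eq_of_mul_eq_one_left hsq
    rw [h2] at h1
    calc g * (g * (x : X) * g⁻¹ * (x : X)⁻¹)
        = (g * (g * (x : X) * g⁻¹ * (x : X)⁻¹) * g⁻¹) * g := by group
      _ = (g * (x : X) * g⁻¹ * (x : X)⁻¹) * g := by rw [h1]
  have h1 : Nat.card φ.ker * Nat.card φ.range = Nat.card (fx M A) := by
    rw [← Subgroup.index_ker]
    exact Subgroup.card_mul_index _
  calc Nat.card (fx M A) = Nat.card φ.ker * Nat.card φ.range := h1.symm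
    _ ≤ Nat.card K * Nat.card K :=
        Nat.mul_le_mul (Subgroup.card_le_of_le hker) (Subgroup.card_le_of_le hrange)
    _ = Nat.card (fx M (A ⊔ Subgroup.zpowers g)) ^ 2 := by rw [hKcard, sq]

theorem card_mul_relIndex_of_le {H K : Subgroup X} (h : H ≤ K) :
    Nat.card H * H.relIndex K = Nat.card K := by
  have h1 := Subgroup.card_mul_index (H.subgroupOf K)
  have h2 : Nat.card (H.subgroupOf K) = Nat.card H :=
    Nat.card_congr (Subgroup.subgroupOfEquivOfLe h).toEquiv
  rw [h2] at h1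
  exact h1

/-- the chain bound. -/
theorem card_fx_le [Finite X] (hX : IsPGroup 2 X) (M : Subgroup X) [hMn : M.Normal]
    (hMc : ∀ x ∈ M, ∀ y ∈ M, x * y = y * x) (hM2 : ∀ x ∈ M, x * x = 1) :
    ∀ (n : ℕ) (A : Subgroup X), A.index = n →
      Nat.card (fx M A) ≤ Nat.card (fx M ⊤) ^ n := by
  classical
  have : Fact (Nat.Prime 2) := ⟨Nat.prime_two⟩
  intro n
  induction n using Nat.strong_induction_on with
  | _ n ih =>
    intro A hA
    by_cases hAtop : A = ⊤
    · subst hAtop
      rw [Subgroup.index_top] at hA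
      subst hA
      simp
    · -- a subgroup K ≥ A of twice the order
      obtain ⟨m, hm⟩ := IsPGroup.iff_card.1 hX
      obtain ⟨k, hk⟩ := IsPGroup.iff_card.1 (hX.to_subgroup A)
      have hcm : Nat.card A * A.index = Nat.card X := Subgroup.card_mul_index A
      have hkm : k < m := by
        by_contra hcon
        rw [not_lt] at hcon
        have h1 : Nat.card X ≤ Nat.card A := by
          rw [hm, hk]; exact Nat.pow_le_pow_right (by norm_num) hcon
        have h2 : A = ⊤ := Subgroup.eq_top_of_le_card A h1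
        exact hAtop h2
      have hdvd : 2 ^ (k + 1) ∣ Nat.card X := by
        rw [hm]; exact pow_dvd_pow 2 hkm
      obtain ⟨K, hKc, hAK⟩ := Sylow.exists_subgroup_card_pow_succ hdvd hk
      -- index of A in K is 2
      have hrel : A.relIndex K = 2 := by
        have h1 : Nat.card A * A.relIndex K = Nat.card K := card_mul_relIndex_of_le hAK
        rw [hKc, hk, pow_succ] at h1
        have hpos : 0 < 2 ^ k := by positivity
        exact Nat.eq_of_mul_eq_mul_left hpos h1
      have hidx : (A.subgroupOf K).index = 2 := hrel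
      have hne : ∃ g ∈ K, g ∉ A := by
        by_contra hcon
        have : K ≤ A := by
          intro y hy
          by_contra hyA
          exact hcon ⟨y, hy, hyA⟩
        have h1 := Subgroup.card_le_of_le this
        rw [hKc, hk, pow_succ] at h1
        have hpos : 0 < 2 ^ k := by positivity
        omega
      obtain ⟨g, hgK, hgA⟩ := hne
      have hnorm : (A.subgroupOf K).Normal := Subgroup.normal_of_index_eq_two hidx
      have hconj : ∀ a ∈ A, g⁻¹ * a * g ∈ A := by
        intro a ha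
        have h1 : (⟨a, hAK ha⟩ : ↥K) ∈ A.subgroupOf K := by
          rw [Subgroup.mem_subgroupOf]; exact ha
        have h2 := hnorm.conj_mem _ h1 (⟨g, hgK⟩⁻¹ : ↥K)
        rw [Subgroup.mem_subgroupOf] at h2
        simpa using h2
      have hsq : g * g ∈ A := by
        have h1 := Subgroup.sq_mem_of_index_two hidx (⟨g, hgK⟩ : ↥K)
        rw [Subgroup.mem_subgroupOf] at h1
        simpa [sq] using h1
      -- A ⊔ ⟨g⟩ = K
      have hsupK : A ⊔ Subgroup.zpowers g = K := by
        have hle : A ⊔ Subgroup.zpowers g ≤ K := sup_le hAK (by rwa [Subgroup.zpowers_le])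
        apply Subgroup.eq_of_le_of_card_ge hle
        -- card of sup is a multiple of card A, strictly bigger
        have hd1 : Nat.card A ∣ Nat.card ↥(A ⊔ Subgroup.zpowers g) :=
          Subgroup.card_dvd_of_le le_sup_left
        have hlt : A < A ⊔ Subgroup.zpowers g := by
          refine lt_of_le_of_ne le_sup_left ?_
          intro heq
          apply hgA
          rw [heq]
          exact (le_sup_right : Subgroup.zpowers g ≤ _) (Subgroup.mem_zpowers g)
        have hne' : Nat.card A ≠ Nat.card ↥(A ⊔ Subgroup.zpowers g) := by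
          intro heq
          have := Subgroup.eq_of_le_of_card_ge (le_of_lt hlt) (le_of_eq heq.symm)
          exact (ne_of_lt hlt) this
        obtain ⟨c, hc⟩ := hd1
        have hpos : 0 < Nat.card A := Nat.card_pos
        have hc2 : 2 ≤ c := by
          rcases c with _ | _ | c
          · simp at hc
            have : 0 < Nat.card ↥(A ⊔ Subgroup.zpowers g) := Nat.card_pos
            omega
          · simp at hc; exact absurd hc.symm hne'
          · omega
        rw [hKc, hc, hk, pow_succ]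
        nlinarith
      -- index of K
      have hKidx : K.index * 2 = n := by
        have h1 := Subgroup.relIndex_mul_index hAK
        rw [hrel, hA] at h1
        omega
      have hKlt : K.index < n := by
        have : 0 < K.index := Nat.pos_of_ne_zero (Subgroup.index_ne_zero_of_finite)
        omega
      have ihK := ih K.index hKlt K rfl
      have hstep := card_fx_step M hMc hM2 A g hconj hsq
      rw [hsupK] at hstep
      calc Nat.card (fx M A) ≤ Nat.card (fx M K) ^ 2 := hstep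
        _ ≤ (Nat.card (fx M ⊤) ^ K.index) ^ 2 := Nat.pow_le_pow_left ihK 2
        _ = Nat.card (fx M ⊤) ^ n := by rw [← pow_mul, hKidx]

end Cfsg.Agent.Helper51.RuSyl
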