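import Mathlib
import Cfsg.Agent.Lib.Helper87.MaxClass
import Cfsg.Agent.Lib.Helper51.RuSylCore

/-!
# Upper central series facts for the Ru-type Sylow 2-subgroup conditions
-/

set_option autoImplicit false

namespace Cfsg.Agent.Helper51.RuSyl

open Subgroup

variable {T : Type*} [Group T]

/-- a normal subgroup of a nilpotent group not inside `Z_i` has an element in `Z_{i+1} ∖ Z_i`
(same proof as `Helper24.RankThree.exists_mem_ucs_succ_not_mem`, repeated to keep imports light). -/
theorem exists_mem_ucs_succ_not_mem' [hR : Group.IsNilpotent T] (H : Subgroup T) [hHn : H.Normal]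
    (i : ℕ) (hH : ¬ H ≤ Subgroup.upperCentralSeries T i) :
    ∃ x ∈ H, x ∈ Subgroup.upperCentralSeries T (i + 1) ∧ x ∉ Subgroup.upperCentralSeries T i := by
  classical
  obtain ⟨c, hc⟩ := hR.nilpotent'
  have hex : ∃ n, ¬ (H ⊓ Subgroup.upperCentralSeries T n ≤ Subgroup.upperCentralSeries T i) :=
    ⟨c, by rw [hc, inf_top_eq]; exact hH⟩
  have hspec := Nat.find_spec hex
  have hmin := fun m => Nat.find_min hex (m := m)
  have hni : i < Nat.find hex := by
    by_contra hle
    rw [not_lt] at hle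
    exact hspec (le_trans inf_le_right (Subgroup.upperCentralSeries_mono T hle))
  obtain ⟨m, hnm⟩ : ∃ m, Nat.find hex = m + 1 := ⟨Nat.find hex - 1, by omega⟩
  have hm : H ⊓ Subgroup.upperCentralSeries T m ≤ Subgroup.upperCentralSeries T i := by
    have := hmin m (by omega)
    rw [not_not] at this
    exact this
  rw [hnm] at hspec
  rw [SetLike.not_le_iff_exists] at hspec
  obtain ⟨x, hx, hxi⟩ := hspec
  obtain ⟨hxH, hxm⟩ := Subgroup.mem_inf.mp hx
  refine ⟨x, hxH, ?_, hxi⟩
  rw [Subgroup.mem_upperCentralSeries_succ_iff]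
  intro g
  apply hm
  refine Subgroup.mem_inf.mpr ⟨?_, ?_⟩
  · have : x * g * x⁻¹ * g⁻¹ = x * (g * x⁻¹ * g⁻¹) := by group
    rw [commutatorElement_def, this]
    exact H.mul_mem hxH (hHn.conj_mem _ (H.inv_mem hxH) g)
  · exact (Subgroup.mem_upperCentralSeries_succ_iff.mp hxm) g

/-- a normal subgroup of order at most `2^k` of a finite 2-group lies in `Z_k`. -/
theorem normal_le_ucs [Finite T] (hT : IsPGroup 2 T) (N : Subgroup T) [hN : N.Normal]
    (k : ℕ) (hk : Nat.card N ≤ 2 ^ k) : N ≤ Subgroup.upperCentralSeries T k := by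
  classical
  have : Fact (Nat.Prime 2) := ⟨Nat.prime_two⟩
  have : Group.IsNilpotent T := hT.isNilpotent
  by_contra hcon
  have key : ∀ i, i ≤ k → 2 ^ (i + 1) ≤ Nat.card ↥(N ⊓ Subgroup.upperCentralSeries T (i + 1)) := by
    intro i
    induction i with
    | zero =>
      intro _
      have h0 : ¬ N ≤ Subgroup.upperCentralSeries T 0 := fun h =>
        hcon (h.trans (Subgroup.upperCentralSeries_mono T (Nat.zero_le k)))
      obtain ⟨x, hxN, hx1, hx0⟩ := exists_mem_ucs_succ_not_mem' N 0 h0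
      have hlt : (⊥ : Subgroup T) < N ⊓ Subgroup.upperCentralSeries T (0 + 1) := by
        rw [bot_lt_iff_ne_bot]
        intro hbot
        have hx : x ∈ N ⊓ Subgroup.upperCentralSeries T (0 + 1) := Subgroup.mem_inf.2 ⟨hxN, hx1⟩
        rw [hbot, Subgroup.mem_bot] at hx
        apply hx0
        rw [hx]
        exact Subgroup.one_mem _
      have hd := Cfsg.Agent.Helper87.p_mul_card_dvd_of_lt hT hlt
      rw [Subgroup.card_bot, mul_one] at hd
      have hpos : 0 < Nat.card ↥(N ⊓ Subgroup.upperCentralSeries T (0 + 1)) := Nat.card_pos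
      have := Nat.le_of_dvd hpos hd
      simpa using this
    | succ i ih =>
      intro hi
      have hprev := ih (by omega)
      have h0 : ¬ N ≤ Subgroup.upperCentralSeries T (i + 1) := fun h =>
        hcon (h.trans (Subgroup.upperCentralSeries_mono T hi))
      obtain ⟨x, hxN, hx1, hx0⟩ := exists_mem_ucs_succ_not_mem' N (i + 1) h0
      have hlt : N ⊓ Subgroup.upperCentralSeries T (i + 1)
          < N ⊓ Subgroup.upperCentralSeries T (i + 1 + 1) := by
        refine lt_of_le_of_ne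
          (inf_le_inf_left N (Subgroup.upperCentralSeries_mono T (Nat.le_succ _))) ?_
        intro heq
        have hx : x ∈ N ⊓ Subgroup.upperCentralSeries T (i + 1 + 1) :=
          Subgroup.mem_inf.2 ⟨hxN, hx1⟩
        rw [← heq] at hx
        exact hx0 (Subgroup.mem_inf.1 hx).2
      have hd := Cfsg.Agent.Helper87.p_mul_card_dvd_of_lt hT hlt
      have hpos : 0 < Nat.card ↥(N ⊓ Subgroup.upperCentralSeries T (i + 1 + 1)) := Nat.card_pos
      have h1 := Nat.le_of_dvd hpos hd
      calc 2 ^ (i + 1 + 1) = 2 * 2 ^ (i + 1) := by ring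
        _ ≤ 2 * Nat.card ↥(N ⊓ Subgroup.upperCentralSeries T (i + 1)) := by omega
        _ ≤ _ := h1
  have h1 := key k le_rfl
  have h2 : Nat.card ↥(N ⊓ Subgroup.upperCentralSeries T (k + 1)) ≤ Nat.card N :=
    Subgroup.card_le_of_le inf_le_left
  have h3 : 2 ^ (k + 1) = 2 * 2 ^ k := by ring
  have hpos : 0 < 2 ^ k := by positivity
  omega

/-- orders of the first terms of the upper central series. -/
theorem card_ucs [Finite T] (hT : IsPGroup 2 T)
    (h4 : Nat.card (Subgroup.upperCentralSeries T 4) = 16) (hbig : 16 < Nat.card T) :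
    Nat.card (Subgroup.upperCentralSeries T 1) = 2 ∧
    Nat.card (Subgroup.upperCentralSeries T 2) = 4 ∧
    Nat.card (Subgroup.upperCentralSeries T 3) = 8 := by
  classical
  have : Fact (Nat.Prime 2) := ⟨Nat.prime_two⟩
  have hne4 : Subgroup.upperCentralSeries T 4 ≠ ⊤ := by
    intro h
    rw [h, Subgroup.card_top] at h4
    omega
  have hne : ∀ i, i ≤ 4 → Subgroup.upperCentralSeries T i ≠ ⊤ := by
    intro i hi h
    apply hne4
    rw [eq_top_iff, ← h]
    exact Subgroup.upperCentralSeries_mono T hi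
  have l0 := Cfsg.Agent.Helper87.p_mul_card_dvd_of_lt hT
    (Cfsg.Agent.Helper87.ucs_lt_succ hT (hne 0 (by norm_num)))
  have l1 := Cfsg.Agent.Helper87.p_mul_card_dvd_of_lt hT
    (Cfsg.Agent.Helper87.ucs_lt_succ hT (hne 1 (by norm_num)))
  have l2 := Cfsg.Agent.Helper87.p_mul_card_dvd_of_lt hT
    (Cfsg.Agent.Helper87.ucs_lt_succ hT (hne 2 (by norm_num)))
  have l3 := Cfsg.Agent.Helper87.p_mul_card_dvd_of_lt hT
    (Cfsg.Agent.Helper87.ucs_lt_succ hT (hne 3 (by norm_num)))
  have hz : Nat.card (Subgroup.upperCentralSeries T 0) = 1 := by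
    rw [Subgroup.upperCentralSeries_zero, Subgroup.card_bot]
  rw [hz] at l0
  simp only [Nat.reduceAdd, mul_one] at l0 l1 l2 l3
  rw [h4] at l3
  have p1 : 0 < Nat.card (Subgroup.upperCentralSeries T 1) := Nat.card_pos
  have p2 : 0 < Nat.card (Subgroup.upperCentralSeries T 2) := Nat.card_pos
  have p3 : 0 < Nat.card (Subgroup.upperCentralSeries T 3) := Nat.card_pos
  have i0 := Nat.le_of_dvd p1 l0
  have i1 := Nat.le_of_dvd p2 l1
  have i2 := Nat.le_of_dvd p3 l2
  have i3 := Nat.le_of_dvd (by norm_num) l3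
  refine ⟨by omega, by omega, by omega⟩

/-- in an index-2 pair `N ≤ K`, the product of two elements of `K ∖ N` lies in `N`. -/
theorem mul_mem_of_relIndex_two {N K : Subgroup T} (hidx : N.relIndex K = 2) {a b : T}
    (ha : a ∈ K) (hb : b ∈ K) (haN : a ∉ N) (hbN : b ∉ N) : a * b ∈ N := by
  have h := Subgroup.mul_mem_iff_of_index_two (H := N.subgroupOf K) hidx
    (a := ⟨a, ha⟩) (b := ⟨b, hb⟩)
  rw [Subgroup.mem_subgroupOf, Subgroup.mem_subgroupOf, Subgroup.mem_subgroupOf] at h
  exact h.2 ⟨fun h1 => absurd h1 haN, fun h1 => absurd h1 hbN⟩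

theorem mem_or_mul_inv_mem {N K : Subgroup T} (hidx : N.relIndex K = 2) {x z : T}
    (hx : x ∈ K) (hxN : x ∉ N) (hz : z ∈ K) : z ∈ N ∨ z * x⁻¹ ∈ N := by
  by_cases hzN : z ∈ N
  · exact Or.inl hzN
  · right
    refine mul_mem_of_relIndex_two hidx hz (K.inv_mem hx) hzN ?_
    intro h
    exact hxN (by simpa using N.inv_mem h)

/-- counting with a commutator homomorphism. -/
theorem comm_count [Finite T] (H Zc : Subgroup T) (x : T)
    (hcen : ∀ h ∈ H, ∀ z ∈ Zc, h * z = z * h) (hx : ∀ h ∈ H, h * x * h⁻¹ * x⁻¹ ∈ Zc) :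
    Nat.card H ≤ Nat.card ↥(H ⊓ Subgroup.centralizer ({x} : Set T)) * Nat.card Zc := by
  classical
  have hx' : ∀ h ∈ H, x * h * x⁻¹ * h⁻¹ ∈ Zc := by
    intro h hh
    have := Zc.inv_mem (hx h hh)
    have e : (h * x * h⁻¹ * x⁻¹)⁻¹ = x * h * x⁻¹ * h⁻¹ := by group
    rwa [e] at this
  let φ : ↥H →* ↥Zc :=
    { toFun := fun h => ⟨x * (h : T) * x⁻¹ * (h : T)⁻¹, hx' h h.2⟩
      map_one' := by
        apply Subtype.ext
        simp
      map_mul' := by
        intro a b
        apply Subtype.ext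
        have hb := hcen a a.2 _ (hx' b b.2)
        show x * ((a : T) * b) * x⁻¹ * ((a : T) * b)⁻¹
          = (x * (a : T) * x⁻¹ * (a : T)⁻¹) * (x * (b : T) * x⁻¹ * (b : T)⁻¹)
        have hc : (x * (b : T) * x⁻¹ * (b : T)⁻¹) * (a : T)⁻¹
            = (a : T)⁻¹ * (x * (b : T) * x⁻¹ * (b : T)⁻¹) :=
          (Commute.inv_right (show Commute (x * (b : T) * x⁻¹ * (b : T)⁻¹) (a : T) from hb.symm)).eq
        calc x * ((a : T) * b) * x⁻¹ * ((a : T) * b)⁻¹
            = x * (a : T) * x⁻¹ * ((x * (b : T) * x⁻¹ * (b : T)⁻¹) * (a : T)⁻¹) := by group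
          _ = x * (a : T) * x⁻¹ * ((a : T)⁻¹ * (x * (b : T) * x⁻¹ * (b : T)⁻¹)) := by rw [hc]
          _ = (x * (a : T) * x⁻¹ * (a : T)⁻¹) * (x * (b : T) * x⁻¹ * (b : T)⁻¹) := by group }
  have hker : Nat.card φ.ker = Nat.card ↥(H ⊓ Subgroup.centralizer ({x} : Set T)) := by
    apply Nat.card_congr
    refine ⟨fun y => ⟨((y : ↥H) : T), Subgroup.mem_inf.2 ⟨(y : ↥H).2, ?_⟩⟩,
      fun y => ⟨⟨(y : T), (Subgroup.mem_inf.1 y.2).1⟩, ?_⟩, ?_, ?_⟩
    · rw [Subgroup.mem_centralizer_singleton_iff]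
      have h1 : φ (y : ↥H) = 1 := y.2
      have h2 : x * ((y : ↥H) : T) * x⁻¹ * ((y : ↥H) : T)⁻¹ = 1 := congrArg Subtype.val h1
      have h3 : x * ((y : ↥H) : T) * x⁻¹ = ((y : ↥H) : T) := mul_inv_eq_one.1 h2
      calc ((y : ↥H) : T) * x = (x * ((y : ↥H) : T) * x⁻¹) * x := by rw [h3]
        _ = x * ((y : ↥H) : T) := by group
    · rw [MonoidHom.mem_ker]
      apply Subtype.ext
      have h1 := (Subgroup.mem_inf.1 y.2).2
      rw [Subgroup.mem_centralizer_singleton_iff] at h1
      show x * (y : T) * x⁻¹ * (y : T)⁻¹ = 1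
      rw [← h1]
      group
    · intro y; rfl
    · intro y; rfl
  have h1 : Nat.card φ.ker * Nat.card φ.range = Nat.card H := by
    rw [← Subgroup.index_ker]
    exact Subgroup.card_mul_index _
  calc Nat.card H = Nat.card φ.ker * Nat.card φ.range := h1.symm
    _ ≤ Nat.card ↥(H ⊓ Subgroup.centralizer ({x} : Set T)) * Nat.card Zc := by
        rw [hker]
        exact Nat.mul_le_mul le_rfl (Nat.card_le_card_of_injective _ Subtype.val_injective)

theorem relIndex_ucs [Finite T] (hT : IsPGroup 2 T)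
    (h4 : Nat.card (Subgroup.upperCentralSeries T 4) = 16) (hbig : 16 < Nat.card T) :
    (Subgroup.upperCentralSeries T 0).relIndex (Subgroup.upperCentralSeries T 1) = 2 ∧
    (Subgroup.upperCentralSeries T 1).relIndex (Subgroup.upperCentralSeries T 2) = 2 ∧
    (Subgroup.upperCentralSeries T 2).relIndex (Subgroup.upperCentralSeries T 3) = 2 ∧
    (Subgroup.upperCentralSeries T 3).relIndex (Subgroup.upperCentralSeries T 4) = 2 := by
  obtain ⟨c1, c2, c3⟩ := card_ucs hT h4 hbig
  have c0 : Nat.card (Subgroup.upperCentralSeries T 0) = 1 := by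
    rw [Subgroup.upperCentralSeries_zero, Subgroup.card_bot]
  have m : ∀ i, Subgroup.upperCentralSeries T i ≤ Subgroup.upperCentralSeries T (i + 1) :=
    fun i => Subgroup.upperCentralSeries_mono T (Nat.le_succ i)
  have e0 := card_mul_relIndex_of_le (m 0)
  have e1 := card_mul_relIndex_of_le (m 1)
  have e2 := card_mul_relIndex_of_le (m 2)
  have e3 := card_mul_relIndex_of_le (m 3)
  simp only [Nat.reduceAdd] at e0 e1 e2 e3
  rw [c0, c1] at e0
  rw [c1, c2] at e1
  rw [c2, c3] at e2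
  rw [c3, h4] at e3
  refine ⟨by omega, by omega, by omega, by omega⟩

/-- `|T : C_T(Z_3)| ≤ 8`. -/
theorem card_le_eight_mul_card_centralizer [Finite T] (hT : IsPGroup 2 T)
    (h4 : Nat.card (Subgroup.upperCentralSeries T 4) = 16) (hbig : 16 < Nat.card T) :
    Nat.card T ≤ 8 * Nat.card
      (Subgroup.centralizer ((Subgroup.upperCentralSeries T 3 : Subgroup T) : Set T)) := by
  classical
  obtain ⟨c1, c2, c3⟩ := card_ucs hT h4 hbig
  obtain ⟨_, r1, r2, _⟩ := relIndex_ucs hT h4 hbig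
  have m12 : Subgroup.upperCentralSeries T 1 ≤ Subgroup.upperCentralSeries T 2 :=
    Subgroup.upperCentralSeries_mono T (by norm_num)
  have m23 : Subgroup.upperCentralSeries T 2 ≤ Subgroup.upperCentralSeries T 3 :=
    Subgroup.upperCentralSeries_mono T (by norm_num)
  -- elements z2, z3
  have ex2 : ∃ z, z ∈ Subgroup.upperCentralSeries T 2 ∧ z ∉ Subgroup.upperCentralSeries T 1 := by
    by_contra hcon
    have hle : Subgroup.upperCentralSeries T 2 ≤ Subgroup.upperCentralSeries T 1 := by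
      intro z hz
      by_contra hz1
      exact hcon ⟨z, hz, hz1⟩
    have := Subgroup.card_le_of_le hle
    omega
  have ex3 : ∃ z, z ∈ Subgroup.upperCentralSeries T 3 ∧ z ∉ Subgroup.upperCentralSeries T 2 := by
    by_contra hcon
    have hle : Subgroup.upperCentralSeries T 3 ≤ Subgroup.upperCentralSeries T 2 := by
      intro z hz
      by_contra hz1
      exact hcon ⟨z, hz, hz1⟩
    have := Subgroup.card_le_of_le hle
    omega
  obtain ⟨z2, hz2, hz2'⟩ := ex2
  obtain ⟨z3, hz3, hz3'⟩ := ex3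
  have hcenter : ∀ z ∈ Subgroup.upperCentralSeries T 1, ∀ t : T, t * z = z * t := by
    intro z hz t
    rw [Subgroup.upperCentralSeries_one, Subgroup.mem_center_iff] at hz
    exact hz t
  have hcomm : ∀ (i : ℕ) (z : T), z ∈ Subgroup.upperCentralSeries T (i + 1) → ∀ t : T,
      t * z * t⁻¹ * z⁻¹ ∈ Subgroup.upperCentralSeries T i := by
    intro i z hz t
    have := (Subgroup.mem_upperCentralSeries_succ_iff.1 hz) t
    have h2 := Subgroup.inv_mem _ this
    rw [commutatorElement_inv, commutatorElement_def] at h2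
    exact h2
  -- step 1
  have s1 := comm_count (⊤ : Subgroup T) (Subgroup.upperCentralSeries T 1) z2
    (fun h _ z hz => hcenter z hz h) (fun h _ => hcomm 1 z2 hz2 h)
  rw [Subgroup.card_top, c1] at s1
  -- H1 centralises Z_2
  set H1 : Subgroup T := ⊤ ⊓ Subgroup.centralizer ({z2} : Set T) with hH1
  have hH1z2 : ∀ h ∈ H1, h * z2 = z2 * h := by
    intro h hh
    have := (Subgroup.mem_inf.1 hh).2
    rw [Subgroup.mem_centralizer_singleton_iff] at this
    exact this
  have hH1Z2 : ∀ h ∈ H1, ∀ z ∈ Subgroup.upperCentralSeries T 2, h * z = z * h := by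
    intro h hh z hz
    rcases mem_or_mul_inv_mem r1 hz2 hz2' hz with h1 | h1
    · exact hcenter z h1 h
    · have e1 := hcenter _ h1 h
      have e2 := hH1z2 h hh
      calc h * z = (h * (z * z2⁻¹)) * z2 := by group
        _ = ((z * z2⁻¹) * h) * z2 := by rw [e1]
        _ = (z * z2⁻¹) * (h * z2) := by group
        _ = (z * z2⁻¹) * (z2 * h) := by rw [e2]
        _ = z * h := by group
  have s2 := comm_count H1 (Subgroup.upperCentralSeries T 2) z3 hH1Z2
    (fun h _ => hcomm 2 z3 hz3 h)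
  rw [c2] at s2
  have hle : H1 ⊓ Subgroup.centralizer ({z3} : Set T) ≤
      Subgroup.centralizer ((Subgroup.upperCentralSeries T 3 : Subgroup T) : Set T) := by
    intro h hh
    obtain ⟨hh1, hh2⟩ := Subgroup.mem_inf.1 hh
    rw [Subgroup.mem_centralizer_singleton_iff] at hh2
    rw [Subgroup.mem_centralizer_iff]
    intro z hz
    rcases mem_or_mul_inv_mem r2 hz3 hz3' hz with h1 | h1
    · exact (hH1Z2 h hh1 z h1).symm
    · have e1 := hH1Z2 h hh1 _ h1
      symm
      calc h * z = (h * (z * z3⁻¹)) * z3 := by group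
        _ = ((z * z3⁻¹) * h) * z3 := by rw [e1]
        _ = (z * z3⁻¹) * (h * z3) := by group
        _ = (z * z3⁻¹) * (z3 * h) := by rw [hh2]
        _ = z * h := by group
  have s3 := Subgroup.card_le_of_le hle
  nlinarith

end Cfsg.Agent.Helper51.RuSyl
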