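import Mathlib
import Cfsg.Agent.Lib.Helper51.RuSylCore
import Cfsg.Agent.Lib.Helper51.RuSylUcs
import Cfsg.Agent.Lib.Helper51.RuSylFrat

/-!
# 2-groups satisfying the Ru-type conditions: structure, automorphisms, weak closure
-/

set_option autoImplicit false
set_option linter.unusedSectionVars false

namespace Cfsg.Agent.Helper51.RuSyl

open Subgroup

variable {T : Type*} [Group T] [Finite T]

/-- the hypotheses on the 2-group `T` and `W = C_T(Z_3(T))`. -/
structure Hyp (W : Subgroup T) : Prop where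
  pg : IsPGroup 2 T
  big : 2 ^ 14 ≤ Nat.card T
  z4 : Nat.card (Subgroup.upperCentralSeries T 4) = 16
  hW : W = Subgroup.centralizer ((Subgroup.upperCentralSeries T 3 : Subgroup T) : Set T)
  hc : Nat.card (frattini ↥W) ≤ 8
  hd : ∀ U : Subgroup ↥W, U.index ≤ 16 → frattini ↥W ≤ U

/-- the Frattini subgroup of `W` as a subgroup of `T`. -/
def Fr (W : Subgroup T) : Subgroup T := (frattini ↥W).map W.subtype

theorem mem_Fr_iff {W : Subgroup T} {x : T} (hx : x ∈ W) :
    x ∈ Fr W ↔ (⟨x, hx⟩ : ↥W) ∈ frattini ↥W := by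
  unfold Fr
  constructor
  · rintro ⟨y, hy, hyx⟩
    have : y = ⟨x, hx⟩ := Subtype.ext hyx
    rwa [← this]
  · intro h
    exact ⟨⟨x, hx⟩, h, rfl⟩

theorem Fr_le (W : Subgroup T) : Fr W ≤ W := by
  unfold Fr
  exact Subgroup.map_subtype_le _

theorem card_Fr (W : Subgroup T) : Nat.card (Fr W) = Nat.card (frattini ↥W) := by
  unfold Fr
  exact Subgroup.card_map_of_injective W.subtype_injective

namespace Hyp

variable {W : Subgroup T} (h : Hyp W)
include h

theorem big' : 16 < Nat.card T := by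
  have := h.big
  norm_num at this
  omega

theorem normalW : W.Normal := by
  rw [h.hW]
  infer_instance

theorem normalFr : (Fr W).Normal := by
  have := h.normalW
  unfold Fr
  exact ConjAct.normal_of_characteristic_of_normal

theorem pgW : IsPGroup 2 ↥W := h.pg.to_subgroup W

theorem comm_mem {a b : T} (ha : a ∈ W) (hb : b ∈ W) : a * b * a⁻¹ * b⁻¹ ∈ Fr W := by
  have h1 := comm_mem_frattini h.pgW (⟨a, ha⟩ : ↥W) ⟨b, hb⟩
  have hm : a * b * a⁻¹ * b⁻¹ ∈ W := W.mul_mem (W.mul_mem (W.mul_mem ha hb) (W.inv_mem ha)) (W.inv_mem hb)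
  rw [mem_Fr_iff hm]
  exact h1

theorem sq_mem {a : T} (ha : a ∈ W) : a * a ∈ Fr W := by
  have h1 := sq_mem_frattini h.pgW (⟨a, ha⟩ : ↥W)
  rw [mem_Fr_iff (W.mul_mem ha ha)]
  exact h1

theorem card_Fr_le : Nat.card (Fr W) ≤ 8 := by
  rw [card_Fr]
  exact h.hc

theorem Fr_le_ucs3 : Fr W ≤ Subgroup.upperCentralSeries T 3 := by
  have := h.normalFr
  exact normal_le_ucs h.pg (Fr W) 3 (by have := h.card_Fr_le; norm_num; exact this)

theorem card_T_le : Nat.card T ≤ 8 * Nat.card W := by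
  have := card_le_eight_mul_card_centralizer h.pg h.z4 h.big'
  rw [← h.hW] at this
  exact this

theorem card_W_ge : 2 ^ 11 ≤ Nat.card W := by
  have h1 := h.card_T_le
  have h2 := h.big
  norm_num at h2 ⊢
  omega

theorem index_W_le : W.index ≤ 8 := by
  have h1 := h.card_T_le
  have h2 := Subgroup.card_mul_index W
  have hpos : 0 < Nat.card W := Nat.card_pos
  by_contra hcon
  rw [not_le] at hcon
  have : 8 * Nat.card W < Nat.card W * W.index := by nlinarith
  omega

end Hyp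

/-! ### the quotient `T ⧸ Fr W` -/

theorem card_map_mk (F U : Subgroup T) [F.Normal] (hFU : F ≤ U) :
    Nat.card (U.map (QuotientGroup.mk' F)) * Nat.card F = Nat.card U := by
  have h1 := Subgroup.relIndex_ker (K := U) (QuotientGroup.mk' F)
  rw [QuotientGroup.ker_mk'] at h1
  rw [← h1, mul_comm]
  exact card_mul_relIndex_of_le hFU

theorem mk_comm_iff (F : Subgroup T) [F.Normal] (a u : T) :
    QuotientGroup.mk' F a * QuotientGroup.mk' F u = QuotientGroup.mk' F u * QuotientGroup.mk' F a ↔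
      a * u * a⁻¹ * u⁻¹ ∈ F := by
  rw [← QuotientGroup.eq_one_iff, ← QuotientGroup.mk'_apply, map_mul, map_mul, map_mul, map_inv,
    map_inv, mul_inv_eq_one, mul_inv_eq_iff_eq_mul]

theorem mk_eq_one_iff (F : Subgroup T) [F.Normal] (a : T) :
    QuotientGroup.mk' F a = 1 ↔ a ∈ F := by
  rw [QuotientGroup.mk'_apply, QuotientGroup.eq_one_iff]

namespace Hyp

variable {W : Subgroup T} (h : Hyp W) [hn : (Fr W).Normal]
include h

theorem map_comm : ∀ x ∈ W.map (QuotientGroup.mk' (Fr W)), ∀ y ∈ W.map (QuotientGroup.mk' (Fr W)),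
    x * y = y * x := by
  rintro x ⟨a, ha, rfl⟩ y ⟨b, hb, rfl⟩
  rw [mk_comm_iff]
  exact h.comm_mem ha hb

theorem map_sq : ∀ x ∈ W.map (QuotientGroup.mk' (Fr W)), x * x = 1 := by
  rintro x ⟨a, ha, rfl⟩
  rw [← map_mul, mk_eq_one_iff]
  exact h.sq_mem ha

theorem map_normal : (W.map (QuotientGroup.mk' (Fr W))).Normal := by
  have := h.normalW
  exact Subgroup.Normal.map this _ (QuotientGroup.mk'_surjective _)

/-- `T` has at most two fixed points on `W / Fr W`. -/
theorem card_fx_top_le : Nat.card (fx (W.map (QuotientGroup.mk' (Fr W))) ⊤) ≤ 2 := by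
  classical
  have : Fact (Nat.Prime 2) := ⟨Nat.prime_two⟩
  obtain ⟨f, hf⟩ := IsPGroup.iff_card.1 (h.pg.to_subgroup (Fr W))
  have hf3 : f ≤ 3 := by
    by_contra hcon
    rw [not_le] at hcon
    have h1 : 2 ^ 4 ≤ 2 ^ f := Nat.pow_le_pow_right (by norm_num) hcon
    have h2 := h.card_Fr_le
    rw [hf] at h2
    norm_num at h1
    omega
  have hFZ : Fr W ≤ Subgroup.upperCentralSeries T f := normal_le_ucs h.pg (Fr W) f (le_of_eq hf)
  set V : Subgroup T := W ⊓ (Subgroup.center (T ⧸ Fr W)).comap (QuotientGroup.mk' (Fr W)) with hV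
  have hVZ : V ≤ Subgroup.upperCentralSeries T (f + 1) := by
    intro w hw
    obtain ⟨hwW, hwc⟩ := Subgroup.mem_inf.1 hw
    rw [Subgroup.mem_comap, Subgroup.mem_center_iff] at hwc
    rw [Subgroup.mem_upperCentralSeries_succ_iff]
    intro t
    apply hFZ
    rw [commutatorElement_def, ← mk_comm_iff]
    exact (hwc _).symm
  have hcardZ : Nat.card (Subgroup.upperCentralSeries T (f + 1)) = 2 ^ (f + 1) := by
    obtain ⟨c1, c2, c3⟩ := card_ucs h.pg h.z4 h.big'
    have c4 := h.z4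
    interval_cases f
    · simpa using c1
    · simpa using c2
    · simpa using c3
    · simpa using c4
  have hFV : Fr W ≤ V := by
    intro x hx
    refine Subgroup.mem_inf.2 ⟨Fr_le W hx, ?_⟩
    rw [Subgroup.mem_comap, (mk_eq_one_iff (Fr W) x).2 hx]
    exact Subgroup.one_mem _
  have hC : fx (W.map (QuotientGroup.mk' (Fr W))) ⊤ ≤ V.map (QuotientGroup.mk' (Fr W)) := by
    intro y hy
    rw [mem_fx] at hy
    obtain ⟨⟨w, hw, rfl⟩, hy2⟩ := hy
    refine ⟨w, Subgroup.mem_inf.2 ⟨hw, ?_⟩, rfl⟩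
    rw [Subgroup.mem_comap, Subgroup.mem_center_iff]
    intro g
    exact hy2 g (Subgroup.mem_top g)
  have h1 := Subgroup.card_le_of_le hC
  have h2 := card_map_mk (Fr W) V hFV
  have h3 := Subgroup.card_le_of_le hVZ
  rw [hcardZ] at h3
  rw [hf] at h2
  have hpos : 0 < 2 ^ f := by positivity
  have h4 : Nat.card ↥(V.map (QuotientGroup.mk' (Fr W))) ≤ 2 := by
    by_contra hcon
    rw [not_le] at hcon
    have : 3 * 2 ^ f ≤ Nat.card ↥(V.map (QuotientGroup.mk' (Fr W))) * 2 ^ f :=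
      Nat.mul_le_mul_right _ hcon
    rw [pow_succ] at h3
    omega
  omega

/-- the basic counting consequence of the fixed point bound. -/
theorem card_le_of_centralizes (U A : Subgroup T) (hFU : Fr W ≤ U) (hUW : U ≤ W) (hWA : W ≤ A)
    (hUA : ∀ u ∈ U, ∀ a ∈ A, a * u * a⁻¹ * u⁻¹ ∈ Fr W) :
    Nat.card U ≤ Nat.card (Fr W) * 2 ^ A.index := by
  classical
  have hXp : IsPGroup 2 (T ⧸ Fr W) := h.pg.to_quotient (Fr W)
  have hMn := h.map_normal
  have hle : U.map (QuotientGroup.mk' (Fr W)) ≤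
      fx (W.map (QuotientGroup.mk' (Fr W))) (A.map (QuotientGroup.mk' (Fr W))) := by
    rintro y ⟨u, hu, rfl⟩
    rw [mem_fx]
    refine ⟨⟨u, hUW hu, rfl⟩, ?_⟩
    rintro x ⟨a, ha, rfl⟩
    rw [mk_comm_iff]
    exact hUA u hu a ha
  have hidx : (A.map (QuotientGroup.mk' (Fr W))).index = A.index := by
    apply Subgroup.index_map_eq A (QuotientGroup.mk'_surjective _)
    rw [QuotientGroup.ker_mk']
    exact (Fr_le W).trans hWA
  have h1 := Subgroup.card_le_of_le hle
  have h2 := card_fx_le hXp (W.map (QuotientGroup.mk' (Fr W))) h.map_comm h.map_sq _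
    (A.map (QuotientGroup.mk' (Fr W))) rfl
  rw [hidx] at h2
  have h3 := h.card_fx_top_le
  have h4 : Nat.card ↥(fx (W.map (QuotientGroup.mk' (Fr W))) ⊤) ^ A.index ≤ 2 ^ A.index :=
    Nat.pow_le_pow_left h3 _
  have h5 := card_map_mk (Fr W) U hFU
  rw [← h5, mul_comm]
  exact Nat.mul_le_mul_left _ (h1.trans (h2.trans h4))

end Hyp

end Cfsg.Agent.Helper51.RuSyl
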