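import Mathlib
import Cfsg.Agent.Lib.Helper51.RuSylMain

/-!
# The short clauses of the Ru-type Sylow 2-subgroup statement (piece (SHORT) of helper76's RUZ server)
-/

set_option autoImplicit false
set_option linter.unusedSectionVars false

namespace Cfsg.Agent.Helper51.RuZ

open Cfsg.Agent.Helper51.RuSyl

section general

variable {G : Type*} [Group G]

/-- `U ∪ aU` for a subgroup `U` containing all commutators and the square of `a`. -/
def adjoinSq (U : Subgroup G) (a : G) (hU : ∀ x y : G, x * y * x⁻¹ * y⁻¹ ∈ U) (ha : a * a ∈ U) :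
    Subgroup G where
  carrier := {x | x ∈ U ∨ a⁻¹ * x ∈ U}
  mul_mem' := by
    rintro x y (hx | hx) (hy | hy)
    · exact Or.inl (U.mul_mem hx hy)
    · refine Or.inr ?_
      have e : a⁻¹ * (x * y) = (a⁻¹ * x * a⁻¹⁻¹ * x⁻¹) * x * (a⁻¹ * y) := by group
      rw [e]
      exact U.mul_mem (U.mul_mem (hU _ _) hx) hy
    · refine Or.inr ?_
      have e : a⁻¹ * (x * y) = (a⁻¹ * x) * y := by group
      rw [e]
      exact U.mul_mem hx hy
    · refine Or.inl ?_
      have e : x * y = (a * (a⁻¹ * x) * a⁻¹ * (a⁻¹ * x)⁻¹) * (a⁻¹ * x) * (a * a) * (a⁻¹ * y) := by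
        group
      rw [e]
      exact U.mul_mem (U.mul_mem (U.mul_mem (hU _ _) hx) ha) hy
  one_mem' := Or.inl U.one_mem
  inv_mem' := by
    rintro x (hx | hx)
    · exact Or.inl (U.inv_mem hx)
    · refine Or.inr ?_
      have e : a⁻¹ * x⁻¹ =
          (a⁻¹ * (a⁻¹ * x)⁻¹ * a⁻¹⁻¹ * (a⁻¹ * x)⁻¹⁻¹) * (a⁻¹ * x)⁻¹ * (a * a)⁻¹ := by group
      rw [e]
      exact U.mul_mem (U.mul_mem (hU _ _) (U.inv_mem hx)) (U.inv_mem ha)

theorem mem_adjoinSq (U : Subgroup G) (a : G) (hU : ∀ x y : G, x * y * x⁻¹ * y⁻¹ ∈ U)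
    (ha : a * a ∈ U) (x : G) : x ∈ adjoinSq U a hU ha ↔ x ∈ U ∨ a⁻¹ * x ∈ U := Iff.rfl

/-- in a finite group `G` with `G / Y` elementary abelian, an element outside `Y` is avoided by a subgroup
of index 2 containing `Y`. -/
theorem exists_index_two_not_mem [Finite G] (Y : Subgroup G) (hsq : ∀ x : G, x * x ∈ Y)
    (hcomm : ∀ x y : G, x * y * x⁻¹ * y⁻¹ ∈ Y) (f : G) (hf : f ∉ Y) :
    ∃ U : Subgroup G, Y ≤ U ∧ f ∉ U ∧ U.index = 2 := by
  classical
  obtain ⟨U, -, hmax⟩ := Finite.exists_le_maximal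
    (p := fun U : Subgroup G => Y ≤ U ∧ f ∉ U) (a := Y) ⟨le_rfl, hf⟩
  obtain ⟨⟨hYU, hfU⟩, hmax'⟩ := hmax
  have hUc : ∀ x y : G, x * y * x⁻¹ * y⁻¹ ∈ U := fun x y => hYU (hcomm x y)
  have key : ∀ a : G, a ∉ U → a⁻¹ * f ∈ U := by
    intro a ha
    by_contra hcon
    have hle : U ≤ adjoinSq U a hUc (hYU (hsq a)) := fun x hx => Or.inl hx
    have hp : Y ≤ adjoinSq U a hUc (hYU (hsq a)) ∧ f ∉ adjoinSq U a hUc (hYU (hsq a)) := by
      refine ⟨hYU.trans hle, ?_⟩
      rintro (h1 | h1)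
      · exact hfU h1
      · exact hcon h1
    have h2 := hmax' hp hle
    have haA : a ∈ adjoinSq U a hUc (hYU (hsq a)) := by
      refine Or.inr ?_
      rw [inv_mul_cancel]
      exact U.one_mem
    exact ha (h2 haA)
  refine ⟨U, hYU, hfU, ?_⟩
  rw [Subgroup.index_eq_two_iff]
  refine ⟨f, fun b => ?_⟩
  by_cases hb : b ∈ U
  · refine Or.inr ⟨hb, fun h1 => hfU ?_⟩
    have := U.mul_mem (U.inv_mem hb) h1
    rwa [inv_mul_cancel_left] at this
  · refine Or.inl ⟨?_, hb⟩
    have e : b * f = (b * b) * (b⁻¹ * f) := by group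
    rw [e]
    exact U.mul_mem (hYU (hsq b)) (key b hb)

end general

variable {T : Type*} [Group T] [Finite T]

/-- the counting clauses. -/
theorem base_clauses (W : Subgroup T) (h : Hyp W) :
    Nat.card T = 2 ^ 14 ∧ Nat.card W = 2 ^ 11 ∧ W.index = 8 ∧ Nat.card (Fr W) = 8 := by
  have := h.normalFr
  have h1 := h.card_le_of_centralizes W W (Fr_le W) le_rfl le_rfl
    (fun u hu a ha => h.comm_mem ha hu)
  have h2 := h.card_Fr_le
  have h3 := h.index_W_le
  have h4 := h.card_W_ge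
  have h5 := Subgroup.card_mul_index W
  have h6 := h.big
  have hidx : W.index = 8 := by
    by_contra hne
    have h7 : W.index ≤ 7 := by omega
    have h8 : 2 ^ W.index ≤ 2 ^ 7 := Nat.pow_le_pow_right (by norm_num) h7
    have h9 : Nat.card (Fr W) * 2 ^ W.index ≤ 8 * 2 ^ 7 := Nat.mul_le_mul h2 h8
    norm_num at h4 h9
    omega
  rw [hidx] at h1 h5
  have hF : Nat.card (Fr W) = 8 := by
    by_contra hne
    have h7 : Nat.card (Fr W) ≤ 7 := by omega
    have h9 : Nat.card (Fr W) * 2 ^ 8 ≤ 7 * 2 ^ 8 := Nat.mul_le_mul h7 le_rfl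
    norm_num at h4 h9
    omega
  rw [hF] at h1
  have hW : Nat.card W = 2 ^ 11 := by
    norm_num at h1 h4 ⊢
    omega
  refine ⟨?_, hW, hidx, hF⟩
  rw [← h5, hW]
  norm_num

/-- `Fr W = Z_3(T)`. -/
theorem Fr_eq_ucs3 (W : Subgroup T) (h : Hyp W) : Fr W = Subgroup.upperCentralSeries T 3 := by
  have hc := (card_ucs h.pg h.z4 h.big').2.2
  have hF := (base_clauses W h).2.2.2
  exact Subgroup.eq_of_le_of_card_ge h.Fr_le_ucs3 (by rw [hc, hF])

/-- the derived subgroup of `W`, inside `T`. -/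
theorem map_commutator_eq (W : Subgroup T) :
    (commutator ↥W).map W.subtype = ⁅W, W⁆ := by
  rw [commutator_def, Subgroup.map_commutator, ← MonoidHom.range_eq_map, Subgroup.range_subtype]

/-- `W` centralises `Z_3`. -/
theorem commute_ucs3 {W : Subgroup T} (h : Hyp W) {w z : T} (hw : w ∈ W)
    (hz : z ∈ Subgroup.upperCentralSeries T 3) : z * w = w * z := by
  have hw' := hw
  rw [h.hW, Subgroup.mem_centralizer_iff] at hw'
  exact hw' z hz

/-- the subgroup of the elements of `W` with square in `Y`, when `Y` contains the commutators. -/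
def sqSub (W Y : Subgroup T)
    (hcomm : ∀ a ∈ W, ∀ b ∈ W, a * b * a⁻¹ * b⁻¹ ∈ Y) : Subgroup T where
  carrier := {x | x ∈ W ∧ x * x ∈ Y}
  mul_mem' := by
    rintro x y ⟨hx, hx2⟩ ⟨hy, hy2⟩
    refine ⟨W.mul_mem hx hy, ?_⟩
    have e : x * y * (x * y) = (x * x) * (x⁻¹ * y * x⁻¹⁻¹ * y⁻¹) * (y * y) := by group
    rw [e]
    exact Y.mul_mem (Y.mul_mem hx2 (hcomm _ (W.inv_mem hx) _ hy)) hy2
  one_mem' := ⟨W.one_mem, by rw [mul_one]; exact Y.one_mem⟩
  inv_mem' := by
    rintro x ⟨hx, hx2⟩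
    refine ⟨W.inv_mem hx, ?_⟩
    have e : x⁻¹ * x⁻¹ = (x * x)⁻¹ := by group
    rw [e]
    exact Y.inv_mem hx2

/-- the derived subgroup of `W` is `Z_3(T)`. -/
theorem commutator_eq_ucs3 (W : Subgroup T) (h : Hyp W) :
    (commutator ↥W).map W.subtype = Subgroup.upperCentralSeries T 3 := by
  classical
  have hnW := h.normalW
  have hF := Fr_eq_ucs3 W h
  have hcards := card_ucs h.pg h.z4 h.big'
  have hrel := (relIndex_ucs h.pg h.z4 h.big').2.2.1
  rw [map_commutator_eq]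
  have hDn : (⁅W, W⁆ : Subgroup T).Normal := Subgroup.commutator_normal W W
  have hDle : ⁅W, W⁆ ≤ Subgroup.upperCentralSeries T 3 := by
    rw [← hF, Subgroup.commutator_le]
    intro a ha b hb
    rw [commutatorElement_def]
    exact h.comm_mem ha hb
  by_contra hne
  -- the derived subgroup is inside `Z_2`
  have hD2 : ⁅W, W⁆ ≤ Subgroup.upperCentralSeries T 2 := by
    apply normal_le_ucs h.pg _ 2
    have hdvd := Subgroup.card_dvd_of_le hDle
    rw [hcards.2.2] at hdvd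
    have h8 : (8 : ℕ) = 2 ^ 3 := by norm_num
    rw [h8, Nat.dvd_prime_pow Nat.prime_two] at hdvd
    obtain ⟨k, hk, hck⟩ := hdvd
    have hk3 : k ≠ 3 := by
      rintro rfl
      apply hne
      exact Subgroup.eq_of_le_of_card_ge hDle (by rw [hcards.2.2, hck]; norm_num)
    have hk2 : k ≤ 2 := by omega
    rw [hck]
    exact Nat.pow_le_pow_right (by norm_num) hk2
  have hcomm : ∀ a ∈ W, ∀ b ∈ W, a * b * a⁻¹ * b⁻¹ ∈ Subgroup.upperCentralSeries T 2 := by
    intro a ha b hb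
    have := Subgroup.commutator_mem_commutator ha hb
    rw [commutatorElement_def] at this
    exact hD2 this
  have hY : (Subgroup.upperCentralSeries T 2).Normal := inferInstance
  have h23 : Subgroup.upperCentralSeries T 2 ≤ Subgroup.upperCentralSeries T 3 :=
    Subgroup.upperCentralSeries_mono T (by norm_num)
  have h3W : Subgroup.upperCentralSeries T 3 ≤ W := by
    rw [← hF]
    exact Fr_le W
  have hsq3 : ∀ a ∈ W, a * a ∈ Subgroup.upperCentralSeries T 3 := by
    intro a ha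
    rw [← hF]
    exact h.sq_mem ha
  -- an element of `Z_3` outside `Z_2`
  obtain ⟨f, hf3, hf2⟩ : ∃ f ∈ Subgroup.upperCentralSeries T 3,
      f ∉ Subgroup.upperCentralSeries T 2 := by
    have : ¬ Subgroup.upperCentralSeries T 3 ≤ Subgroup.upperCentralSeries T 2 := by
      rw [← Subgroup.relIndex_eq_one, hrel]
      norm_num
    exact SetLike.not_le_iff_exists.1 this
  have hsqZ3 : ∀ z ∈ Subgroup.upperCentralSeries T 3, z * z ∈ Subgroup.upperCentralSeries T 2 := by
    intro z hz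
    by_cases hz2 : z ∈ Subgroup.upperCentralSeries T 2
    · exact Subgroup.mul_mem _ hz2 hz2
    · exact mul_mem_of_relIndex_two hrel hz hz hz2 hz2
  -- the subgroup `K` of the elements of `W` with square in `Z_2`
  set K : Subgroup T := sqSub W (Subgroup.upperCentralSeries T 2) hcomm with hKdef
  have hKW : K ≤ W := fun x hx => hx.1
  have hfK : f ∈ K := ⟨h3W hf3, hsqZ3 f hf3⟩
  have hKidx : K.relIndex W ≤ 2 := by
    by_cases hWK : W ≤ K
    · rw [Subgroup.relIndex_eq_one.2 hWK]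
      norm_num
    · obtain ⟨a, haW, haK⟩ := SetLike.not_le_iff_exists.1 hWK
      have ha2 : a * a ∉ Subgroup.upperCentralSeries T 2 := fun h2 => haK ⟨haW, h2⟩
      apply le_of_eq
      unfold Subgroup.relIndex
      rw [Subgroup.index_eq_two_iff]
      refine ⟨⟨a, haW⟩, fun b => ?_⟩
      rw [Subgroup.mem_subgroupOf, Subgroup.mem_subgroupOf]
      by_cases hb : (b : T) ∈ K
      · refine Or.inr ⟨hb, fun h1 => haK ?_⟩
        have := K.mul_mem (K.inv_mem hb) h1
        rwa [Subgroup.coe_mul, Subgroup.coe_mk, inv_mul_cancel_left] at this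
      · refine Or.inl ⟨?_, hb⟩
        have hb2 : (b : T) * b ∉ Subgroup.upperCentralSeries T 2 := fun h2 => hb ⟨b.2, h2⟩
        refine ⟨W.mul_mem b.2 haW, ?_⟩
        rw [Subgroup.coe_mul, Subgroup.coe_mk]
        have e : (b : T) * a * (b * a) = ((b : T) * b * (a * a)) *
            ((a * a)⁻¹ * ((b : T)⁻¹ * a * (b : T)⁻¹⁻¹ * a⁻¹) * (a * a)⁻¹⁻¹) := by group
        rw [e]
        refine Subgroup.mul_mem _ ?_ ?_
        · exact mul_mem_of_relIndex_two hrel (hsq3 _ b.2) (hsq3 _ haW) hb2 ha2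
        · exact hY.conj_mem _ (hcomm _ (W.inv_mem b.2) _ haW) _
  -- a subgroup of index 2 of `K` avoiding `f`
  obtain ⟨U, hYU, hfU, hUidx⟩ := exists_index_two_not_mem
    ((Subgroup.upperCentralSeries T 2).subgroupOf K)
    (fun x => by
      rw [Subgroup.mem_subgroupOf, Subgroup.coe_mul]
      exact x.2.2)
    (fun x y => by
      rw [Subgroup.mem_subgroupOf]
      simp only [Subgroup.coe_mul, Subgroup.coe_inv]
      exact hcomm _ (hKW x.2) _ (hKW y.2))
    (⟨f, hfK⟩ : ↥K)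
    (by
      rw [Subgroup.mem_subgroupOf]
      exact hf2)
  -- transfer to `W`
  have hUK : U.map K.subtype ≤ K := Subgroup.map_subtype_le U
  have hrelU : (U.map K.subtype).relIndex K = 2 := by
    unfold Subgroup.relIndex Subgroup.subgroupOf
    rw [Subgroup.comap_map_eq_self_of_injective K.subtype_injective]
    exact hUidx
  have hmul := Subgroup.relIndex_mul_relIndex _ _ _ hUK hKW
  rw [hrelU] at hmul
  have hidx16 : ((U.map K.subtype).subgroupOf W).index ≤ 16 := by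
    change (U.map K.subtype).relIndex W ≤ 16
    rw [← hmul]
    omega
  have hfr := h.hd _ hidx16
  have hfFr : (⟨f, h3W hf3⟩ : ↥W) ∈ frattini ↥W := by
    rw [← mem_Fr_iff, hF]
    exact hf3
  have hfU' := hfr hfFr
  rw [Subgroup.mem_subgroupOf] at hfU'
  obtain ⟨k, hkU, hkf⟩ := hfU'
  apply hfU
  have : k = ⟨f, hfK⟩ := Subtype.ext hkf
  rwa [← this]

/-- the subgroup of the elements of `Z_3` of order at most 2. -/
def omegaZ3 (W : Subgroup T) (h : Hyp W) : Subgroup T where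
  carrier := {z | z ∈ Subgroup.upperCentralSeries T 3 ∧ z * z = 1}
  mul_mem' := by
    rintro x y ⟨hx, hx2⟩ ⟨hy, hy2⟩
    refine ⟨Subgroup.mul_mem _ hx hy, ?_⟩
    have h3W : Subgroup.upperCentralSeries T 3 ≤ W := by
      rw [← Fr_eq_ucs3 W h]
      exact Fr_le W
    have hxy : y * x = x * y := commute_ucs3 h (h3W hx) hy
    calc x * y * (x * y) = x * (y * x) * y := by group
      _ = x * (x * y) * y := by rw [hxy]
      _ = (x * x) * (y * y) := by group
      _ = 1 := by rw [hx2, hy2, mul_one]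
  one_mem' := ⟨Subgroup.one_mem _, mul_one 1⟩
  inv_mem' := by
    rintro x ⟨hx, hx2⟩
    refine ⟨Subgroup.inv_mem _ hx, ?_⟩
    have e : x⁻¹ * x⁻¹ = (x * x)⁻¹ := by group
    rw [e, hx2, inv_one]

/-- `Z_3(T)` has exponent 2. -/
theorem ucs3_sq (W : Subgroup T) (h : Hyp W) :
    ∀ z ∈ Subgroup.upperCentralSeries T 3, z ^ 2 = 1 := by
  have hF := Fr_eq_ucs3 W h
  have hle : ⁅W, W⁆ ≤ omegaZ3 W h := by
    rw [Subgroup.commutator_le]
    intro a ha b hb
    rw [commutatorElement_def]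
    have hc3 : a * b * a⁻¹ * b⁻¹ ∈ Subgroup.upperCentralSeries T 3 := by
      rw [← hF]
      exact h.comm_mem ha hb
    refine ⟨hc3, ?_⟩
    have hca : a * b * a⁻¹ * b⁻¹ * a = a * (a * b * a⁻¹ * b⁻¹) := commute_ucs3 h ha hc3
    have ha2 : a * a ∈ Subgroup.upperCentralSeries T 3 := by
      rw [← hF]
      exact h.sq_mem ha
    have hab : a * a * b = b * (a * a) := commute_ucs3 h hb ha2
    have e1 : a * (a * b * a⁻¹ * b⁻¹) * a⁻¹ = a * b * a⁻¹ * b⁻¹ := by
      rw [← hca]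
      group
    calc a * b * a⁻¹ * b⁻¹ * (a * b * a⁻¹ * b⁻¹)
        = (a * (a * b * a⁻¹ * b⁻¹) * a⁻¹) * (a * b * a⁻¹ * b⁻¹) := by rw [e1]
      _ = (a * a * b) * (a * a)⁻¹ * b⁻¹ := by group
      _ = b * (a * a) * (a * a)⁻¹ * b⁻¹ := by rw [hab]
      _ = 1 := by group
  intro z hz
  rw [← commutator_eq_ucs3 W h, map_commutator_eq] at hz
  have := (hle hz).2
  rw [pow_two]
  exact this

/-- (SHORT) the easy clauses. -/
theorem short_clauses (W : Subgroup T) (h : Hyp W) :
    Nat.card T = 2 ^ 14 ∧ Nat.card W = 2 ^ 11 ∧ W.index = 8 ∧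
      Fr W = Subgroup.upperCentralSeries T 3 ∧
      Nat.card ↥(Subgroup.upperCentralSeries T 3) = 8 ∧
      (∀ z ∈ Subgroup.upperCentralSeries T 3, z ^ 2 = 1) ∧
      (commutator ↥W).map W.subtype = Subgroup.upperCentralSeries T 3 ∧
      Nat.card (↥W ⧸ commutator ↥W) = 2 ^ 8 ∧ (∀ x : ↥W ⧸ commutator ↥W, x ^ 2 = 1) := by
  obtain ⟨hT, hW, hidx, -⟩ := base_clauses W h
  have hF := Fr_eq_ucs3 W h
  have hc3 := (card_ucs h.pg h.z4 h.big').2.2
  have hD := commutator_eq_ucs3 W h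
  refine ⟨hT, hW, hidx, hF, hc3, ucs3_sq W h, hD, ?_, ?_⟩
  · have h1 := Subgroup.card_eq_card_quotient_mul_card_subgroup (commutator ↥W)
    have h2 : Nat.card (commutator ↥W) = 8 := by
      rw [← Subgroup.card_map_of_injective W.subtype_injective, hD, hc3]
    rw [hW, h2] at h1
    norm_num at h1 ⊢
    omega
  · intro x
    induction x using QuotientGroup.induction_on with
    | H w =>
      rw [← QuotientGroup.mk_pow, QuotientGroup.eq_one_iff,
        ← Subgroup.mem_map_iff_mem W.subtype_injective, hD, ← hF, pow_two]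
      exact h.sq_mem w.2

end Cfsg.Agent.Helper51.RuZ
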