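import Mathlib
import Cfsg.Agent.Lib.Helper63.Extraspecial
import Cfsg.Agent.Lib.Helper24.ClassTwo

set_option autoImplicit false

namespace Cfsg.Agent.Helper51

open scoped commutatorElement
open Cfsg.Agent.Helper63

variable {G : Type*} [Group G]

/-- Sylow conjugacy inside a subgroup `H` containing the Sylow subgroup `P`. -/
theorem sylow_conj_in_subgroup [Finite G] {p : ℕ} [Fact p.Prime] (P : Sylow p G) (H K : Subgroup G)
    (hPH : (P : Subgroup G) ≤ H) (hKH : K ≤ H) (hK : IsPGroup p K) :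
    ∃ h ∈ H, ∀ k ∈ K, h⁻¹ * k * h ∈ (P : Subgroup G) := by
  have hK' : IsPGroup p (K.subgroupOf H) := hK.comap_subtype
  obtain ⟨S, hS⟩ := hK'.exists_le_sylow
  obtain ⟨h, hh⟩ := MulAction.exists_smul_eq H (P.subtype hPH) S
  refine ⟨h, h.2, fun k hk => ?_⟩
  have hkS : (⟨k, hKH hk⟩ : H) ∈ (S : Subgroup H) := hS (Subgroup.mem_subgroupOf.mpr hk)
  rw [← hh] at hkS
  rw [Sylow.coe_subgroup_smul, Subgroup.mem_pointwise_smul_iff_inv_smul_mem] at hkS
  rw [Sylow.coe_subtype, Subgroup.mem_subgroupOf] at hkS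
  simpa [MulAut.smul_def, mul_assoc] using hkS

section ClassTwoCalc

variable {Q : Subgroup G}

theorem zOf_comm {c x : G} (hc : c ∈ zOf Q) (hx : x ∈ Q) : x * c = c * x :=
  (mem_zOf.mp hc).2 x hx

theorem zOf_le (Q : Subgroup G) : zOf Q ≤ Q := fun _ hc => (mem_zOf.mp hc).1

theorem conj_zOf {c x : G} (hc : c ∈ zOf Q) (hx : x ∈ Q) : x * c * x⁻¹ = c := by
  rw [zOf_comm hc hx]; group

theorem comm_swap_inv (a b : G) : ⁅a, b⁆⁻¹ = ⁅b, a⁆ := by
  simp only [commutatorElement_def]; group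

/-- bilinearity in the first variable when commutators are central -/
theorem comm_mul_left_c2 (hPc : ⁅Q, Q⁆ ≤ zOf Q) {a b c : G} (ha : a ∈ Q) (hb : b ∈ Q)
    (hc : c ∈ Q) : ⁅a * b, c⁆ = ⁅a, c⁆ * ⁅b, c⁆ := by
  have h := comm_mul_right hPc hc ha hb
  have h' : ⁅a * b, c⁆ = (⁅c, a * b⁆)⁻¹ := (comm_swap_inv _ _).symm
  rw [h', h, mul_inv_rev, comm_swap_inv, comm_swap_inv]
  -- ⁅b,c⁆ * ⁅a,c⁆ = ⁅a,c⁆ * ⁅b,c⁆
  have hz := comm_mem_zOf hPc ha hc
  exact zOf_comm hz (zOf_le Q (comm_mem_zOf hPc hb hc))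

theorem comm_inv_left_c2 (hPc : ⁅Q, Q⁆ ≤ zOf Q) {a c : G} (ha : a ∈ Q)
    (hc : c ∈ Q) : ⁅a⁻¹, c⁆ = ⁅a, c⁆⁻¹ := by
  have h := comm_mul_left_c2 hPc ha (Q.inv_mem ha) hc
  rw [mul_inv_cancel, commutatorElement_one_left] at h
  exact eq_inv_of_mul_eq_one_right h.symm

theorem comm_inv_right_c2 (hPc : ⁅Q, Q⁆ ≤ zOf Q) {a c : G} (ha : a ∈ Q)
    (hc : c ∈ Q) : ⁅a, c⁻¹⁆ = ⁅a, c⁆⁻¹ := by
  have h := comm_mul_right hPc ha hc (Q.inv_mem hc)
  rw [mul_inv_cancel, commutatorElement_one_right] at h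
  exact eq_inv_of_mul_eq_one_right h.symm

theorem comm_pow_left_c2 (hPc : ⁅Q, Q⁆ ≤ zOf Q) {a c : G} (ha : a ∈ Q)
    (hc : c ∈ Q) (n : ℕ) : ⁅a ^ n, c⁆ = ⁅a, c⁆ ^ n := by
  induction n with
  | zero => simp
  | succ n ih => rw [pow_succ, comm_mul_left_c2 hPc (Q.pow_mem ha n) ha hc, ih, pow_succ]

theorem comm_zOf_right {a c : G} (ha : a ∈ Q) (hc : c ∈ zOf Q) : ⁅a, c⁆ = 1 := by
  rw [commutatorElement_eq_one_iff_mul_comm]; exact zOf_comm hc ha

theorem comm_zOf_left {a c : G} (ha : a ∈ Q) (hc : c ∈ zOf Q) : ⁅c, a⁆ = 1 := by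
  rw [commutatorElement_eq_one_iff_mul_comm]; exact (zOf_comm hc ha).symm

end ClassTwoCalc

/-- Two opposite transvections generate an element acting as `-1`. -/
theorem invert_of_transvections {u v z y : G} (h1 : u * z * u⁻¹ = z) (h2 : u * y * u⁻¹ = z * y)
    (h3 : v * y * v⁻¹ = y) (h4 : v * z * v⁻¹ = y⁻¹ * z) (h5 : z * y = y * z) :
    (u * v * u * (u * v * u)) * z * (u * v * u * (u * v * u))⁻¹ = z⁻¹ ∧
      (u * v * u * (u * v * u)) * y * (u * v * u * (u * v * u))⁻¹ = y⁻¹ := by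
  have hw_z : (u * v * u) * z * (u * v * u)⁻¹ = y⁻¹ := by
    calc (u * v * u) * z * (u * v * u)⁻¹ = u * (v * (u * z * u⁻¹) * v⁻¹) * u⁻¹ := by group
      _ = u * (v * z * v⁻¹) * u⁻¹ := by rw [h1]
      _ = u * (y⁻¹ * z) * u⁻¹ := by rw [h4]
      _ = (u * y * u⁻¹)⁻¹ * (u * z * u⁻¹) := by group
      _ = (z * y)⁻¹ * z := by rw [h1, h2]
      _ = y⁻¹ := by group
  have hw_y : (u * v * u) * y * (u * v * u)⁻¹ = z := by
    calc (u * v * u) * y * (u * v * u)⁻¹ = u * (v * (u * y * u⁻¹) * v⁻¹) * u⁻¹ := by group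
      _ = u * (v * (z * y) * v⁻¹) * u⁻¹ := by rw [h2]
      _ = u * ((v * z * v⁻¹) * (v * y * v⁻¹)) * u⁻¹ := by group
      _ = u * ((y⁻¹ * z) * y) * u⁻¹ := by rw [h3, h4]
      _ = u * z * u⁻¹ := by rw [mul_assoc y⁻¹, h5]; group
      _ = z := h1
  constructor
  · calc (u * v * u * (u * v * u)) * z * (u * v * u * (u * v * u))⁻¹
        = (u * v * u) * ((u * v * u) * z * (u * v * u)⁻¹) * (u * v * u)⁻¹ := by group
      _ = (u * v * u) * y⁻¹ * (u * v * u)⁻¹ := by rw [hw_z]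
      _ = ((u * v * u) * y * (u * v * u)⁻¹)⁻¹ := by group
      _ = z⁻¹ := by rw [hw_y]
  · calc (u * v * u * (u * v * u)) * y * (u * v * u * (u * v * u))⁻¹
        = (u * v * u) * ((u * v * u) * y * (u * v * u)⁻¹) * (u * v * u)⁻¹ := by group
      _ = (u * v * u) * z * (u * v * u)⁻¹ := by rw [hw_y]
      _ = y⁻¹ := hw_z

section P3

variable [Finite G] {p : ℕ} [hpF : Fact p.Prime] {Q : Subgroup G}

omit [Finite G] hpF in
theorem pow_p_eq_one_of_mem_zOf (hZ : Nat.card (zOf Q) = p) {c : G} (hc : c ∈ zOf Q) :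
    c ^ p = 1 := by
  have : (⟨c, hc⟩ : zOf Q) ^ p = 1 := by
    rw [← hZ]; exact pow_card_eq_one'
  exact congrArg Subtype.val this

omit [Finite G] in
/-- In a class-two group with central commutators of order `p` (`p` odd) the `p`-th power map is
multiplicative. -/
theorem mul_pow_p_c2 (hp : p ≠ 2) (hZ : Nat.card (zOf Q) = p) (hPc : ⁅Q, Q⁆ ≤ zOf Q)
    {a b : G} (ha : a ∈ Q) (hb : b ∈ Q) : (a * b) ^ p = a ^ p * b ^ p := by
  have hc : b * a * b⁻¹ * a⁻¹ = ⁅b, a⁆ := (commutatorElement_def b a).symm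
  have hcz : ⁅b, a⁆ ∈ zOf Q := comm_mem_zOf hPc hb ha
  have h1 : Commute (b * a * b⁻¹ * a⁻¹) a := by
    rw [hc]; exact (zOf_comm hcz ha).symm
  have h2 : Commute (b * a * b⁻¹ * a⁻¹) b := by
    rw [hc]; exact (zOf_comm hcz hb).symm
  rw [Cfsg.Agent.Helper24.mul_pow_of_commutator_commute a b h1 h2 p, hc]
  have hodd : p ∣ p.choose 2 := by
    have hpp := hpF.out
    have h2lt : 2 < p := lt_of_le_of_ne hpp.two_le (Ne.symm hp)
    exact hpp.dvd_choose_self (by norm_num) h2lt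
  obtain ⟨k, hk⟩ := hodd
  rw [hk, pow_mul, pow_p_eq_one_of_mem_zOf hZ hcz, one_pow, mul_one]

/-- Every element of the centre (of prime order) is a power of a given nontrivial one. -/
theorem exists_pow_eq_of_mem_zOf (hZ : Nat.card (zOf Q) = p) {z c : G} (hz : z ∈ zOf Q)
    (hz1 : z ≠ 1) (hc : c ∈ zOf Q) : ∃ n : ℕ, z ^ n = c := by
  have hne : (⟨z, hz⟩ : zOf Q) ≠ 1 := fun h => hz1 (congrArg Subtype.val h)
  have htop := zpowers_eq_top_of_prime_card hZ hne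
  have hmem : (⟨c, hc⟩ : zOf Q) ∈ Subgroup.zpowers (⟨z, hz⟩ : zOf Q) := by
    rw [htop]; exact Subgroup.mem_top _
  rw [← mem_powers_iff_mem_zpowers] at hmem
  obtain ⟨n, hn⟩ := hmem
  exact ⟨n, congrArg Subtype.val hn⟩

/-- `Ω₁` of the extraspecial group of order `p ^ 3` and exponent `p ^ 2`. -/
theorem exists_omega (hp : p ≠ 2) (hZ : Nat.card (zOf Q) = p) (hPc : ⁅Q, Q⁆ ≤ zOf Q)
    (hcard : Nat.card Q = p ^ 3) (hexp : ∃ x ∈ Q, x ^ p ≠ 1) :
    ∃ E : Subgroup G, (∀ x, x ∈ E ↔ x ∈ Q ∧ x ^ p = 1) ∧ Nat.card E = p ^ 2 := by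
  let φ : ↥Q →* ↥(zOf Q) := MonoidHom.mk'
    (fun x => ⟨(x : G) ^ p, pow_p_mem_zOf Q hZ hPc x.2⟩)
    (fun a b => by
      apply Subtype.ext
      simp only [Subgroup.coe_mul]
      exact mul_pow_p_c2 hp hZ hPc a.2 b.2)
  have hφ : ∀ x : Q, ((φ x : zOf Q) : G) = (x : G) ^ p := fun x => rfl
  refine ⟨φ.ker.map Q.subtype, ?_, ?_⟩
  · intro x
    rw [Subgroup.mem_map]
    constructor
    · rintro ⟨x', hx', rfl⟩
      refine ⟨x'.2, ?_⟩
      rw [MonoidHom.mem_ker] at hx'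
      have := congrArg Subtype.val hx'
      rw [hφ] at this
      simpa using this
    · rintro ⟨hxQ, hxp⟩
      refine ⟨⟨x, hxQ⟩, ?_, rfl⟩
      rw [MonoidHom.mem_ker]
      apply Subtype.ext
      rw [hφ]
      simpa using hxp
  · rw [Subgroup.card_subtype]
    have h1 := Subgroup.card_mul_index φ.ker
    rw [Subgroup.index_ker, hcard] at h1
    have hdvd : Nat.card φ.range ∣ p := by
      rw [← hZ]; exact Subgroup.card_subgroup_dvd_card _
    have hr : Nat.card φ.range = p := by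
      rcases (Nat.dvd_prime hpF.out).mp hdvd with h | h
      · exfalso
        obtain ⟨x, hxQ, hxp⟩ := hexp
        have hbot : φ.range = ⊥ := Subgroup.card_eq_one.mp h
        have hmem : φ ⟨x, hxQ⟩ ∈ φ.range := ⟨_, rfl⟩
        rw [hbot, Subgroup.mem_bot] at hmem
        have := congrArg Subtype.val hmem
        rw [hφ] at this
        exact hxp (by simpa using this)
      · exact h
    rw [hr] at h1
    have hp0 : 0 < p := hpF.out.pos
    have : Nat.card φ.ker * p = p ^ 2 * p := by rw [h1]; ring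
    exact Nat.eq_of_mul_eq_mul_right hp0 this

/-- The hypotheses describing `Ω₁` inside the extraspecial group of order `p ^ 3`. -/
structure OmegaData (p : ℕ) (Q E : Subgroup G) : Prop where
  hZ : Nat.card (zOf Q) = p
  hPc : ⁅Q, Q⁆ ≤ zOf Q
  hcard : Nat.card Q = p ^ 3
  hE : ∀ x, x ∈ E ↔ x ∈ Q ∧ x ^ p = 1
  hEcard : Nat.card E = p ^ 2

namespace OmegaData

variable {E : Subgroup G}

omit [Finite G] hpF in
theorem le (h : OmegaData p Q E) : E ≤ Q := fun x hx => ((h.hE x).mp hx).1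

omit [Finite G] hpF in
theorem zOf_le_E (h : OmegaData p Q E) : zOf Q ≤ E := fun x hx =>
  (h.hE x).mpr ⟨zOf_le Q hx, pow_p_eq_one_of_mem_zOf h.hZ hx⟩

omit [Finite G] in
theorem comm (h : OmegaData p Q E) {a b : G} (ha : a ∈ E) (hb : b ∈ E) : a * b = b * a := by
  have hc : IsMulCommutative E := IsPGroup.isMulCommutative_of_card_eq_prime_sq h.hEcard
  have := hc.is_comm.comm ⟨a, ha⟩ ⟨b, hb⟩
  exact congrArg Subtype.val this

/-- `C_Q(e) = E` for `e ∈ E` noncentral. -/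
theorem mem_of_commute (h : OmegaData p Q E) {e x : G} (he : e ∈ E) (hez : e ∉ zOf Q)
    (hx : x ∈ Q) (hxe : x * e = e * x) : x ∈ E := by
  set K : Subgroup G := Q ⊓ Subgroup.centralizer {e} with hK
  have hEK : E ≤ K := by
    intro a ha
    refine Subgroup.mem_inf.mpr ⟨h.le ha, ?_⟩
    rw [Subgroup.mem_centralizer_singleton_iff]
    exact h.comm ha he
  have hKQ : K ≤ Q := inf_le_left
  have hxK : x ∈ K :=
    Subgroup.mem_inf.mpr ⟨hx, by rw [Subgroup.mem_centralizer_singleton_iff]; exact hxe⟩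
  have hd1 : Nat.card E ∣ Nat.card K := Subgroup.card_dvd_of_le hEK
  have hd2 : Nat.card K ∣ Nat.card Q := Subgroup.card_dvd_of_le hKQ
  rw [h.hcard] at hd2
  rw [h.hEcard] at hd1
  obtain ⟨k, hk3, hk⟩ := (Nat.dvd_prime_pow hpF.out).mp hd2
  rw [hk] at hd1
  have hk2 : 2 ≤ k := (Nat.pow_dvd_pow_iff_le_right hpF.out.one_lt).mp hd1
  have hk' : k = 2 ∨ k = 3 := by omega
  rcases hk' with rfl | rfl
  · have : E = K := Subgroup.eq_of_le_of_card_ge hEK (by rw [hk, h.hEcard])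
    rw [this]; exact hxK
  · exfalso
    have : K = Q := Subgroup.eq_of_le_of_card_ge hKQ (by rw [hk, h.hcard])
    apply hez
    rw [mem_zOf]
    refine ⟨h.le he, fun g hg => ?_⟩
    have hgK : g ∈ K := by rw [this]; exact hg
    exact (Subgroup.mem_centralizer_singleton_iff.mp (Subgroup.mem_inf.mp hgK).2)

/-- Lemma A: the commutator map `Q → Z`, `u ↦ ⁅u, e⁆` is onto for noncentral `e ∈ E`. -/
theorem exists_comm_eq (h : OmegaData p Q E) {e c : G} (he : e ∈ E) (hez : e ∉ zOf Q)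
    (hc : c ∈ zOf Q) : ∃ u ∈ Q, ⁅u, e⁆ = c := by
  have heQ := h.le he
  have : ∃ u₀ ∈ Q, ⁅u₀, e⁆ ≠ 1 := by
    by_contra hcon
    push Not at hcon
    apply hez
    rw [mem_zOf]
    refine ⟨heQ, fun g hg => ?_⟩
    have := hcon g hg
    rwa [commutatorElement_eq_one_iff_mul_comm] at this
  obtain ⟨u₀, hu₀, hne⟩ := this
  obtain ⟨n, hn⟩ := exists_pow_eq_of_mem_zOf h.hZ (comm_mem_zOf h.hPc hu₀ heQ) hne hc
  exact ⟨u₀ ^ n, Q.pow_mem hu₀ n, by rw [comm_pow_left_c2 h.hPc hu₀ heQ, hn]⟩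

/-- A subgroup of `E` containing a nontrivial central element and a noncentral element is `E`. -/
theorem eq_of_mem (h : OmegaData p Q E) {I : Subgroup G} (hIE : I ≤ E) {z y : G}
    (hz : z ∈ zOf Q) (hz1 : z ≠ 1) (hzI : z ∈ I) (hyI : y ∈ I) (hyz : y ∉ zOf Q) : I = E := by
  have hZI : zOf Q ≤ I := by
    intro c hc
    obtain ⟨n, rfl⟩ := exists_pow_eq_of_mem_zOf h.hZ hz hz1 hc
    exact I.pow_mem hzI n
  have hd1 : Nat.card (zOf Q) ∣ Nat.card I := Subgroup.card_dvd_of_le hZI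
  have hd2 : Nat.card I ∣ Nat.card E := Subgroup.card_dvd_of_le hIE
  rw [h.hEcard] at hd2
  rw [h.hZ] at hd1
  obtain ⟨k, hk3, hk⟩ := (Nat.dvd_prime_pow hpF.out).mp hd2
  rw [hk] at hd1
  have hk1 : 1 ≤ k := by
    rcases Nat.eq_zero_or_pos k with rfl | hpos
    · rw [pow_zero] at hd1
      exact absurd (Nat.le_of_dvd one_pos hd1) (by have := hpF.out.one_lt; omega)
    · exact hpos
  have hk' : k = 1 ∨ k = 2 := by omega
  rcases hk' with rfl | rfl
  · exfalso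
    have : zOf Q = I := Subgroup.eq_of_le_of_card_ge hZI (by rw [hk, h.hZ, pow_one])
    exact hyz (this ▸ hyI)
  · exact Subgroup.eq_of_le_of_card_ge hIE (by rw [hk, h.hEcard])

end OmegaData

end P3

end Cfsg.Agent.Helper51
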