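import Mathlib
import Cfsg.Agent.Lib.Helper51.ThompsonDichotomy

set_option autoImplicit false

namespace Cfsg.Agent.Helper51

open Subgroup
open scoped commutatorElement

variable {G : Type*} [Group G]

/-- `v ↦ ⁅v, a⁆` is multiplicative on an abelian subgroup normalized by `a`. -/
theorem comm_mul_left_of_abelian {V A : Subgroup G} (hVc : ∀ x ∈ V, ∀ y ∈ V, x * y = y * x)
    (hAV : A ≤ normalizer (V : Set G)) {v v' a : G} (hv : v ∈ V) (hv' : v' ∈ V) (ha : a ∈ A) :
    ⁅v * v', a⁆ = ⁅v, a⁆ * ⁅v', a⁆ := by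
  have h1 : ⁅v', a⁆ ∈ V := comm_mem_of_normalizes hAV hv' ha
  have h2 : a * v⁻¹ * a⁻¹ ∈ V := conj_mem_of_normalizes hAV (V.inv_mem hv) ha
  have e1 : ⁅v * v', a⁆ = v * (⁅v', a⁆ * (a * v⁻¹ * a⁻¹)) := by
    simp only [commutatorElement_def]; group
  have e2 : ⁅v, a⁆ * ⁅v', a⁆ = v * ((a * v⁻¹ * a⁻¹) * ⁅v', a⁆) := by
    simp only [commutatorElement_def]; group
  rw [e1, e2, hVc _ h1 _ h2]

/-- The commutator operators of two elements of `A` commute on `V`. -/
theorem comm_comm_symm {V A : Subgroup G} (hVc : ∀ x ∈ V, ∀ y ∈ V, x * y = y * x)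
    (hAV : A ≤ normalizer (V : Set G)) (hab : ⁅A, A⁆ ≤ centralizer (V : Set G))
    {v a b : G} (hv : v ∈ V) (ha : a ∈ A) (hb : b ∈ A) :
    ⁅⁅v, a⁆, b⁆ = ⁅⁅v, b⁆, a⁆ := by
  set x := a * v * a⁻¹ with hx
  set y := b * v * b⁻¹ with hy
  set t := a * b * v * b⁻¹ * a⁻¹ with ht
  have hxV : x ∈ V := conj_mem_of_normalizes hAV hv ha
  have hyV : y ∈ V := conj_mem_of_normalizes hAV hv hb
  have htV : t ∈ V := by
    have h2 := conj_mem_of_normalizes hAV hyV ha
    have e : a * (b * v * b⁻¹) * a⁻¹ = a * b * v * b⁻¹ * a⁻¹ := by group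
    rwa [hy, e] at h2
  have ht' : t = b * a * v * a⁻¹ * b⁻¹ := conj_conj_comm hAV hab hv ha hb
  have e1 : ⁅⁅v, a⁆, b⁆ = v * (x⁻¹ * (t * y⁻¹)) := by
    rw [ht']; simp only [hx, hy, commutatorElement_def]; group
  have e2 : ⁅⁅v, b⁆, a⁆ = v * (y⁻¹ * (t * x⁻¹)) := by
    simp only [hx, hy, ht, commutatorElement_def]; group
  rw [e1, e2]
  congr 1
  have hx' : x⁻¹ ∈ V := V.inv_mem hxV
  have hy' : y⁻¹ ∈ V := V.inv_mem hyV
  calc x⁻¹ * (t * y⁻¹) = (t * y⁻¹) * x⁻¹ := hVc _ hx' _ (V.mul_mem htV hy')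
    _ = (y⁻¹ * t) * x⁻¹ := by rw [hVc t htV _ hy']
    _ = y⁻¹ * (t * x⁻¹) := by rw [mul_assoc]

/-- An element acting as a `p`-element on a nontrivial finite `p`-subgroup fixes a nonidentity
element. -/
theorem exists_fixed_of_pow_centralizes [Finite G] {p : ℕ} [Fact p.Prime] {W : Subgroup G}
    (hWp : IsPGroup p W) (hW : W ≠ ⊥) {a : G} (haW : ∀ w ∈ W, a * w * a⁻¹ ∈ W)
    (haW' : ∀ w ∈ W, a⁻¹ * w * a ∈ W) (hap : ∀ w ∈ W, a ^ p * w = w * a ^ p) :
    ∃ w ∈ W, w ≠ 1 ∧ a * w = w * a := by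
  classical
  have := Fintype.ofFinite ↥W
  let σ : Equiv.Perm ↥W :=
    { toFun := fun w => ⟨a * w * a⁻¹, haW w w.2⟩
      invFun := fun w => ⟨a⁻¹ * w * a, haW' w w.2⟩
      left_inv := fun w => by apply Subtype.ext; simp only; group
      right_inv := fun w => by apply Subtype.ext; simp only; group }
  have hσpow : ∀ n : ℕ, ∀ w : ↥W, (((σ ^ n) w : ↥W) : G) = a ^ n * w * (a ^ n)⁻¹ := by
    intro n
    induction n with
    | zero => intro w; simp
    | succ n ih =>
      intro w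
      rw [pow_succ', Equiv.Perm.mul_apply]
      show a * ((σ ^ n) w : ↥W) * a⁻¹ = _
      rw [ih w, pow_succ']; group
  have hσ : σ ^ p ^ 1 = 1 := by
    rw [pow_one]
    ext w
    rw [hσpow p w, Equiv.Perm.one_apply, hap w w.2]; group
  have hdvd : p ∣ Fintype.card ↥W := by
    rw [← Nat.card_eq_fintype_card]
    rcases hWp.card_eq_or_dvd with h | h
    · exact absurd (Subgroup.card_eq_one.mp h) hW
    · exact h
  have h1 : σ 1 = 1 := by
    apply Subtype.ext
    show a * ((1 : ↥W) : G) * a⁻¹ = ((1 : ↥W) : G)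
    simp
  obtain ⟨b, hb1, hb2⟩ := Equiv.Perm.exists_fixed_point_of_prime' hdvd hσ h1
  refine ⟨b, b.2, fun h => hb2 (Subtype.ext h), ?_⟩
  have := congrArg Subtype.val hb1
  have h3 : a * (b : G) * a⁻¹ = b := this
  calc a * (b : G) = (a * b * a⁻¹) * a := by group
    _ = b * a := by rw [h3]

theorem comm_inv_left_of_abelian {V A : Subgroup G} (hVc : ∀ x ∈ V, ∀ y ∈ V, x * y = y * x)
    (hAV : A ≤ normalizer (V : Set G)) {v a : G} (hv : v ∈ V) (ha : a ∈ A) :
    ⁅v⁻¹, a⁆ = ⁅v, a⁆⁻¹ := by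
  have h := comm_mul_left_of_abelian hVc hAV hv (V.inv_mem hv) ha
  rw [mul_inv_cancel, commutatorElement_one_left] at h
  exact (inv_eq_of_mul_eq_one_right h.symm).symm

/-- Nilpotent action: if `A` acts on the abelian `p`-group `V` with `⁅A, A⁆` and `p`-th powers
acting trivially, then no nontrivial subgroup `W ≤ V` satisfies `⁅W, A⁆ = W`. -/
theorem eq_bot_of_commutator_eq_self [Finite G] {p : ℕ} [Fact p.Prime] {V A : Subgroup G}
    (hVc : ∀ x ∈ V, ∀ y ∈ V, x * y = y * x) (hVp : IsPGroup p V)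
    (hAV : A ≤ normalizer (V : Set G)) (hab : ⁅A, A⁆ ≤ centralizer (V : Set G))
    (hpow : ∀ a ∈ A, a ^ p ∈ centralizer (V : Set G)) :
    ∀ (n : ℕ) (W : Subgroup G), Nat.card W = n → W ≤ V → ⁅W, A⁆ = W → W = ⊥ := by
  intro n
  induction n using Nat.strong_induction_on with
  | _ n ih =>
  intro W hn hWV hWA
  by_contra hW
  have hmemW : ∀ w ∈ W, ∀ a ∈ A, ⁅w, a⁆ ∈ W := by
    intro w hw a ha
    rw [← hWA]; exact commutator_mem_commutator hw ha
  by_cases hc : ∀ a ∈ A, ∀ w ∈ W, ⁅w, a⁆ = 1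
  · apply hW
    rw [← hWA, Subgroup.commutator_def, closure_eq_bot_iff]
    rintro g ⟨w, hw, a, ha, rfl⟩
    rw [Set.mem_singleton_iff]
    exact hc a ha w hw
  · push Not at hc
    obtain ⟨a, ha, w₀, hw₀, hne⟩ := hc
    -- the endomorphism δ = ⁅·, a⁆ of W
    let δ : ↥W →* ↥W :=
      { toFun := fun w => ⟨⁅(w : G), a⁆, hmemW w w.2 a ha⟩
        map_one' := by apply Subtype.ext; simp
        map_mul' := fun w w' => by
          apply Subtype.ext
          exact comm_mul_left_of_abelian hVc hAV (hWV w.2) (hWV w'.2) ha }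
    set W' : Subgroup G := (δ.range).map W.subtype with hW'
    have hW'W : W' ≤ W := Subgroup.map_subtype_le _
    have hmemW' : ∀ w ∈ W, ⁅w, a⁆ ∈ W' := by
      intro w hw
      exact ⟨δ ⟨w, hw⟩, ⟨⟨w, hw⟩, rfl⟩, rfl⟩
    have hW'elt : ∀ x ∈ W', ∃ w ∈ W, x = ⁅w, a⁆ := by
      rintro x ⟨y, ⟨w, rfl⟩, rfl⟩
      exact ⟨w, w.2, rfl⟩
    have hW'ne : W' ≠ ⊥ := by
      intro hb
      have := hmemW' w₀ hw₀
      rw [hb, mem_bot] at this
      exact hne this
    -- W' ≠ W by the fixed point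
    have hinv : ∀ w ∈ W, a * w * a⁻¹ ∈ W := by
      intro w hw
      have h1 := hmemW w⁻¹ (W.inv_mem hw) a ha
      have e : a * w * a⁻¹ = w * ⁅w⁻¹, a⁆ := by simp only [commutatorElement_def]; group
      rw [e]; exact W.mul_mem hw h1
    have hinv' : ∀ w ∈ W, a⁻¹ * w * a ∈ W := by
      intro w hw
      have h1 := hmemW w⁻¹ (W.inv_mem hw) a⁻¹ (A.inv_mem ha)
      have e : a⁻¹ * w * a = w * ⁅w⁻¹, a⁻¹⁆ := by simp only [commutatorElement_def]; group
      rw [e]; exact W.mul_mem hw h1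
    have hapW : ∀ w ∈ W, a ^ p * w = w * a ^ p := by
      intro w hw
      exact ((mem_centralizer_iff.mp (hpow a ha)) w (hWV hw)).symm
    obtain ⟨b, hbW, hb1, hba⟩ :=
      exists_fixed_of_pow_centralizes (hVp.to_le hWV) hW hinv hinv' hapW
    have hW'lt : W' ≠ W := by
      intro heq
      have hsurj : Function.Surjective δ := by
        intro y
        have hy : (y : G) ∈ W' := by rw [heq]; exact y.2
        obtain ⟨w, hw, hyw⟩ := hW'elt _ hy
        exact ⟨⟨w, hw⟩, Subtype.ext hyw.symm⟩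
      have hinj : Function.Injective δ := Finite.injective_iff_surjective.mpr hsurj
      have h1 : δ ⟨b, hbW⟩ = δ 1 := by
        rw [map_one]
        apply Subtype.ext
        show ⁅b, a⁆ = 1
        rw [commutatorElement_eq_one_iff_mul_comm]
        exact hba.symm
      have := hinj h1
      exact hb1 (congrArg Subtype.val this)
    have hcardlt : Nat.card ↥W' < n := by
      rw [← hn]
      by_contra hcon
      push Not at hcon
      exact hW'lt (Subgroup.eq_of_le_of_card_ge hW'W hcon)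
    -- ⁅W', A⁆ = W'
    have hW'A : ⁅W', A⁆ = W' := by
      apply le_antisymm
      · rw [Subgroup.commutator_le]
        intro x hx b hb
        obtain ⟨w, hw, rfl⟩ := hW'elt x hx
        rw [comm_comm_symm hVc hAV hab (hWV hw) ha hb]
        exact hmemW' _ (hmemW w hw b hb)
      · intro x hx
        obtain ⟨w, hw, rfl⟩ := hW'elt x hx
        have hw2 : w ∈ ⁅W, A⁆ := by rw [hWA]; exact hw
        rw [Subgroup.commutator_def] at hw2
        have key : ∀ z ∈ closure {g | ∃ g₁ ∈ W, ∃ g₂ ∈ A, ⁅g₁, g₂⁆ = g},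
            z ∈ W ∧ ⁅z, a⁆ ∈ ⁅W', A⁆ := by
          intro z hz
          induction hz using closure_induction with
          | mem z hz =>
            obtain ⟨w', hw', b, hb, rfl⟩ := hz
            refine ⟨hmemW w' hw' b hb, ?_⟩
            rw [comm_comm_symm hVc hAV hab (hWV hw') hb ha]
            exact commutator_mem_commutator (hmemW' w' hw') hb
          | one => exact ⟨W.one_mem, by rw [commutatorElement_one_left]; exact one_mem _⟩
          | mul z₁ z₂ _ _ h₁ h₂ =>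
            refine ⟨W.mul_mem h₁.1 h₂.1, ?_⟩
            rw [comm_mul_left_of_abelian hVc hAV (hWV h₁.1) (hWV h₂.1) ha]
            exact mul_mem h₁.2 h₂.2
          | inv z _ h₁ =>
            refine ⟨W.inv_mem h₁.1, ?_⟩
            rw [comm_inv_left_of_abelian hVc hAV (hWV h₁.1) ha]
            exact inv_mem h₁.2
        exact (key w hw2).2
    exact hW'ne (ih _ hcardlt W' rfl (hW'W.trans hWV) hW'A)

/-- If `V = X · C_V(A)` with `X ≤ ⁅V, A⁆`, then `A` centralizes `V` (nilpotent action). -/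
theorem commutator_eq_bot_of_sup_cv [Finite G] {p : ℕ} [Fact p.Prime] {V A : Subgroup G}
    (hVc : ∀ x ∈ V, ∀ y ∈ V, x * y = y * x) (hVp : IsPGroup p V)
    (hAV : A ≤ normalizer (V : Set G)) (hab : ⁅A, A⁆ ≤ centralizer (V : Set G))
    (hpow : ∀ a ∈ A, a ^ p ∈ centralizer (V : Set G)) {X : Subgroup G} (hX : X ≤ ⁅V, A⁆)
    (h : V ≤ X ⊔ cv V A) : ⁅V, A⁆ = ⊥ := by
  set W := ⁅V, A⁆ with hW
  have hWV : W ≤ V := by
    rw [hW, Subgroup.commutator_le]
    intro v hv a ha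
    exact comm_mem_of_normalizes hAV hv ha
  let S : Subgroup G :=
    { carrier := {v | v ∈ V ∧ ∀ a ∈ A, ⁅v, a⁆ ∈ ⁅W, A⁆}
      one_mem' := ⟨V.one_mem, fun a _ => by rw [commutatorElement_one_left]; exact one_mem _⟩
      mul_mem' := by
        rintro v v' ⟨hv, h1⟩ ⟨hv', h2⟩
        refine ⟨V.mul_mem hv hv', fun a ha => ?_⟩
        rw [comm_mul_left_of_abelian hVc hAV hv hv' ha]
        exact mul_mem (h1 a ha) (h2 a ha)
      inv_mem' := by
        rintro v ⟨hv, h1⟩
        refine ⟨V.inv_mem hv, fun a ha => ?_⟩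
        rw [comm_inv_left_of_abelian hVc hAV hv ha]
        exact inv_mem (h1 a ha) }
  have hXS : X ≤ S := by
    intro x hx
    exact ⟨hWV (hX hx), fun a ha => commutator_mem_commutator (hX hx) ha⟩
  have hCS : cv V A ≤ S := by
    intro c hc
    refine ⟨hc.1, fun a ha => ?_⟩
    have h1 : ⁅c, a⁆ = 1 := by
      rw [commutatorElement_eq_one_iff_mul_comm]
      exact ((mem_centralizer_iff.mp hc.2) a ha).symm
    rw [h1]; exact one_mem _
  have hVS : V ≤ S := h.trans (sup_le hXS hCS)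
  have hWA : ⁅W, A⁆ = W := by
    apply le_antisymm
    · exact Subgroup.commutator_mono hWV le_rfl
    · rw [hW, Subgroup.commutator_le]
      intro v hv a ha
      exact (hVS hv).2 a ha
  exact eq_bot_of_commutator_eq_self hVc hVp hAV hab hpow _ W rfl hWV hWA

end Cfsg.Agent.Helper51
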