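import Mathlib
import Cfsg.Agent.Lib.Helper7.M11UDefs
import Cfsg.Agent.Lib.Helper4.M11UTools

/-!
M11U piece (G5) `not_nab` for helper7's lemma server (S0420), second seat (helper51).
-/

set_option autoImplicit false

namespace Cfsg.Agent.Helper51.M11U

open Subgroup Cfsg.Agent.Helper7.M11U Cfsg.Agent.Helper4.M11U
open scoped Pointwise

variable {G : Type*} [Group G] [Finite G] {t : G} {R R2 R3 : Sylow 3 G}

/-- (G5) not (¬a ∧ b). -/
theorem not_nab (B : Base G) (L : Loc G) (T : Tri t R R2 R3) (Cf : Conf t R R2 R3)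
    (hadj : ∀ (t' : G) (P P2 P3 : Sylow 3 G), Tri t' P P2 P3 →
      (∀ X : Sylow 3 G, Adj P X ↔ ∃ r ∈ (P : Subgroup G), X = r • P2 ∨ X = r • P3) ∧
      (∀ r ∈ (P : Subgroup G), ∀ r' ∈ (P : Subgroup G), r • P2 ≠ r' • P3) ∧
      (∀ r ∈ (P : Subgroup G), ∀ r' ∈ (P : Subgroup G), r • P2 = r' • P2 → r = r'))
    (hna : ∀ r ∈ (R : Subgroup G), r ≠ 1 → ¬ Adj R2 (r • R2))
    (hb : ∀ r ∈ (R : Subgroup G), r ≠ 1 → Adj R2 (r • R3)) : False := by
  classical
  obtain ⟨hadj1, -, -⟩ := hadj t R R2 R3 T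
  have T' : Tri t R R3 R2 := ⟨T.ht, T.i1, T.i3, T.i2, T.ne13, T.ne12, T.ne23.symm⟩
  obtain ⟨-, -, hinj3⟩ := hadj t R R3 R2 T'
  -- the common neighbours of `R` and `R2`
  set 𝔅 : Set (Sylow 3 G) := {X | Adj R X ∧ Adj R2 X} with h𝔅
  have c1 : ∀ X, X ∈ 𝔅 ↔ ∃ r ∈ (R : Subgroup G), X = r • R3 := by
    intro X
    constructor
    · rintro ⟨h1, h2⟩
      obtain ⟨r, hr, hX | hX⟩ := (hadj1 X).mp h1
      · exfalso
        by_cases hr1 : r = 1
        · rw [hX, hr1, one_smul] at h2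
          exact h2.1 rfl
        · rw [hX] at h2
          exact hna r hr hr1 h2
      · exact ⟨r, hr, hX⟩
    · rintro ⟨r, hr, rfl⟩
      refine ⟨(hadj1 _).mpr ⟨r, hr, Or.inr rfl⟩, ?_⟩
      by_cases hr1 : r = 1
      · rw [hr1, one_smul]
        exact ⟨T.ne23, t, T.ht, T.i2, T.i3⟩
      · exact hb r hr hr1
  obtain ⟨g, -, hgR, hgR2, hgR3⟩ := Cf.sw12
  have hg1 : g⁻¹ • R = R2 := by rw [← hgR2, inv_smul_smul]
  have hg2 : g⁻¹ • R2 = R := by rw [← hgR, inv_smul_smul]
  have hg3 : g⁻¹ • R3 = R3 := by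
    conv_lhs => rw [← hgR3]
    rw [inv_smul_smul]
  have inv1 : ∀ X, X ∈ 𝔅 ↔ g⁻¹ • X ∈ 𝔅 := by
    intro X
    show Adj R X ∧ Adj R2 X ↔ Adj R (g⁻¹ • X) ∧ Adj R2 (g⁻¹ • X)
    rw [← h4_adj_smul_iff g⁻¹ (X := R) (Y := X), ← h4_adj_smul_iff g⁻¹ (X := R2) (Y := X), hg1, hg2]
    exact and_comm
  have c2 : ∀ X, X ∈ 𝔅 ↔ ∃ x ∈ (R2 : Subgroup G), X = x • R3 := by
    intro X
    rw [inv1, c1]
    constructor
    · rintro ⟨r, hr, hX⟩
      refine ⟨g * r * g⁻¹, ?_, ?_⟩
      · rw [← hgR]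
        exact h4_conj_mem_smul hr
      · have : X = g • (r • R3) := by rw [← hX, smul_inv_smul]
        rw [this]
        exact h4_smul_smul_of_mem_normalizer (Sylow.smul_eq_iff_mem_normalizer.mp hgR3)
    · rintro ⟨x, hx, rfl⟩
      refine ⟨g⁻¹ * x * g, ?_, ?_⟩
      · rw [← hgR, h4_mem_smul] at hx
        exact hx
      · have := h4_smul_smul_of_mem_normalizer (o := g⁻¹) (r := x)
          (Sylow.smul_eq_iff_mem_normalizer.mp hg3)
        rwa [inv_inv] at this
  -- the setwise stabiliser of `𝔅`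
  let J : Subgroup G :=
    { carrier := {x | ∀ X, X ∈ 𝔅 ↔ x • X ∈ 𝔅}
      one_mem' := by
        intro X
        rw [one_smul]
      mul_mem' := by
        intro a b ha hb X
        rw [mul_smul]
        exact (hb X).trans (ha _)
      inv_mem' := by
        intro a ha X
        have := ha (a⁻¹ • X)
        rw [smul_inv_smul] at this
        exact this.symm }
  have hJmem : ∀ x : G, x ∈ J ↔ ∀ X, X ∈ 𝔅 ↔ x • X ∈ 𝔅 := fun x => Iff.rfl
  have hJof : ∀ x : G, (∀ X ∈ 𝔅, x • X ∈ 𝔅) → (∀ X ∈ 𝔅, x⁻¹ • X ∈ 𝔅) → x ∈ J := by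
    intro x h1 h2 X
    refine ⟨h1 X, fun h => ?_⟩
    have := h2 _ h
    rwa [inv_smul_smul] at this
  have hRJ : (R : Subgroup G) ≤ J := by
    have key : ∀ r ∈ (R : Subgroup G), ∀ X ∈ 𝔅, r • X ∈ 𝔅 := by
      intro r hr X hX
      obtain ⟨r', hr', rfl⟩ := (c1 X).mp hX
      rw [c1]
      exact ⟨r * r', (R : Subgroup G).mul_mem hr hr', (mul_smul _ _ _).symm⟩
    intro r hr
    exact hJof r (key r hr) (key r⁻¹ ((R : Subgroup G).inv_mem hr))
  have hR2J : (R2 : Subgroup G) ≤ J := by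
    have key : ∀ r ∈ (R2 : Subgroup G), ∀ X ∈ 𝔅, r • X ∈ 𝔅 := by
      intro r hr X hX
      obtain ⟨r', hr', rfl⟩ := (c2 X).mp hX
      rw [c2]
      exact ⟨r * r', (R2 : Subgroup G).mul_mem hr hr', (mul_smul _ _ _).symm⟩
    intro r hr
    exact hJof r (key r hr) (key r⁻¹ ((R2 : Subgroup G).inv_mem hr))
  set O : Subgroup G := normalizer ((R : Subgroup G) : Set G) ⊓
    normalizer ((R2 : Subgroup G) : Set G) with hO
  have hOJ : O ≤ J := by
    intro o ho X
    have h1 : o • R = R := Sylow.smul_eq_iff_mem_normalizer.mpr ho.1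
    have h2 : o • R2 = R2 := Sylow.smul_eq_iff_mem_normalizer.mpr ho.2
    show Adj R X ∧ Adj R2 X ↔ Adj R (o • X) ∧ Adj R2 (o • X)
    rw [← h4_adj_smul_iff o (X := R) (Y := X), ← h4_adj_smul_iff o (X := R2) (Y := X), h1, h2]
  -- orbit-stabiliser for `J` acting on `𝔅`
  have horb : MulAction.orbit J R3 = 𝔅 := by
    ext X
    rw [MulAction.mem_orbit_iff]
    constructor
    · rintro ⟨j, rfl⟩
      rw [Subgroup.smul_def]
      have h3 : R3 ∈ 𝔅 := (c1 R3).mpr ⟨1, one_mem _, (one_smul _ _).symm⟩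
      exact (j.2 R3).mp h3
    · intro hX
      obtain ⟨r, hr, rfl⟩ := (c1 X).mp hX
      exact ⟨⟨r, hRJ hr⟩, rfl⟩
  have hcard𝔅 : 𝔅.ncard = 9 := by
    have hrange : 𝔅 = Set.range (fun r : (R : Subgroup G) => (r : G) • R3) := by
      ext X
      rw [c1]
      constructor
      · rintro ⟨r, hr, rfl⟩
        exact ⟨⟨r, hr⟩, rfl⟩
      · rintro ⟨r, rfl⟩
        exact ⟨r.1, r.2, rfl⟩
    have hinj : Function.Injective (fun r : (R : Subgroup G) => (r : G) • R3) := by
      intro r r' h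
      exact Subtype.ext (hinj3 r.1 r.2 r'.1 r'.2 h)
    rw [← Nat.card_coe_set_eq, hrange, Nat.card_range_of_injective hinj]
    exact L.card3 R
  set W : Subgroup J := MulAction.stabilizer J R3 with hW
  have hidx : W.index = 9 := by
    rw [hW, MulAction.index_stabilizer, horb, hcard𝔅]
  have hJW : Nat.card W * 9 = Nat.card J := by
    rw [← hidx]
    exact Subgroup.card_mul_index W
  have hWdvd : Nat.card W ∣ 144 := by
    have hle : W.map J.subtype ≤ normalizer ((R3 : Subgroup G) : Set G) := by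
      rintro _ ⟨j, hj, rfl⟩
      have : (j : G) • R3 = R3 := by
        have := MulAction.mem_stabilizer_iff.mp hj
        rwa [Subgroup.smul_def] at this
      exact Sylow.smul_eq_iff_mem_normalizer.mp this
    have h1 := Subgroup.card_dvd_of_le hle
    rw [B.h144 R3, Subgroup.card_map_of_injective J.subtype_injective] at h1
    exact h1
  have hJdvd : Nat.card J ∣ 7920 := by
    rw [← B.card]
    exact Subgroup.card_subgroup_dvd_card J
  have hW16 : Nat.card W ≤ 16 := by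
    have h3 : ¬ 3 ∣ Nat.card W := by
      intro h3
      obtain ⟨m, hm⟩ := h3
      rw [← hJW, hm] at hJdvd
      have : (27 : ℕ) ∣ 7920 := Dvd.dvd.trans ⟨m, by ring⟩ hJdvd
      norm_num at this
    have hcop : Nat.Coprime (Nat.card W) 9 := by
      have : Nat.Coprime (Nat.card W) 3 :=
        (Nat.Coprime.symm ((Nat.Prime.coprime_iff_not_dvd Nat.prime_three).mpr h3))
      have h9 : (9 : ℕ) = 3 ^ 2 := by norm_num
      rw [h9]
      exact Nat.Coprime.pow_right 2 this
    have h144 : (144 : ℕ) = 16 * 9 := by norm_num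
    rw [h144] at hWdvd
    exact Nat.le_of_dvd (by norm_num) (hcop.dvd_of_dvd_mul_right hWdvd)
  have hJ144 : Nat.card J ≤ 144 := by
    rw [← hJW]
    omega
  -- `K = J ⊓ N(R)` has index at most 2 in `J`
  set K : Subgroup G := J ⊓ normalizer ((R : Subgroup G) : Set G) with hK
  have hKJ : K ≤ J := inf_le_left
  have hRK : (R : Subgroup G) ≤ K := le_inf hRJ le_normalizer
  have hOK : O ≤ K := le_inf hOJ inf_le_left
  have h72 : 72 ∣ Nat.card K := by
    have h9 : 9 ∣ Nat.card K := by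
      have := Subgroup.card_dvd_of_le hRK
      rwa [L.card3 R] at this
    have h8 : 8 ∣ Nat.card K := by
      have := Subgroup.card_dvd_of_le hOK
      rwa [hO, Cf.cO] at this
    have : (72 : ℕ) = 9 * 8 := by norm_num
    rw [this]
    exact Nat.Coprime.mul_dvd_of_dvd_of_dvd (by norm_num) h9 h8
  have hKpos : 0 < Nat.card K := Nat.card_pos
  have hK72 : 72 ≤ Nat.card K := Nat.le_of_dvd hKpos h72
  have hKidx : (K.subgroupOf J).index * Nat.card K = Nat.card J := by
    have h1 := Subgroup.card_mul_index (K.subgroupOf J)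
    have h2 : Nat.card (K.subgroupOf J) = Nat.card K :=
      Nat.card_congr (Subgroup.subgroupOfEquivOfLe hKJ).toEquiv
    rw [h2, mul_comm] at h1
    exact h1
  have hidx2 : (K.subgroupOf J).index = 1 ∨ (K.subgroupOf J).index = 2 := by
    have hpos : 0 < (K.subgroupOf J).index := by
      rcases Nat.eq_zero_or_pos (K.subgroupOf J).index with h0 | h0
      · rw [h0, zero_mul] at hKidx
        have : 0 < Nat.card J := Nat.card_pos
        omega
      · exact h0
    have hle : (K.subgroupOf J).index ≤ 2 := by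
      by_contra hcon
      push Not at hcon
      have : 3 * 72 ≤ (K.subgroupOf J).index * Nat.card K := Nat.mul_le_mul hcon hK72
      omega
    omega
  -- all squares of elements of `J` lie in `K`
  have hsq : ∀ x ∈ J, x ^ 2 ∈ K := by
    intro x hx
    have : (⟨x, hx⟩ : J) ^ 2 ∈ K.subgroupOf J := by
      rcases hidx2 with h1 | h2
      · rw [Subgroup.index_eq_one.mp h1]
        exact Subgroup.mem_top _
      · exact Subgroup.sq_mem_of_index_two h2 _
    rw [Subgroup.mem_subgroupOf] at this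
    simpa using this
  -- hence `R2` normalises `R`, which is absurd
  have hR2triv : ∀ x ∈ (R2 : Subgroup G), x = 1 := by
    intro x hx
    have hx3 : x ^ 3 = 1 := L.exp3 R2 x hx
    have hxinv : x⁻¹ ∈ (R2 : Subgroup G) := (R2 : Subgroup G).inv_mem hx
    have h1 := hsq x⁻¹ (hR2J hxinv)
    have e : x⁻¹ ^ 2 = x := by
      have : x⁻¹ ^ 2 * x ^ 3 = x := by group
      rw [hx3, mul_one] at this
      exact this
    rw [e] at h1
    have h2 : x ∈ (R2 : Subgroup G) ⊓ normalizer (((R : Sylow 3 G) : Subgroup G) : Set G) :=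
      ⟨hx, h1.2⟩
    have h3 := IsPGroup.inf_normalizer_sylow R2.isPGroup' R
    have h4 : x ∈ (R2 : Subgroup G) ⊓ (R : Subgroup G) := by
      rw [← h3]
      exact h2
    exact L.ti R R2 T.ne12 x h4.2 h4.1
  have hcard2 : Nat.card (R2 : Subgroup G) = 1 := by
    rw [Nat.card_eq_one_iff_unique]
    refine ⟨⟨fun a b => ?_⟩, ⟨1⟩⟩
    apply Subtype.ext
    rw [hR2triv a.1 a.2, hR2triv b.1 b.2]
  have := L.card3 R2
  omega

end Cfsg.Agent.Helper51.M11U
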