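import Mathlib
import Cfsg.Prelude.Def_Transfer
import Cfsg.Agent.Lib.Helper24.CYCDefs

/-!
CYC lemma server (helper24, row S4016): piece (IIB1) `caseII_four` (helper51, second seat).
-/

set_option autoImplicit false

namespace Cfsg.Agent.Helper51.CYC

open Subgroup Cfsg.Agent.Helper24.CYC

universe u

variable {G : Type u} [Group G] [Finite G] {p : ℕ} [Fact p.Prime]

/-- an element of square one different from `1` has order `2` -/
theorem iib1_orderOf_two {t : G} (ht : t * t = 1) (ht1 : t ≠ 1) : orderOf t = 2 := by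
  apply orderOf_eq_prime
  · rw [pow_two]; exact ht
  · exact ht1

/-- an involution is a `p'`-element for odd `p` -/
theorem iib1_coprime {t : G} (hp : p ≠ 2) (ht : t * t = 1) (ht1 : t ≠ 1) : (orderOf t).Coprime p := by
  rw [iib1_orderOf_two ht ht1]
  exact (Nat.coprime_primes Nat.prime_two (Fact.out : p.Prime)).mpr (Ne.symm hp)

/-- a `p`-element of `N_G(P)` lies in `P` -/
theorem iib1_mem_sylow (P : Sylow p G) (v : G) (hv : v ∈ NP P) (hvp : ∃ n : ℕ, orderOf v = p ^ n) :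
    v ∈ P := by
  have hz : IsPGroup p (Subgroup.zpowers v) := by
    obtain ⟨n, hn⟩ := hvp
    rw [IsPGroup.iff_card]
    exact ⟨n, by rw [Nat.card_zpowers, hn]⟩
  have hle : Subgroup.zpowers v ≤ Subgroup.normalizer ((P : Subgroup G) : Set G) := by
    rw [Subgroup.zpowers_le]; exact hv
  have hsup : IsPGroup p (Subgroup.zpowers v ⊔ (P : Subgroup G) : Subgroup G) :=
    IsPGroup.to_sup_of_normal_right' hz P.isPGroup' hle
  have heq := P.is_maximal' hsup le_sup_right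
  have : v ∈ (Subgroup.zpowers v ⊔ (P : Subgroup G) : Subgroup G) :=
    Subgroup.mem_sup_left (Subgroup.mem_zpowers v)
  rw [heq] at this
  exact this


/-- `Ω = {t ∈ S | t² = 1}` for an abelian `S` -/
def iib1Omega (S : Subgroup G) (hab : ∀ a ∈ S, ∀ b ∈ S, a * b = b * a) : Subgroup G where
  carrier := {t | t ∈ S ∧ t * t = 1}
  mul_mem' := by
    rintro a b ⟨ha, ha2⟩ ⟨hb, hb2⟩
    refine ⟨S.mul_mem ha hb, ?_⟩
    have hc : b * a = a * b := hab b hb a ha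
    calc a * b * (a * b) = a * (b * a) * b := by group
      _ = a * (a * b) * b := by rw [hc]
      _ = (a * a) * (b * b) := by group
      _ = 1 := by rw [ha2, hb2, one_mul]
  one_mem' := ⟨S.one_mem, one_mul 1⟩
  inv_mem' := by
    rintro a ⟨ha, ha2⟩
    refine ⟨S.inv_mem ha, ?_⟩
    have : a⁻¹ = a := inv_eq_of_mul_eq_one_left ha2
    rw [this]; exact ha2

theorem iib1_mem_Omega {S : Subgroup G} {hab : ∀ a ∈ S, ∀ b ∈ S, a * b = b * a} {t : G} :
    t ∈ iib1Omega S hab ↔ t ∈ S ∧ t * t = 1 := Iff.rfl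

/-- conjugation by an element of `N_G(S)` preserves `Ω` -/
theorem iib1_conj_mem_Omega {S : Subgroup G} {hab : ∀ a ∈ S, ∀ b ∈ S, a * b = b * a} {v t : G}
    (hv : v ∈ nrm S) (ht : t ∈ iib1Omega S hab) : v * t * v⁻¹ ∈ iib1Omega S hab := by
  obtain ⟨htS, ht2⟩ := ht
  refine ⟨(Subgroup.mem_normalizer_iff.mp hv t).mp htS, ?_⟩
  calc v * t * v⁻¹ * (v * t * v⁻¹) = v * (t * t) * v⁻¹ := by group
    _ = 1 := by rw [ht2]; group


/-- Lemma A: an element of order `p` of `N_G(S)` does not normalise `P` (else it centralises `S`). -/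
theorem iib1_not_mem_NP (hp : p ≠ 2) (S : Sylow 2 G) (hA : ¬ p ∣ Nat.card (ctr (S : Subgroup G)))
    (P : Sylow p G) (hSN : (S : Subgroup G) ≤ NP P) (v : G) (hvo : orderOf v = p)
    (hvS : v ∈ nrm (S : Subgroup G)) : v ∉ NP P := by
  intro hvN
  have hvP : v ∈ P := iib1_mem_sylow P v hvN ⟨1, by rw [hvo, pow_one]⟩
  have hdisj : Disjoint (S : Subgroup G) (P : Subgroup G) :=
    IsPGroup.disjoint_of_ne 2 p (Ne.symm hp) _ _ S.isPGroup' P.isPGroup'
  have hvc : v ∈ ctr (S : Subgroup G) := by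
    rw [Subgroup.mem_centralizer_iff]
    intro t ht
    have htS : t ∈ (S : Subgroup G) := ht
    have h1 : t * v * t⁻¹ ∈ (P : Subgroup G) :=
      (Subgroup.mem_normalizer_iff.mp (hSN htS) v).mp hvP
    have hcP : t * v * t⁻¹ * v⁻¹ ∈ (P : Subgroup G) := (P : Subgroup G).mul_mem h1 ((P : Subgroup G).inv_mem hvP)
    have h2 : v * t⁻¹ * v⁻¹ ∈ (S : Subgroup G) :=
      (Subgroup.mem_normalizer_iff.mp hvS t⁻¹).mp ((S : Subgroup G).inv_mem htS)
    have hcS : t * v * t⁻¹ * v⁻¹ ∈ (S : Subgroup G) := by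
      have : t * v * t⁻¹ * v⁻¹ = t * (v * t⁻¹ * v⁻¹) := by group
      rw [this]; exact (S : Subgroup G).mul_mem htS h2
    have hc1 : t * v * t⁻¹ * v⁻¹ = 1 := Subgroup.disjoint_def.mp hdisj hcS hcP
    calc t * v = (t * v * t⁻¹ * v⁻¹) * (v * t) := by group
      _ = v * t := by rw [hc1, one_mul]
  have hdvd : orderOf v ∣ Nat.card (ctr (S : Subgroup G)) := Subgroup.orderOf_dvd_natCard _ hvc
  rw [hvo] at hdvd
  exact hA hdvd

/-- Lemma B: two conjugate nontrivial involutions of `C_G(P)`: the conjugating element normalises `P`. -/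
theorem iib1_mem_NP_of_conj (hC : Core p G) (P : Sylow p G) (a : G) (haP : a ∈ P) (ha1 : a ≠ 1)
    (v x y : G) (hx2 : x * x = 1) (hx1 : x ≠ 1) (hxC : x ∈ CP P) (hy2 : y * y = 1) (hyC : y ∈ CP P)
    (hxy : x = v * y * v⁻¹) : v ∈ NP P := by
  have hp2 : p ≠ 2 := hC.c1.podd
  have hy1 : y ≠ 1 := by
    intro h; apply hx1; rw [hxy, h]; group
  have hkx : Subgroup.centralizer {x} = NP P :=
    hC.key P a x haP ha1 hx1 (iib1_coprime hp2 hx2 hx1) (Subgroup.mem_centralizer_iff.mp hxC a haP)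
  have hky : Subgroup.centralizer {y} = NP P :=
    hC.key P a y haP ha1 hy1 (iib1_coprime hp2 hy2 hy1) (Subgroup.mem_centralizer_iff.mp hyC a haP)
  have hinv : v⁻¹ ∈ Subgroup.normalizer ((NP P : Subgroup G) : Set G) := by
    rw [Subgroup.mem_normalizer_iff]
    intro h
    have key : h ∈ Subgroup.centralizer {x} ↔ v⁻¹ * h * v⁻¹⁻¹ ∈ Subgroup.centralizer {y} := by
      rw [Subgroup.mem_centralizer_singleton_iff, Subgroup.mem_centralizer_singleton_iff, hxy]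
      constructor
      · intro e
        calc v⁻¹ * h * v⁻¹⁻¹ * y = v⁻¹ * (h * (v * y * v⁻¹)) * v := by group
          _ = v⁻¹ * (v * y * v⁻¹ * h) * v := by rw [e]
          _ = y * (v⁻¹ * h * v⁻¹⁻¹) := by group
      · intro e
        calc h * (v * y * v⁻¹) = v * (v⁻¹ * h * v⁻¹⁻¹ * y) * v⁻¹ := by group
          _ = v * (y * (v⁻¹ * h * v⁻¹⁻¹)) * v⁻¹ := by rw [e]
          _ = v * y * v⁻¹ * h := by group
    rw [hkx, hky] at key
    exact key
  have hNN : Subgroup.normalizer ((NP P : Subgroup G) : Set G) = NP P := P.normalizer_normalizer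
  rw [hNN] at hinv
  have := (NP P).inv_mem hinv
  rwa [inv_inv] at this

/-- Lemma C: the product of two involutions of `N_G(P) ∖ C_G(P)` centralises `P`. -/
theorem iib1_mul_mem_CP (hC : Core p G) (P : Sylow p G) (t1 t2 : G) (h1 : t1 ∈ Ivs P) (h2 : t2 ∈ Ivs P) :
    t1 * t2 ∈ CP P := by
  rw [Subgroup.mem_centralizer_iff]
  intro b hb
  have hbP : b ∈ P := hb
  have e2 : t2 * b * t2⁻¹ = b⁻¹ := hC.invert P t2 h2 b hbP
  have e1 : t1 * b⁻¹ * t1⁻¹ = b⁻¹⁻¹ := hC.invert P t1 h1 b⁻¹ ((P : Subgroup G).inv_mem hbP)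
  symm
  calc t1 * t2 * b = (t1 * (t2 * b * t2⁻¹) * t1⁻¹) * (t1 * t2) := by group
    _ = (t1 * b⁻¹ * t1⁻¹) * (t1 * t2) := by rw [e2]
    _ = b * (t1 * t2) := by rw [e1, inv_inv]


/-- (IIB1) -/
theorem caseII_four (hC : Core p G) (S : Sylow 2 G) (hA : ¬ p ∣ Nat.card (ctr (S : Subgroup G)))
    (P : Sylow p G) (s : G) (hsS : s ∈ S) (hs : s * s = 1) (hs1 : s ≠ 1) (hsC : s ∈ CP P)
    (D : Subgroup G) (hDN : D ≤ nrm (S : Subgroup G)) (hDp : IsPGroup p D) (hD1 : D ≠ ⊥)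
    (hfpf : ∀ u : G, orderOf u = p → u ∈ nrm (S : Subgroup G) → ∀ t ∈ S, t * u = u * t → t = 1) :
    p = 3 ∧ Nat.card {t : G // t ∈ S ∧ t * t = 1} = 4 ∧
      ∀ t ∈ S, t * t = 1 → t ≠ 1 → ∃ g : G, g * s * g⁻¹ = t := by
  have hp2 : p ≠ 2 := hC.c1.podd
  have hpp : p.Prime := Fact.out
  -- `S` is abelian
  have hSnd : ¬ p ∣ Nat.card (S : Subgroup G) := by
    obtain ⟨n, hn⟩ := IsPGroup.iff_card.mp S.isPGroup'
    rw [hn]
    intro h
    exact hp2 ((Nat.prime_dvd_prime_iff_eq hpp Nat.prime_two).mp (hpp.dvd_of_dvd_pow h))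
  have hab : ∀ a ∈ (S : Subgroup G), ∀ b ∈ (S : Subgroup G), a * b = b * a :=
    hC.c1.min.ab _ hSnd
  -- `1 ≠ a ∈ P`
  have hPne : (P : Subgroup G) ≠ ⊥ := P.ne_bot_of_dvd_card hC.c1.min.pdvd
  obtain ⟨a, haP, ha1⟩ : ∃ a ∈ (P : Subgroup G), a ≠ 1 := by
    by_contra h
    push Not at h
    exact hPne ((Subgroup.eq_bot_iff_forall _).mpr h)
  -- `C_G(s) = N_G(P) ⊇ S`
  have hkey_s : Subgroup.centralizer {s} = NP P :=
    hC.key P a s haP ha1 hs1 (iib1_coprime hp2 hs hs1) (Subgroup.mem_centralizer_iff.mp hsC a haP)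
  have hSN : (S : Subgroup G) ≤ NP P := by
    intro t ht
    rw [← hkey_s, Subgroup.mem_centralizer_singleton_iff]
    exact hab t ht s hsS
  -- `v ∈ D` of order `p`
  obtain ⟨v, hvD, hvo⟩ : ∃ v ∈ D, orderOf v = p := by
    obtain ⟨n, hn⟩ := IsPGroup.iff_card.mp hDp
    have hn0 : n ≠ 0 := by
      intro h0
      rw [h0, pow_zero] at hn
      exact hD1 (Subgroup.card_eq_one.mp hn)
    have hdvd : p ∣ Nat.card D := by
      rw [hn]; exact dvd_pow_self p hn0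
    obtain ⟨x, hx⟩ := exists_prime_orderOf_dvd_card' p hdvd
    exact ⟨(x : G), x.2, by rw [Subgroup.orderOf_coe]; exact hx⟩
  have hvS : v ∈ nrm (S : Subgroup G) := hDN hvD
  have hvN : v ∉ NP P := iib1_not_mem_NP hp2 S hA P hSN v hvo hvS
  -- `Ω` and `Ω₀`
  set Ω : Subgroup G := iib1Omega (S : Subgroup G) hab with hΩ
  set Ω₀ : Subgroup G := Ω ⊓ CP P with hΩ₀
  have hsΩ : s ∈ Ω := ⟨hsS, hs⟩
  have hsΩ₀ : s ∈ Ω₀ := ⟨hsΩ, hsC⟩
  -- (5) `|Ω₀|² ≤ |Ω|`
  have h5 : Nat.card Ω₀ * Nat.card Ω₀ ≤ Nat.card Ω := by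
    have hmem : ∀ x : ↥Ω₀ × ↥Ω₀, (x.1 : G) * (v * (x.2 : G) * v⁻¹) ∈ Ω := by
      intro x
      exact Ω.mul_mem x.1.2.1 (iib1_conj_mem_Omega hvS x.2.2.1)
    let f : ↥Ω₀ × ↥Ω₀ → ↥Ω := fun x => ⟨(x.1 : G) * (v * (x.2 : G) * v⁻¹), hmem x⟩
    have hf : Function.Injective f := by
      rintro ⟨⟨h1, hh1⟩, ⟨k1, hk1⟩⟩ ⟨⟨h2, hh2⟩, ⟨k2, hk2⟩⟩ e
      have e' : h1 * (v * k1 * v⁻¹) = h2 * (v * k2 * v⁻¹) := congrArg Subtype.val e
      have hx : h2⁻¹ * h1 = v * (k2 * k1⁻¹) * v⁻¹ := by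
        calc h2⁻¹ * h1 = h2⁻¹ * (h1 * (v * k1 * v⁻¹)) * (v * k1⁻¹ * v⁻¹) := by group
          _ = h2⁻¹ * (h2 * (v * k2 * v⁻¹)) * (v * k1⁻¹ * v⁻¹) := by rw [e']
          _ = v * (k2 * k1⁻¹) * v⁻¹ := by group
      have hxm : h2⁻¹ * h1 ∈ Ω₀ := Ω₀.mul_mem (Ω₀.inv_mem hh2) hh1
      have hym : k2 * k1⁻¹ ∈ Ω₀ := Ω₀.mul_mem hk2 (Ω₀.inv_mem hk1)
      have hx1 : h2⁻¹ * h1 = 1 := by
        by_contra hne
        exact hvN (iib1_mem_NP_of_conj hC P a haP ha1 v (h2⁻¹ * h1) (k2 * k1⁻¹) hxm.1.2 hne hxm.2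
          hym.1.2 hym.2 hx)
      have hy1 : k2 * k1⁻¹ = 1 := by
        rw [hx1] at hx
        have : k2 * k1⁻¹ = v⁻¹ * (v * (k2 * k1⁻¹) * v⁻¹) * v := by group
        rw [this, ← hx]; group
      have e1 : h1 = h2 := by
        have : h1 = h2 * (h2⁻¹ * h1) := by group
        rw [this, hx1, mul_one]
      have e2 : k1 = k2 := by
        have : k2 = (k2 * k1⁻¹) * k1 := by group
        rw [this, hy1, one_mul]
      subst e1; subst e2; rfl
    have := Nat.card_le_card_of_injective f hf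
    rwa [Nat.card_prod] at this
  -- (6) `|Ω| ≤ 2 |Ω₀|`
  have h6 : Nat.card Ω ≤ 2 * Nat.card Ω₀ := by
    have hle : Ω₀ ≤ Ω := inf_le_left
    by_cases hex : ∃ t1 ∈ Ω, t1 ∉ CP P
    · obtain ⟨t1, ht1Ω, ht1C⟩ := hex
      have ht1I : t1 ∈ Ivs P := ⟨ht1Ω.2, hSN ht1Ω.1, ht1C⟩
      have hsub : (Ω : Set G) ⊆ (Ω₀ : Set G) ∪ (fun x => t1 * x) '' (Ω₀ : Set G) := by
        intro t ht
        have htΩ : t ∈ Ω := ht
        by_cases htC : t ∈ CP P
        · exact Or.inl ⟨htΩ, htC⟩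
        · right
          have htI : t ∈ Ivs P := ⟨htΩ.2, hSN htΩ.1, htC⟩
          refine ⟨t1 * t, ⟨Ω.mul_mem ht1Ω htΩ, iib1_mul_mem_CP hC P t1 t ht1I htI⟩, ?_⟩
          show t1 * (t1 * t) = t
          rw [← mul_assoc, ht1Ω.2, one_mul]
      have hfin : ((Ω₀ : Set G) ∪ (fun x => t1 * x) '' (Ω₀ : Set G)).Finite := Set.toFinite _
      have h1 := Set.ncard_le_ncard hsub hfin
      have h2 := Set.ncard_union_le (Ω₀ : Set G) ((fun x => t1 * x) '' (Ω₀ : Set G))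
      have h3 := Set.ncard_image_le (f := fun x => t1 * x) (s := (Ω₀ : Set G)) (Set.toFinite _)
      have hcΩ : Nat.card Ω = (Ω : Set G).ncard := _root_.Nat.card_coe_set_eq (Ω : Set G)
      have hcΩ₀ : Nat.card Ω₀ = (Ω₀ : Set G).ncard := _root_.Nat.card_coe_set_eq (Ω₀ : Set G)
      omega
    · push Not at hex
      have : Ω ≤ Ω₀ := fun t ht => ⟨ht, hex t ht⟩
      have := Subgroup.card_le_of_le this
      omega
  -- (7) `2 ≤ |Ω₀|`
  have h7 : 2 ≤ Nat.card Ω₀ := by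
    have : Ω₀ ≠ ⊥ := by
      intro h
      rw [h, Subgroup.mem_bot] at hsΩ₀
      exact hs1 hsΩ₀
    exact (Subgroup.one_lt_card_iff_ne_bot (H := Ω₀)).mpr this
  -- (8) `|Ω| = 4`
  have h8 : Nat.card Ω = 4 := by
    have ha2 : Nat.card Ω₀ ≤ 2 := by
      by_contra hgt
      push Not at hgt
      have : 3 * Nat.card Ω₀ ≤ Nat.card Ω₀ * Nat.card Ω₀ := Nat.mul_le_mul_right _ hgt
      omega
    have ha : Nat.card Ω₀ = 2 := le_antisymm ha2 h7
    rw [ha] at h5 h6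
    omega
  have hcard : Nat.card {t : G // t ∈ S ∧ t * t = 1} = 4 := by
    rw [← h8]
    exact Nat.card_congr (Equiv.subtypeEquivRight (fun t => Iff.rfl))
  -- the conjugates of `s` under `⟨v⟩`
  let φ : Fin p → G := fun i => v ^ (i : ℕ) * s * (v ^ (i : ℕ))⁻¹
  have hpowS : ∀ n : ℕ, v ^ n ∈ nrm (S : Subgroup G) := fun n => Subgroup.pow_mem _ hvS n
  have hφΩ : ∀ i, φ i ∈ Ω := fun i => iib1_conj_mem_Omega (hpowS _) hsΩ
  have hφ1 : ∀ i, φ i ≠ 1 := by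
    intro i h
    apply hs1
    have : s = (v ^ (i : ℕ))⁻¹ * (v ^ (i : ℕ) * s * (v ^ (i : ℕ))⁻¹) * v ^ (i : ℕ) := by group
    rw [this]
    show (v ^ (i : ℕ))⁻¹ * φ i * v ^ (i : ℕ) = 1
    rw [h]; group
  have hφinj : Function.Injective φ := by
    -- wlog i < j
    have key : ∀ i j : Fin p, (i : ℕ) < (j : ℕ) → φ i ≠ φ j := by
      intro i j hij e
      set k : ℕ := (j : ℕ) - (i : ℕ) with hk
      have hk0 : 0 < k := Nat.sub_pos_of_lt hij
      have hkp : k < p := lt_of_le_of_lt (Nat.sub_le _ _) j.2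
      have hj : (j : ℕ) = (i : ℕ) + k := by omega
      -- `v^k` commutes with `s`
      have hcomm : s * v ^ k = v ^ k * s := by
        have e' : v ^ (i : ℕ) * s * (v ^ (i : ℕ))⁻¹ = v ^ (j : ℕ) * s * (v ^ (j : ℕ))⁻¹ := e
        rw [hj, pow_add] at e'
        calc s * v ^ k = (v ^ (i : ℕ))⁻¹ * (v ^ (i : ℕ) * s * (v ^ (i : ℕ))⁻¹) * (v ^ (i : ℕ) * v ^ k) := by
              group
          _ = (v ^ (i : ℕ))⁻¹ * (v ^ (i : ℕ) * v ^ k * s * (v ^ (i : ℕ) * v ^ k)⁻¹) * (v ^ (i : ℕ) * v ^ k) := by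
              rw [e']
          _ = v ^ k * s := by group
      have hord : orderOf (v ^ k) = p := by
        have hcop : (orderOf v).Coprime k := by
          rw [hvo]
          exact (Nat.Prime.coprime_iff_not_dvd hpp).mpr (Nat.not_dvd_of_pos_of_lt hk0 hkp)
        rw [hcop.orderOf_pow, hvo]
      exact hs1 (hfpf (v ^ k) hord (hpowS k) s hsS hcomm)
    intro i j e
    by_contra hne
    rcases lt_or_gt_of_ne (fun h => hne (Fin.ext h)) with h | h
    · exact key i j h e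
    · exact key j i h e.symm
  -- the set `{1} ∪ range φ ⊆ Ω` has `p + 1` elements
  have hsub : insert (1 : G) (Set.range φ) ⊆ (Ω : Set G) := by
    intro t ht
    rcases ht with rfl | ⟨i, rfl⟩
    · exact Ω.one_mem
    · exact hφΩ i
  have hnot : (1 : G) ∉ Set.range φ := by
    rintro ⟨i, hi⟩
    exact hφ1 i hi
  have hcardins : (insert (1 : G) (Set.range φ)).ncard = p + 1 := by
    rw [Set.ncard_insert_of_notMem hnot (Set.toFinite _), Set.ncard_range_of_injective hφinj,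
      Nat.card_eq_fintype_card, Fintype.card_fin]
  have hcΩ : (Ω : Set G).ncard = 4 := by
    rw [← _root_.Nat.card_coe_set_eq (Ω : Set G)]; exact h8
  have hle : p + 1 ≤ 4 := by
    rw [← hcardins, ← hcΩ]
    exact Set.ncard_le_ncard hsub (Set.toFinite _)
  have hp3 : p = 3 := by
    have := hpp.two_le
    omega
  refine ⟨hp3, hcard, ?_⟩
  intro t htS ht2 ht1
  have heq : insert (1 : G) (Set.range φ) = (Ω : Set G) := by
    apply Set.eq_of_subset_of_ncard_le hsub _ (Set.toFinite _)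
    rw [hcardins, hcΩ, hp3]
  have htΩ : t ∈ (Ω : Set G) := ⟨htS, ht2⟩
  rw [← heq] at htΩ
  rcases htΩ with h | ⟨i, hi⟩
  · exact absurd h ht1
  · exact ⟨v ^ (i : ℕ), hi⟩

end Cfsg.Agent.Helper51.CYC
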