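import Mathlib
import Cfsg.Prelude.Def_DStar
import Cfsg.Prelude.Def_PLocal
import Cfsg.Agent.Lib.Helper51.DStar
import Cfsg.Agent.Lib.Helper51.Replacement

set_option autoImplicit false

namespace Cfsg.Agent.Helper51

open Subgroup
open scoped commutatorElement

theorem dStar_normal (S : Type*) [Group S] : (Cfsg.dStar S).Normal := by
  constructor
  intro n hn g
  have hle : (Cfsg.dStar S).map (MulAut.conj g).toMonoidHom ≤ Cfsg.dStar S := by
    unfold Cfsg.dStar
    rw [sSup_eq_iSup', Subgroup.map_iSup]
    apply iSup_le
    intro A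
    have : (A : Subgroup S).map (MulAut.conj g).toMonoidHom ∈ Cfsg.dStarFamily S :=
      dStarFamily_conj A.2 g
    exact le_trans (le_sSup this) (by rw [sSup_eq_iSup'])
  have : (MulAut.conj g).toMonoidHom n ∈ (Cfsg.dStar S).map (MulAut.conj g).toMonoidHom :=
    Subgroup.mem_map_of_mem _ hn
  have := hle this
  simpa [MulAut.conj_apply] using this

theorem center_mem_dStarFamily (S : Type*) [Group S] : Subgroup.center S ∈ Cfsg.dStarFamily S := by
  refine ⟨inferInstance, ?_⟩
  intro x _ a ha
  exact (Subgroup.mem_center_iff.mp ha x).symm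

theorem exists_maxAbelian (S : Type*) [Group S] [Finite S] :
    ∃ B : Subgroup S, B ∈ Cfsg.maxAbelianSubgroups S := by
  haveI : Nonempty {A : Subgroup S // IsMulCommutative A} := ⟨⟨⊥, inferInstance⟩⟩
  obtain ⟨B, hB⟩ := Finite.exists_max (fun A : {A : Subgroup S // IsMulCommutative A} => Nat.card ↥(A : Subgroup S))
  exact ⟨B.1, B.2, fun B' hB' => hB ⟨B', hB'⟩⟩

/-- If a member `D` of the `D*` family normalizes-and-is-normalized: an abelian subgroup `B` normalized by `D`,
with `D` normal, is centralized by `D`. -/
theorem centralizes_of_normalizes {S : Type*} [Group S] {D B : Subgroup S} (hD : D ∈ Cfsg.dStarFamily S)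
    (hDn : D.Normal) (hB : IsMulCommutative B) (hDB : D ≤ normalizer (B : Set S)) :
    ∀ d ∈ D, ∀ b ∈ B, d * b = b * d := by
  have hDc : IsMulCommutative D := hD.1
  intro d hd b hb
  refine hD.2 b ?_ d hd
  apply triple_comm_eq_bot_of_central D hD.1 b
  intro d' hd'
  have hmemD : ⁅d', b⁆ ∈ D := by
    have h1 : b * d'⁻¹ * b⁻¹ ∈ D := hDn.conj_mem _ (inv_mem hd') b
    have e : ⁅d', b⁆ = d' * (b * d'⁻¹ * b⁻¹) := by simp only [commutatorElement_def]; group
    rw [e]; exact mul_mem hd' h1
  have hmemB : ⁅d', b⁆ ∈ B := by
    have h1 : d' * b * d'⁻¹ ∈ B := ((hDB hd') b).mp hb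
    have e : ⁅d', b⁆ = (d' * b * d'⁻¹) * b⁻¹ := by simp only [commutatorElement_def]
    rw [e]; exact mul_mem h1 (inv_mem hb)
  exact ⟨fun d'' hd'' => setLike_mul_comm hd'' hmemD, setLike_mul_comm hb hmemB⟩

theorem dStar_le_of_maxAbelian {S : Type*} [Group S] [Finite S] [Group.IsNilpotent S] :
    ∀ B ∈ Cfsg.maxAbelianSubgroups S, Cfsg.dStar S ≤ B := by
  set D := Cfsg.dStar S with hDdef
  have hD : D ∈ Cfsg.dStarFamily S := dStar_mem_family
  have hDn : D.Normal := dStar_normal S
  have hDc : IsMulCommutative D := hD.1
  -- strong induction on |D| - |B ⊓ D|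
  have main : ∀ k : ℕ, ∀ B ∈ Cfsg.maxAbelianSubgroups S,
      Nat.card ↥D - Nat.card ↥(B ⊓ D) = k → D ≤ B := by
    intro k
    induction k using Nat.strong_induction_on with
    | _ k ih =>
    intro B hB hk
    have hBc : IsMulCommutative B := hB.1
    -- it suffices that D normalizes B
    have suff : D ≤ normalizer (B : Set S) → D ≤ B := by
      intro hDB
      have hcomm := centralizes_of_normalizes hD hDn hBc hDB
      -- D ⊔ B abelian
      have hDBc : IsMulCommutative ↥(D ⊔ B) := by
        have e : D ⊔ B = closure ((D : Set S) ∪ (B : Set S)) := by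
          rw [Subgroup.closure_union, closure_eq, closure_eq]
        rw [e]
        apply Subgroup.isMulCommutative_closure
        rintro g (hg | hg) g' (hg' | hg')
        · exact setLike_mul_comm hg hg'
        · exact hcomm g hg g' hg'
        · exact (hcomm g' hg' g hg).symm
        · exact setLike_mul_comm hg hg'
      have hcard : Nat.card ↥(D ⊔ B) ≤ Nat.card ↥B := hB.2 _ hDBc
      have hBle : B ≤ D ⊔ B := le_sup_right
      have hsub : (B.subgroupOf (D ⊔ B)) = ⊤ := by
        apply Subgroup.eq_top_of_le_card
        have : Nat.card ↥(B.subgroupOf (D ⊔ B)) = Nat.card ↥B :=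
          Nat.card_congr (Subgroup.subgroupOfEquivOfLe hBle).toEquiv
        rw [this]; exact hcard
      rw [Subgroup.subgroupOf_eq_top] at hsub
      exact le_sup_left.trans hsub
    by_cases hDB : D ≤ normalizer (B : Set S)
    · exact suff hDB
    · exfalso
      -- find x via the upper central series
      have hexx : ∃ x ∈ D, x ∉ normalizer (B : Set S) ∧ ∀ b ∈ B, ⁅x, b⁆ ∈ D ⊓ normalizer (B : Set S) := by
        by_contra hcon
        push Not at hcon
        have hall : ∀ j : ℕ, D ⊓ Subgroup.upperCentralSeries S j ≤ normalizer (B : Set S) := by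
          intro j
          induction j with
          | zero =>
            rw [Subgroup.upperCentralSeries_zero, inf_bot_eq]; exact bot_le
          | succ j ihj =>
            intro y hy
            rw [Subgroup.mem_inf] at hy
            by_contra hyN
            obtain ⟨b, hb, hbn⟩ := hcon y hy.1 hyN
            apply hbn
            rw [Subgroup.mem_inf]
            have hmemD : ⁅y, b⁆ ∈ D := by
              have h1 : b * y⁻¹ * b⁻¹ ∈ D := hDn.conj_mem _ (inv_mem hy.1) b
              have e : ⁅y, b⁆ = y * (b * y⁻¹ * b⁻¹) := by simp only [commutatorElement_def]; group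
              rw [e]; exact mul_mem hy.1 h1
            have hmemZ : ⁅y, b⁆ ∈ Subgroup.upperCentralSeries S j := Subgroup.mem_upperCentralSeries_succ_iff.mp hy.2 b
            exact ⟨hmemD, ihj (Subgroup.mem_inf.mpr ⟨hmemD, hmemZ⟩)⟩
        obtain ⟨n, hn⟩ := Group.IsNilpotent.nilpotent S
        have := hall n
        rw [hn, inf_top_eq] at this
        exact hDB this
      obtain ⟨x, hxD, hxN, hxb⟩ := hexx
      obtain ⟨B', hB', hlt, hB'N⟩ := thompson_replacement_core B D hB hDc x hxN hxb
      have hcardlt : Nat.card ↥(B ⊓ D) < Nat.card ↥(B' ⊓ D) := by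
        have hle : B ⊓ D ≤ B' ⊓ D := hlt.le
        by_contra hcon
        push Not at hcon
        have hsub : ((B ⊓ D).subgroupOf (B' ⊓ D)) = ⊤ := by
          apply Subgroup.eq_top_of_le_card
          have : Nat.card ↥((B ⊓ D).subgroupOf (B' ⊓ D)) = Nat.card ↥(B ⊓ D) :=
            Nat.card_congr (Subgroup.subgroupOfEquivOfLe hle).toEquiv
          rw [this]; exact hcon
        rw [Subgroup.subgroupOf_eq_top] at hsub
        exact (lt_irrefl _ (lt_of_lt_of_le hlt hsub))
      have hcardle : Nat.card ↥(B' ⊓ D) ≤ Nat.card ↥D := Subgroup.card_le_of_le inf_le_right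
      have hk' : Nat.card ↥D - Nat.card ↥(B' ⊓ D) < k := by omega
      have hDB' : D ≤ B' := ih _ hk' B' hB' rfl
      exact hDB (hDB'.trans hB'N)
  intro B hB
  exact main _ B hB rfl

theorem dStar_le_centerThompson {S : Type*} [Group S] [Finite S] [Group.IsNilpotent S] :
    Cfsg.dStar S ≤ Cfsg.thompsonSubgroupA S ⊓ Subgroup.centralizer (Cfsg.thompsonSubgroupA S : Set S) := by
  obtain ⟨B₀, hB₀⟩ := exists_maxAbelian S
  apply le_inf
  · exact (dStar_le_of_maxAbelian B₀ hB₀).trans (le_sSup hB₀)
  · rw [Subgroup.le_centralizer_iff]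
    unfold Cfsg.thompsonSubgroupA
    apply sSup_le
    intro B hB b hb
    rw [mem_centralizer_iff]
    intro d hd
    have hBc : IsMulCommutative B := hB.1
    exact setLike_mul_comm (dStar_le_of_maxAbelian B hB hd) hb

/-- A maximal normal abelian subgroup of a nilpotent group is self-centralizing. -/
theorem centralizer_le_of_maximal_normal_abelian {S : Type*} [Group S] [Group.IsNilpotent S]
    (A : Subgroup S) (hAn : A.Normal) (hAc : IsMulCommutative A)
    (hmax : ∀ B : Subgroup S, B.Normal → IsMulCommutative B → A ≤ B → B = A) :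
    centralizer (A : Set S) ≤ A := by
  have hCn : (centralizer (A : Set S)).Normal := inferInstance
  have hall : ∀ j : ℕ, centralizer (A : Set S) ⊓ Subgroup.upperCentralSeries S j ≤ A := by
    intro j
    induction j with
    | zero => rw [Subgroup.upperCentralSeries_zero, inf_bot_eq]; exact bot_le
    | succ j ihj =>
      intro x hx
      rw [Subgroup.mem_inf] at hx
      have hxc : ∀ a ∈ A, a * x = x * a := by
        intro a ha
        have := hx.1
        rw [mem_centralizer_iff] at this
        exact this a ha
      set B := A ⊔ zpowers x with hB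
      have hBc : IsMulCommutative B := by
        have e : B = closure ((A : Set S) ∪ {x}) := by
          rw [hB, Subgroup.closure_union, closure_eq, zpowers_eq_closure]
        rw [e]
        apply Subgroup.isMulCommutative_closure
        rintro g (hg | hg) g' (hg' | hg')
        · exact setLike_mul_comm hg hg'
        · rw [Set.mem_singleton_iff] at hg'; subst hg'; exact hxc g hg
        · rw [Set.mem_singleton_iff] at hg; subst hg; exact (hxc g' hg').symm
        · rw [Set.mem_singleton_iff] at hg hg'; subst hg; subst hg'; rfl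
      have hBn : B.Normal := by
        have e : B = closure ((A : Set S) ∪ {x}) := by
          rw [hB, Subgroup.closure_union, closure_eq, zpowers_eq_closure]
        constructor
        intro n hn g
        rw [e] at hn
        induction hn using closure_induction with
        | mem y hy =>
          rcases hy with hy | hy
          · exact le_sup_left (a := A) (hAn.conj_mem y hy g)
          · rw [Set.mem_singleton_iff] at hy; subst hy
            have hcomm_mem : ⁅g, y⁆ ∈ A := by
              apply ihj
              rw [Subgroup.mem_inf]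
              constructor
              · have h1 : g * y * g⁻¹ ∈ centralizer (A : Set S) := hCn.conj_mem y hx.1 g
                have e2 : ⁅g, y⁆ = (g * y * g⁻¹) * y⁻¹ := by simp only [commutatorElement_def]
                rw [e2]; exact mul_mem h1 (inv_mem hx.1)
              · have h1 : ⁅y, g⁆ ∈ Subgroup.upperCentralSeries S j := Subgroup.mem_upperCentralSeries_succ_iff.mp hx.2 g
                rw [← commutatorElement_inv]; exact inv_mem h1
            have e3 : g * y * g⁻¹ = ⁅g, y⁆ * y := by simp only [commutatorElement_def]; group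
            rw [e3]
            exact mul_mem (le_sup_left (a := A) hcomm_mem) (le_sup_right (a := A) (mem_zpowers y))
        | one => simp
        | mul y z _ _ hy hz =>
          have e4 : g * (y * z) * g⁻¹ = (g * y * g⁻¹) * (g * z * g⁻¹) := by group
          rw [e4]; exact mul_mem hy hz
        | inv y _ hy =>
          have e5 : g * y⁻¹ * g⁻¹ = (g * y * g⁻¹)⁻¹ := by group
          rw [e5]; exact inv_mem hy
      have := hmax B hBn hBc le_sup_left
      rw [← this]
      exact le_sup_right (a := A) (mem_zpowers x)
  obtain ⟨n, hn⟩ := Group.IsNilpotent.nilpotent S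
  have := hall n
  rwa [hn, inf_top_eq] at this

/-- Every maximal normal abelian subgroup contains `D*(S)`. -/
theorem dStar_le_maximal_normal_abelian {S : Type*} [Group S] [Finite S] [Group.IsNilpotent S]
    (A : Subgroup S) (hAn : A.Normal) (hAc : IsMulCommutative A)
    (hmax : ∀ B : Subgroup S, B.Normal → IsMulCommutative B → A ≤ B → B = A) :
    Cfsg.dStar S ≤ A := by
  set D := Cfsg.dStar S with hDdef
  have hD : D ∈ Cfsg.dStarFamily S := dStar_mem_family
  have hDc : IsMulCommutative D := hD.1
  -- A centralizes D
  have hall : ∀ j : ℕ, A ⊓ Subgroup.upperCentralSeries S j ≤ centralizer (D : Set S) := by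
    intro j
    induction j with
    | zero => rw [Subgroup.upperCentralSeries_zero, inf_bot_eq]; exact bot_le
    | succ j ihj =>
      intro x hx
      rw [Subgroup.mem_inf] at hx
      rw [mem_centralizer_iff]
      intro d hd
      refine hD.2 x ?_ d hd
      apply triple_comm_eq_bot_of_central D hD.1 x
      intro d' hd'
      have hmemA : ⁅d', x⁆ ∈ A := by
        have h1 : d' * x * d'⁻¹ ∈ A := hAn.conj_mem x hx.1 d'
        have e : ⁅d', x⁆ = (d' * x * d'⁻¹) * x⁻¹ := by simp only [commutatorElement_def]
        rw [e]; exact mul_mem h1 (inv_mem hx.1)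
      have hmemZ : ⁅d', x⁆ ∈ Subgroup.upperCentralSeries S j := by
        have h1 : ⁅x, d'⁆ ∈ Subgroup.upperCentralSeries S j := Subgroup.mem_upperCentralSeries_succ_iff.mp hx.2 d'
        rw [← commutatorElement_inv]; exact inv_mem h1
      have hcent := ihj (Subgroup.mem_inf.mpr ⟨hmemA, hmemZ⟩)
      rw [mem_centralizer_iff] at hcent
      exact ⟨fun d'' hd'' => hcent d'' hd'', setLike_mul_comm hx.1 hmemA⟩
  obtain ⟨n, hn⟩ := Group.IsNilpotent.nilpotent S
  have hAD := hall n
  rw [hn, inf_top_eq] at hAD
  have hDA : D ≤ centralizer (A : Set S) := (Subgroup.le_centralizer_iff).mp hAD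
  exact hDA.trans (centralizer_le_of_maximal_normal_abelian A hAn hAc hmax)

end Cfsg.Agent.Helper51
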