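import Mathlib
import Cfsg.Agent.Lib.Helper32.C3Defs
import Cfsg.Agent.Lib.Helper48.SympRep
import Cfsg.Agent.Lib.Helper63.HeisES

/-!
# C3 server (S4415, helper32), piece (TR) `transfer`
-/

set_option autoImplicit false

namespace Cfsg.Agent.Helper51.C3

open Cfsg.Agent.Helper32.C3
open scoped commutatorElement

universe u v

section
variable {S : Type u} [Group S] {E : Type v} [AddCommGroup E] [Module (ZMod 3) E]

/-- the restricted representation of `↥K` on `↥F₀` -/
noncomputable def h51_res (ρ : Representation (ZMod 3) S E) (K : Subgroup S)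
    (F₀ : Submodule (ZMod 3) E) (hinv : Inv ρ K F₀) : Representation (ZMod 3) ↥K ↥F₀ where
  toFun g := (ρ g.1).restrict (fun v hv => hinv g.1 g.2 v hv)
  map_one' := by
    ext v
    simp
  map_mul' g h := by
    ext v
    simp

theorem h51_res_coe (ρ : Representation (ZMod 3) S E) (K : Subgroup S)
    (F₀ : Submodule (ZMod 3) E) (hinv : Inv ρ K F₀) (g : ↥K) (v : ↥F₀) :
    ((h51_res ρ K F₀ hinv g v : ↥F₀) : E) = ρ g.1 v.1 := rfl

/-- ranges of restricted operators -/
theorem h51_finrank_range_restrict (F₀ : Submodule (ZMod 3) E) (T : Module.End (ZMod 3) E)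
    (T' : Module.End (ZMod 3) ↥F₀) (hT : ∀ v : ↥F₀, ((T' v : ↥F₀) : E) = T v.1) :
    Module.finrank (ZMod 3) ↥(LinearMap.range T') = Module.finrank (ZMod 3) ↥(F₀.map T) := by
  have h1 : (LinearMap.range T').map F₀.subtype = F₀.map T := by
    ext w
    constructor
    · rintro ⟨_, ⟨v, rfl⟩, rfl⟩
      exact ⟨v.1, v.2, (hT v).symm⟩
    · rintro ⟨v, hv, rfl⟩
      exact ⟨T' ⟨v, hv⟩, ⟨⟨v, hv⟩, rfl⟩, hT ⟨v, hv⟩⟩
  rw [← h1]
  exact (Submodule.equivMapOfInjective F₀.subtype F₀.injective_subtype _).finrank_eq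

end

set_option maxHeartbeats 1600000 in
theorem transfer {S : Type u} [Group S] [Finite S] {E : Type v} [AddCommGroup E]
    [Module (ZMod 3) E] [Finite E] (ρ : Representation (ZMod 3) S E) (R Q : Subgroup S) (b : S)
    (F₀ : Submodule (ZMod 3) E) (hsolv : Group.IsSolvable S)
    (hfaith : ∀ g ∈ R ⊔ Subgroup.zpowers b, (∀ v ∈ F₀, ρ g v = v) → g = 1)
    (hinv : Inv ρ (R ⊔ Subgroup.zpowers b) F₀)
    (hirr : ∀ N : Submodule (ZMod 3) E, N ≤ F₀ → Inv ρ (R ⊔ Subgroup.zpowers b) N →
      N = ⊥ ∨ N = F₀)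
    (hbR : b ∈ Subgroup.normalizer (R : Set S)) (hRc : (Nat.card ↥R).Coprime 3)
    (hb3 : b ^ 3 = 1) (hcomm : ⁅R, Subgroup.zpowers b⁆ = R)
    (hcub : Module.finrank (ZMod 3) ↥(F₀.map (dl ρ b)) = 2 ∧
      Module.finrank (ZMod 3) ↥(F₀.map (dl ρ b * dl ρ b)) = 1)
    (hQR : Q ≤ R) (hQ : Four Q b)
    (hII : ∀ {G : Type u} [Group G] [Finite G] {V : Type v} [AddCommGroup V] [Module (ZMod 3) V]
      [Finite V] (ρ' : Representation (ZMod 3) G V) (R' Q' : Subgroup G) (b' : G),
      Cfg ρ' R' Q' b' → Concl R') :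
    Concl R := by
  classical
  set K : Subgroup S := R ⊔ Subgroup.zpowers b with hK
  have hRK : R ≤ K := le_sup_left
  have hbK : b ∈ K := (le_sup_right : Subgroup.zpowers b ≤ K) (Subgroup.mem_zpowers b)
  have hQK : Q ≤ K := hQR.trans hRK
  have hKN : K ≤ Subgroup.normalizer (R : Set S) :=
    sup_le Subgroup.le_normalizer ((Subgroup.zpowers_le).mpr hbR)
  let ρ' := h51_res ρ K F₀ hinv
  let R' : Subgroup ↥K := R.subgroupOf K
  let Q' : Subgroup ↥K := Q.subgroupOf K
  let b' : ↥K := ⟨b, hbK⟩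
  have hρ' : ∀ (g : ↥K) (v : ↥F₀), ((ρ' g v : ↥F₀) : E) = ρ g.1 v.1 := fun g v => rfl
  have hcfg : Cfg ρ' R' Q' b' := by
    refine
      { faith := ?_, irred := ?_, solv := ?_, Rn := ?_, Rcop := ?_, b3 := ?_, RB := ?_,
        comm := ?_, cubic := ?_, QR := ?_, four := ?_ }
    · -- faith
      rw [injective_iff_map_eq_one]
      intro g hg
      have : (g : S) = 1 := by
        apply hfaith g.1 g.2
        intro v hv
        have := hρ' g ⟨v, hv⟩
        rw [hg] at this
        exact this.symm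
      exact Subtype.ext this
    · -- irred
      intro N hN
      have hN₀ : Inv ρ K (N.map F₀.subtype) := by
        rintro g hg _ ⟨w, hw, rfl⟩
        exact ⟨ρ' ⟨g, hg⟩ w, hN ⟨g, hg⟩ (Subgroup.mem_top _) w hw, rfl⟩
      rcases hirr (N.map F₀.subtype) (Submodule.map_subtype_le F₀ N) hN₀ with h | h
      · left
        apply Submodule.map_injective_of_injective F₀.injective_subtype
        rw [h, Submodule.map_bot]
      · right
        apply Submodule.map_injective_of_injective F₀.injective_subtype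
        rw [h, Submodule.map_subtype_top]
    · -- solv
      have := hsolv
      infer_instance
    · -- Rn
      exact (Subgroup.normal_subgroupOf_iff_le_normalizer hRK).mpr hKN
    · -- Rcop
      have : Nat.card ↥R' = Nat.card ↥R :=
        Nat.card_congr (Subgroup.subgroupOfEquivOfLe hRK).toEquiv
      rw [this]
      exact hRc
    · -- b3
      apply Subtype.ext
      rw [Subgroup.coe_pow]
      exact hb3
    · -- RB
      intro g
      have hg : (g : S) ∈ ((R ⊔ Subgroup.zpowers b : Subgroup S) : Set S) := g.2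
      rw [Subgroup.coe_mul_of_right_le_normalizer_left R (Subgroup.zpowers b)
        ((Subgroup.zpowers_le).mpr hbR)] at hg
      obtain ⟨r, hr, c, hc, hrc⟩ := hg
      have hc' : c ∈ Submonoid.powers b :=
        ((isOfFinOrder_of_finite b).mem_powers_iff_mem_zpowers).mpr hc
      obtain ⟨i, hi⟩ := hc'
      refine ⟨⟨r, hRK hr⟩, ?_, i, ?_⟩
      · exact Subgroup.mem_subgroupOf.mpr hr
      · apply Subtype.ext
        rw [Subgroup.coe_mul, Subgroup.coe_pow]
        show (g : S) = r * b ^ i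
        have hi' : b ^ i = c := hi
        have hrc' : r * c = (g : S) := hrc
        rw [hi', hrc']
    · -- comm
      apply Subgroup.map_injective K.subtype_injective
      rw [Subgroup.map_commutator, Subgroup.map_subgroupOf_eq_of_le hRK, MonoidHom.map_zpowers]
      exact hcomm
    · -- cubic
      constructor
      · rw [h51_finrank_range_restrict F₀ (dl ρ b) (dl ρ' b')]
        · exact hcub.1
        · intro v
          rw [dl_apply, dl_apply]
          rfl
      · rw [h51_finrank_range_restrict F₀ (dl ρ b * dl ρ b) (dl ρ' b' * dl ρ' b')]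
        · exact hcub.2
        · intro v
          rw [Module.End.mul_apply, Module.End.mul_apply, dl_apply, dl_apply, dl_apply, dl_apply]
          rfl
    · -- QR
      intro x hx
      exact Subgroup.mem_subgroupOf.mpr (hQR (Subgroup.mem_subgroupOf.mp hx))
    · -- four
      obtain ⟨h4, hsq, hcj, q, hq, hne⟩ := hQ
      refine ⟨?_, ?_, ?_, ?_⟩
      · have : Nat.card ↥Q' = Nat.card ↥Q :=
          Nat.card_congr (Subgroup.subgroupOfEquivOfLe hQK).toEquiv
        rw [this]
        exact h4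
      · intro x hx
        apply Subtype.ext
        exact hsq x.1 (Subgroup.mem_subgroupOf.mp hx)
      · intro x hx
        exact Subgroup.mem_subgroupOf.mpr (hcj x.1 (Subgroup.mem_subgroupOf.mp hx))
      · refine ⟨⟨q, hQK hq⟩, Subgroup.mem_subgroupOf.mpr hq, ?_⟩
        intro h
        apply hne
        exact congrArg Subtype.val h
  have hconcl : Concl R' := hII ρ' R' Q' b' hcfg
  rcases hconcl with ⟨hel, hc4⟩ | ⟨hes, hc32, A', hA'R, hA'el, hA'8⟩
  · left
    refine ⟨⟨⟨⟨fun x y => ?_⟩⟩, fun a ha => ?_⟩, ?_⟩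
    · have h := hel.1.is_comm.comm ⟨⟨x.1, hRK x.2⟩, Subgroup.mem_subgroupOf.mpr x.2⟩
        ⟨⟨y.1, hRK y.2⟩, Subgroup.mem_subgroupOf.mpr y.2⟩
      apply Subtype.ext
      have h2 := congrArg (fun z : ↥R' => ((z : ↥K) : S)) h
      exact h2
    · have h := hel.2 ⟨a, hRK ha⟩ (Subgroup.mem_subgroupOf.mpr ha)
      exact congrArg Subtype.val h
    · rw [← hc4]
      exact (Nat.card_congr (Subgroup.subgroupOfEquivOfLe hRK).toEquiv).symm
  · right
    refine ⟨Cfsg.Agent.Helper63.isExtraspecial_of_mulEquiv (Subgroup.subgroupOfEquivOfLe hRK) hes,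
      ?_, A'.map K.subtype, ?_, ⟨⟨⟨fun x y => ?_⟩⟩, fun a ha => ?_⟩, ?_⟩
    · rw [← hc32]
      exact (Nat.card_congr (Subgroup.subgroupOfEquivOfLe hRK).toEquiv).symm
    · rintro _ ⟨x', hx', rfl⟩
      exact Subgroup.mem_subgroupOf.mp (hA'R hx')
    · obtain ⟨x', hx', hxx⟩ := x.2
      obtain ⟨y', hy', hyy⟩ := y.2
      have h := hA'el.1.is_comm.comm ⟨x', hx'⟩ ⟨y', hy'⟩
      have h2 := congrArg (fun z : ↥A' => ((z : ↥K) : S)) h
      apply Subtype.ext
      simp only [Subgroup.coe_mul] at h2 ⊢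
      rw [← hxx, ← hyy]
      exact h2
    · obtain ⟨a', ha', rfl⟩ := ha
      have h := hA'el.2 a' ha'
      have h2 := congrArg Subtype.val h
      simpa using h2
    · rw [← hA'8]
      exact Subgroup.card_map_of_injective K.subtype_injective

end Cfsg.Agent.Helper51.C3
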