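import Cfsg.Agent.Lib.Helper51.CTCount2

/-!
# Counting in finite groups whose non-central centralizers are abelian, III:
the number of Sylow subgroups
-/

set_option autoImplicit false
set_option linter.unusedSectionVars false
set_option linter.style.haveILetI false

namespace Cfsg.Agent.Helper51.CT

variable {G : Type*} [Group G] [Finite G] {p : ℕ} [Fact p.Prime] {Z : Subgroup G}

/-- the other Sylow subgroups, as a sub-action of `U` -/
def otherSylows (U : Sylow p G) : SubMulAction ↥(U : Subgroup G) (Sylow p G) where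
  carrier := {P | P ≠ U}
  smul_mem' := by
    intro u P hP hPU
    apply hP
    have h1 : (u : G) • P = U := hPU
    have h2 : (u : G) • U = U := Sylow.smul_eq_of_normal_or_mem u.2
    have h3 : (u : G)⁻¹ • ((u : G) • P) = (u : G)⁻¹ • ((u : G) • U) := by rw [h1, h2]
    simpa using h3
where
  Sylow.smul_eq_of_normal_or_mem {u : G} (hu : u ∈ (U : Subgroup G)) : u • U = U :=
    Sylow.smul_eq_iff_mem_normalizer.mpr (Subgroup.le_normalizer hu)

theorem Hyp.card_sylow_modEq (h : Hyp p Z) (U : Sylow p G) :
    Nat.card (U : Subgroup G) ∣ Nat.card (Sylow p G) - 1 := by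
  have hfree : ∀ b : ↥(otherSylows U), MulAction.stabilizer ↥(U : Subgroup G) b = ⊥ := by
    rintro ⟨P, hP⟩
    rw [eq_bot_iff]
    rintro ⟨u, hu⟩ hstab
    rw [Subgroup.mem_bot]
    apply Subtype.ext
    show u = 1
    by_contra hu1
    have h1 : (⟨u, hu⟩ : ↥(U : Subgroup G)) • (⟨P, hP⟩ : ↥(otherSylows U)) = ⟨P, hP⟩ := hstab
    have h2 : u • P = P := by
      have := congrArg Subtype.val h1
      exact this
    have h3 : u ∈ Subgroup.normalizer ((P : Subgroup G) : Set G) :=
      Sylow.smul_eq_iff_mem_normalizer.mp h2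
    have h4 : (U : Subgroup G) ⊓ Subgroup.normalizer ((P : Subgroup G) : Set G) =
        (U : Subgroup G) ⊓ (P : Subgroup G) := U.isPGroup'.inf_normalizer_sylow P
    have h5 : u ∈ (U : Subgroup G) ⊓ (P : Subgroup G) := by rw [← h4]; exact ⟨hu, h3⟩
    exact hP (h.sylow_TI U P h5.1 h5.2 hu1).symm
  have hdvd := Cfsg.Agent.S4208.card_dvd_of_free' hfree
  have hcard : Nat.card (Sylow p G) = Nat.card ↥(otherSylows U) + 1 := by
    classical
    have e : ↥(otherSylows U) ≃ {P : Sylow p G // P ≠ U} := Equiv.refl _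
    rw [Nat.card_congr e]
    haveI : Fintype (Sylow p G) := Fintype.ofFinite _
    rw [Nat.card_eq_fintype_card, Nat.card_eq_fintype_card, Fintype.card_subtype_compl,
      Fintype.card_subtype_eq]
    have hpos : 0 < Fintype.card (Sylow p G) := Fintype.card_pos
    omega
  rw [hcard, Nat.add_sub_cancel]
  exact hdvd

end Cfsg.Agent.Helper51.CT
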