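import Mathlib
import Cfsg.Agent.Lib.Helper41.SL2Tori
import Cfsg.Agent.S1349

/-!
# Dihedral subgroups of `PSL₂(F)` from elements of given order

* `lucasU t` : the Lucas sequence with `A ^ (k+1) = U (k+1) • A - U k • 1` for `det A = 1`, `tr A = t`;
* `orderOf_mk_eq_of_trace_eq` : the projective order of a non-scalar `A ∈ SL₂(F)` depends only on its trace;
* `exists_symm` : a symmetric matrix of determinant one with prescribed trace (finite field);
* `exists_inverting` : every `g ∈ PSL₂(F)` with `¬ orderOf g ∣ p` has a twin `l` of the same order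
  inverted by an involution;
* `exists_dihedral` : a subgroup isomorphic to `DihedralGroup (orderOf g)`.
-/

set_option autoImplicit false
set_option linter.unusedSectionVars false
set_option linter.unusedVariables false
set_option linter.style.haveILetI false

namespace Cfsg.Agent.Helper51.PSLDih

open Matrix

variable {F : Type*} [Field F]

/-- the Lucas sequence of the first kind (with `Q = 1`) -/
def lucasU (t : F) : ℕ → F
  | 0 => 0
  | 1 => 1
  | (k + 2) => t * lucasU t (k + 1) - lucasU t k

theorem lucasU_zero (t : F) : lucasU t 0 = 0 := rfl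
theorem lucasU_one (t : F) : lucasU t 1 = 1 := rfl
theorem lucasU_add_two (t : F) (k : ℕ) :
    lucasU t (k + 2) = t * lucasU t (k + 1) - lucasU t k := rfl

theorem pow_succ_eq_lucas (A : Matrix (Fin 2) (Fin 2) F) (hdet : A.det = 1) (k : ℕ) :
    A ^ (k + 1) = lucasU A.trace (k + 1) • A - lucasU A.trace k • (1 : Matrix (Fin 2) (Fin 2) F) := by
  have hCH := Cfsg.Agent.Helper41.sq_eq_of_det_one A hdet
  induction k with
  | zero => simp [lucasU_zero, lucasU_one]
  | succ k ih =>
    rw [pow_succ, ih, lucasU_add_two, sub_mul, smul_mul_assoc, smul_mul_assoc, one_mul, ← sq, hCH]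
    rw [smul_sub, smul_smul, sub_smul, mul_comm A.trace]
    abel

/-- non-scalar matrices -/
def NonScalar (A : Matrix (Fin 2) (Fin 2) F) : Prop :=
  A 0 1 ≠ 0 ∨ A 1 0 ≠ 0 ∨ A 0 0 ≠ A 1 1

theorem pow_succ_eq_pm_one_iff (A : Matrix (Fin 2) (Fin 2) F) (hdet : A.det = 1)
    (hA : NonScalar A) (k : ℕ) :
    (A ^ (k + 1) = 1 ∨ A ^ (k + 1) = -1) ↔
      (lucasU A.trace (k + 1) = 0 ∧ (lucasU A.trace k = -1 ∨ lucasU A.trace k = 1)) := by
  rw [pow_succ_eq_lucas A hdet k]
  set u := lucasU A.trace (k + 1)
  set v := lucasU A.trace k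
  have key : ∀ ε : F, u • A - v • (1 : Matrix (Fin 2) (Fin 2) F) = ε • 1 → u = 0 ∧ v = -ε := by
    intro ε h
    have h01 := congrFun (congrFun h 0) 1
    have h10 := congrFun (congrFun h 1) 0
    have h00 := congrFun (congrFun h 0) 0
    have h11 := congrFun (congrFun h 1) 1
    simp at h01 h10 h00 h11
    have hu : u = 0 := by
      rcases hA with hA | hA | hA
      · rcases h01 with h | h
        · exact h
        · exact absurd h hA
      · rcases h10 with h | h
        · exact h
        · exact absurd h hA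
      · have : u * (A 0 0 - A 1 1) = 0 := by linear_combination h00 - h11
        rcases mul_eq_zero.mp this with h | h
        · exact h
        · exact absurd (sub_eq_zero.mp h) hA
    refine ⟨hu, ?_⟩
    rw [hu] at h00
    linear_combination -h00
  constructor
  · rintro (h | h)
    · have := key 1 (by rw [h, one_smul])
      exact ⟨this.1, Or.inl this.2⟩
    · have := key (-1) (by rw [h, neg_smul, one_smul])
      exact ⟨this.1, Or.inr (by rw [this.2, neg_neg])⟩
  · rintro ⟨hu, hv | hv⟩
    · left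
      rw [hu, hv, zero_smul, zero_sub, neg_smul, one_smul, neg_neg]
    · right
      rw [hu, hv, zero_smul, zero_sub, one_smul]

/-- the projective order of a non-scalar element of `SL₂(F)` depends only on its trace -/
theorem orderOf_mk_eq_of_trace_eq (A B : SpecialLinearGroup (Fin 2) F)
    (hA : NonScalar (A : Matrix (Fin 2) (Fin 2) F)) (hB : NonScalar (B : Matrix (Fin 2) (Fin 2) F))
    (ht : (A : Matrix (Fin 2) (Fin 2) F).trace = (B : Matrix (Fin 2) (Fin 2) F).trace) :
    orderOf (QuotientGroup.mk A : ProjectiveSpecialLinearGroup (Fin 2) F) =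
      orderOf (QuotientGroup.mk B : ProjectiveSpecialLinearGroup (Fin 2) F) := by
  rw [orderOf_eq_orderOf_iff]
  intro n
  rcases n with _ | k
  · simp
  · rw [Cfsg.Agent.Helper41.psl2_mk_pow_eq_one_iff, Cfsg.Agent.Helper41.psl2_mk_pow_eq_one_iff,
      pow_succ_eq_pm_one_iff _ A.2 hA, pow_succ_eq_pm_one_iff _ B.2 hB, ht]

/-- over a finite field there is a symmetric matrix of determinant one with any given trace -/
theorem exists_symm [Fintype F] (t : F) : ∃ a b : F, a * (t - a) - b * b = 1 := by
  classical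
  by_cases h2 : Fintype.card F % 2 = 1
  · let f : Polynomial F := Polynomial.C 1 * Polynomial.X ^ 2 + Polynomial.C (-t) * Polynomial.X +
      Polynomial.C 1
    let g : Polynomial F := Polynomial.C 1 * Polynomial.X ^ 2 + Polynomial.C 0 * Polynomial.X +
      Polynomial.C 0
    have hf : f.degree = 2 := Polynomial.degree_quadratic one_ne_zero
    have hg : g.degree = 2 := Polynomial.degree_quadratic one_ne_zero
    obtain ⟨a, b, hab⟩ := FiniteField.exists_root_sum_quadratic hf hg h2
    refine ⟨a, b, ?_⟩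
    simp only [f, g, Polynomial.eval_add, Polynomial.eval_mul, Polynomial.eval_C, Polynomial.eval_pow,
      Polynomial.eval_X] at hab
    linear_combination -hab
  · have h0 : Fintype.card F % 2 = 0 := by omega
    haveI : CharP F 2 := by
      obtain ⟨p, hp⟩ := CharP.exists F
      haveI := hp
      haveI : Fact p.Prime := ⟨CharP.char_is_prime F p⟩
      obtain ⟨n, hpp, hn⟩ := FiniteField.card F p
      have h2q : 2 ∣ p ^ (n : ℕ) := by rw [← hn]; exact Nat.dvd_of_mod_eq_zero h0
      have := Nat.Prime.dvd_of_dvd_pow Nat.prime_two h2q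
      have hp2 : p = 2 := ((Nat.prime_dvd_prime_iff_eq Nat.prime_two hpp).mp this).symm
      rw [hp2] at hp
      exact hp
    refine ⟨0, 1, ?_⟩
    rw [zero_mul, zero_sub, mul_one]
    exact CharTwo.neg_eq 1

/-- the Weyl element -/
def weylJ : SpecialLinearGroup (Fin 2) F := ⟨!![0, 1; -1, 0], by simp [det_fin_two]⟩

/-- the symmetric element -/
def symmSL (a b c : F) (h : a * c - b * b = 1) : SpecialLinearGroup (Fin 2) F :=
  ⟨!![a, b; b, c], by rw [det_fin_two_of]; exact h⟩

theorem weylJ_conj_symm (a b c : F) (h : a * c - b * b = 1) :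
    weylJ * symmSL a b c h * weylJ⁻¹ = (symmSL a b c h)⁻¹ := by
  ext i j
  rw [Matrix.SpecialLinearGroup.coe_mul, Matrix.SpecialLinearGroup.coe_mul,
    Matrix.SpecialLinearGroup.coe_inv, Matrix.SpecialLinearGroup.coe_inv,
    Matrix.adjugate_fin_two, Matrix.adjugate_fin_two]
  fin_cases i <;> fin_cases j <;> simp [weylJ, symmSL, Matrix.mul_apply, Fin.sum_univ_two]

theorem mk_weylJ_sq :
    (QuotientGroup.mk (weylJ : SpecialLinearGroup (Fin 2) F) :
      ProjectiveSpecialLinearGroup (Fin 2) F) ^ 2 = 1 := by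
  rw [Cfsg.Agent.Helper41.psl2_mk_pow_eq_one_iff]
  right
  ext i j
  simp only [weylJ, sq]
  fin_cases i <;> fin_cases j <;> simp [Matrix.mul_apply, Fin.sum_univ_two]

section finite

variable [Fintype F] (p : ℕ) [Fact p.Prime] [CharP F p]

theorem trace_sq_ne_four_of_not_dvd (A : SpecialLinearGroup (Fin 2) F)
    (hp : ¬ orderOf (QuotientGroup.mk A : ProjectiveSpecialLinearGroup (Fin 2) F) ∣ p) :
    (A : Matrix (Fin 2) (Fin 2) F).trace ^ 2 ≠ 4 := by
  intro ht
  apply hp
  exact orderOf_dvd_of_pow_eq_one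
    ((Cfsg.Agent.Helper41.psl2_mk_pow_eq_one_iff A p).mpr
      (Cfsg.Agent.Helper41.unipotent_pow p _ A.2 ht))

theorem nonScalar_of_trace_sq_ne_four (A : SpecialLinearGroup (Fin 2) F)
    (ht : (A : Matrix (Fin 2) (Fin 2) F).trace ^ 2 ≠ 4) :
    NonScalar (A : Matrix (Fin 2) (Fin 2) F) := by
  by_contra hns
  unfold NonScalar at hns
  push Not at hns
  obtain ⟨h01, h10, h00⟩ := hns
  apply ht
  have hdet := A.2
  rw [det_fin_two, h01, h10, mul_zero, sub_zero, ← h00] at hdet
  rw [trace_fin_two, ← h00]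
  linear_combination 4 * hdet

/-- every element `g` of `PSL₂(F)` whose order does not divide `p` has a twin of the same order
inverted by an involution -/
theorem exists_inverting (g : ProjectiveSpecialLinearGroup (Fin 2) F) (hp : ¬ orderOf g ∣ p) :
    ∃ b l : ProjectiveSpecialLinearGroup (Fin 2) F,
      b ^ 2 = 1 ∧ b * l * b⁻¹ = l⁻¹ ∧ orderOf l = orderOf g := by
  obtain ⟨A, rfl⟩ := Cfsg.Agent.Helper41.psl2_exists_rep g
  have ht := trace_sq_ne_four_of_not_dvd p A hp
  have hA := nonScalar_of_trace_sq_ne_four A ht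
  obtain ⟨a, b, hab⟩ := exists_symm (A : Matrix (Fin 2) (Fin 2) F).trace
  set t := (A : Matrix (Fin 2) (Fin 2) F).trace with htdef
  have htr : ((symmSL a b (t - a) hab : SpecialLinearGroup (Fin 2) F) :
      Matrix (Fin 2) (Fin 2) F).trace = t := by
    simp [symmSL, trace_fin_two]
  have hB : NonScalar ((symmSL a b (t - a) hab : SpecialLinearGroup (Fin 2) F) :
      Matrix (Fin 2) (Fin 2) F) := by
    apply nonScalar_of_trace_sq_ne_four
    rw [htr]
    exact ht
  refine ⟨QuotientGroup.mk weylJ, QuotientGroup.mk (symmSL a b (t - a) hab), mk_weylJ_sq, ?_, ?_⟩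
  · rw [← QuotientGroup.mk_inv, ← QuotientGroup.mk_mul, ← QuotientGroup.mk_mul, weylJ_conj_symm,
      QuotientGroup.mk_inv]
  · exact orderOf_mk_eq_of_trace_eq _ _ hB hA htr

/-- a dihedral subgroup of order `2 * orderOf g` -/
theorem exists_dihedral (g : ProjectiveSpecialLinearGroup (Fin 2) F) (hp : ¬ orderOf g ∣ p)
    (h3 : 3 ≤ orderOf g) :
    ∃ H : Subgroup (ProjectiveSpecialLinearGroup (Fin 2) F),
      Nonempty (H ≃* DihedralGroup (orderOf g)) := by
  obtain ⟨b, l, hb, hinv, hl⟩ := exists_inverting p g hp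
  have hl2 : l ^ 2 ≠ 1 := by
    intro h
    have := Nat.le_of_dvd (by norm_num) (orderOf_dvd_of_pow_eq_one h)
    omega
  have := Cfsg.Agent.S1349.dihedral_of_inverts hb hl2 hinv
  rw [hl] at this
  exact ⟨_, this⟩

end finite

end Cfsg.Agent.Helper51.PSLDih
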