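import Mathlib

/-!
# Element orders in `PGL₂(K)`

`orderOf_pgl2_le` : every element of `PGL₂(K)`, `K` a finite field, has order at most `|K| + 1`.
The powers of `g ∈ GL₂(K)` lie in the span of `1, g` (Cayley–Hamilton), whose projectivization
has `|K| + 1` points; pigeonhole.
-/

set_option autoImplicit false
set_option linter.unusedSectionVars false
set_option linter.unusedVariables false
set_option linter.style.haveILetI false

namespace Cfsg.Agent.Helper51.PGLOrder

open Matrix

variable {K : Type*} [Field K]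

/-- coefficients of `M ^ i = a_i • M + b_i • 1` -/
def coeffs (t δ : K) : ℕ → K × K
  | 0 => (0, 1)
  | (i + 1) => (t * (coeffs t δ i).1 + (coeffs t δ i).2, -δ * (coeffs t δ i).1)

theorem pow_eq_coeffs (M : Matrix (Fin 2) (Fin 2) K) (i : ℕ) :
    M ^ i = (coeffs M.trace M.det i).1 • M + (coeffs M.trace M.det i).2 • (1 : Matrix (Fin 2) (Fin 2) K) := by
  have hCH : M * M = M.trace • M - M.det • (1 : Matrix (Fin 2) (Fin 2) K) := by
    have h1 := Matrix.aeval_self_charpoly M
    rw [Matrix.charpoly_fin_two] at h1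
    simp only [map_add, map_sub, map_mul, map_pow, Polynomial.aeval_X, Polynomial.aeval_C] at h1
    rw [Algebra.smul_def, Algebra.smul_def, mul_one, eq_sub_iff_add_eq, ← sub_eq_zero, ← h1, sq]
    abel
  induction i with
  | zero => simp [coeffs]
  | succ i ih =>
    rw [pow_succ, ih]
    simp only [coeffs]
    rw [add_mul, smul_mul_assoc, smul_mul_assoc, one_mul, hCH, smul_sub, smul_smul, smul_smul,
      add_smul, neg_mul, neg_smul, mul_comm M.trace, mul_comm M.det]
    abel

/-- the slope of a vector -/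
noncomputable def slope (v : K × K) : Option K := by
  classical
  exact if v.2 = 0 then none else some (v.1 / v.2)

theorem exists_smul_of_slope_eq (v w : K × K) (hv : v ≠ 0) (hw : w ≠ 0) (h : slope v = slope w) :
    ∃ c : K, c ≠ 0 ∧ w = (c * v.1, c * v.2) := by
  classical
  obtain ⟨a, b⟩ := v
  obtain ⟨a', b'⟩ := w
  unfold slope at h
  simp only at h
  by_cases hb : b = 0
  · by_cases hb' : b' = 0
    · subst hb hb'
      have ha : a ≠ 0 := by
        intro h0; apply hv; rw [h0]; rfl
      have ha' : a' ≠ 0 := by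
        intro h0; apply hw; rw [h0]; rfl
      refine ⟨a' / a, div_ne_zero ha' ha, ?_⟩
      simp only [mul_zero]
      rw [div_mul_cancel₀ _ ha]
    · rw [if_pos hb, if_neg hb'] at h
      exact absurd h (by simp)
  · by_cases hb' : b' = 0
    · rw [if_neg hb, if_pos hb'] at h
      exact absurd h (by simp)
    · rw [if_neg hb, if_neg hb'] at h
      have h' : a / b = a' / b' := Option.some_injective _ h
      refine ⟨b' / b, div_ne_zero hb' hb, ?_⟩
      rw [div_mul_cancel₀ _ hb]
      congr 1
      field_simp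
      field_simp at h'
      linear_combination -h'

variable [Fintype K]

/-- for `g ∈ GL₂(K)` some power `g ^ k`, `1 ≤ k ≤ |K| + 1`, is scalar -/
theorem exists_pow_scalar (g : GL (Fin 2) K) :
    ∃ k : ℕ, 1 ≤ k ∧ k ≤ Fintype.card K + 1 ∧ ∃ u : Kˣ, g ^ k = Matrix.GeneralLinearGroup.scalar (Fin 2) u := by
  classical
  set M : Matrix (Fin 2) (Fin 2) K := (g : Matrix (Fin 2) (Fin 2) K) with hM
  have hcoe : ∀ i : ℕ, ((g ^ i : GL (Fin 2) K) : Matrix (Fin 2) (Fin 2) K) = M ^ i := by
    intro i
    rw [hM]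
    exact Units.val_pow_eq_pow_val g i
  have hne : ∀ i : ℕ, coeffs M.trace M.det i ≠ 0 := by
    intro i h0
    have h1 := pow_eq_coeffs M i
    rw [h0] at h1
    simp only [Prod.fst_zero, Prod.snd_zero, zero_smul, add_zero] at h1
    have h2 : ((g ^ i : GL (Fin 2) K) : Matrix (Fin 2) (Fin 2) K) = 0 := by rw [hcoe, h1]
    have h3 := (g ^ i).isUnit
    have h4 : IsUnit ((g ^ i : GL (Fin 2) K) : Matrix (Fin 2) (Fin 2) K) := (g ^ i).isUnit
    rw [h2] at h4
    exact not_isUnit_zero h4
  -- pigeonhole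
  let f : Fin (Fintype.card K + 2) → Option K := fun i => slope (coeffs M.trace M.det i)
  have hcard : Fintype.card (Option K) < Fintype.card (Fin (Fintype.card K + 2)) := by
    rw [Fintype.card_option, Fintype.card_fin]; omega
  obtain ⟨x, y, hxy, hf⟩ := Fintype.exists_ne_map_eq_of_card_lt f hcard
  -- wlog x < y
  have main : ∀ x y : Fin (Fintype.card K + 2), x < y → f x = f y →
      ∃ k : ℕ, 1 ≤ k ∧ k ≤ Fintype.card K + 1 ∧
        ∃ u : Kˣ, g ^ k = Matrix.GeneralLinearGroup.scalar (Fin 2) u := by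
    intro x y hlt hf
    obtain ⟨c, hc0, hc⟩ := exists_smul_of_slope_eq _ _ (hne x) (hne y) hf
    have hlt' : (x : ℕ) < (y : ℕ) := hlt
    refine ⟨(y : ℕ) - (x : ℕ), by omega, by have := y.2; omega, Units.mk0 c hc0, ?_⟩
    have hpow : M ^ (y : ℕ) = c • M ^ (x : ℕ) := by
      rw [pow_eq_coeffs M y, pow_eq_coeffs M x, hc]
      simp only [smul_add, smul_smul]
    have hg : g ^ (y : ℕ) = Matrix.GeneralLinearGroup.scalar (Fin 2) (Units.mk0 c hc0) * g ^ (x : ℕ) := by
      apply Units.ext
      rw [Units.val_mul, hcoe, hcoe, hpow]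
      simp [Matrix.GeneralLinearGroup.scalar, Matrix.smul_eq_diagonal_mul]
    have hsplit : g ^ (y : ℕ) = g ^ ((y : ℕ) - (x : ℕ)) * g ^ (x : ℕ) := by
      rw [← pow_add]; congr 1; omega
    rw [hsplit] at hg
    exact mul_right_cancel hg
  rcases lt_or_gt_of_ne hxy with h | h
  · exact main x y h hf
  · exact main y x h hf.symm

/-- **element orders in `PGL₂(K)`** are at most `|K| + 1` -/
theorem orderOf_pgl2_le (x : Matrix.ProjGenLinGroup (Fin 2) K) :
    orderOf x ≤ Fintype.card K + 1 := by
  obtain ⟨g, rfl⟩ := Matrix.ProjGenLinGroup.mk_surjective x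
  obtain ⟨k, hk1, hk2, u, hu⟩ := exists_pow_scalar g
  have h1 : (Matrix.ProjGenLinGroup.mk g) ^ k = 1 := by
    rw [← map_pow, hu, Matrix.ProjGenLinGroup.mk_scalar]
  exact (orderOf_le_of_pow_eq_one (by omega) h1).trans hk2

/-- element orders in `PSL₂(K)` are at most `|K| + 1` -/
theorem orderOf_psl2_le (x : Matrix.ProjectiveSpecialLinearGroup (Fin 2) K) :
    orderOf x ≤ Fintype.card K + 1 := by
  rw [← orderOf_injective _ Matrix.ProjectiveSpecialLinearGroup.toPGL_injective x]
  exact orderOf_pgl2_le _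

end Cfsg.Agent.Helper51.PGLOrder
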