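import Mathlib
import Cfsg.Agent.Lib.Helper41.DicksonUse3
import Cfsg.Agent.Lib.Helper51.PGLOrder

/-!
# Overgroups of a dihedral subgroup of `PSL₂(q)` via Dickson's list

`dickson_num` : for `H0 ≃* DihedralGroup n`, `3 ≤ n`, `H0 < M`, and `M` on Dickson's list, a numerical
disjunction describing `M`.
-/

set_option autoImplicit false
set_option linter.unusedSectionVars false
set_option linter.unusedVariables false
set_option linter.style.haveILetI false

namespace Cfsg.Agent.Helper51.PSLDih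

open Matrix Cfsg.Agent.Helper41

section small

set_option maxRecDepth 100000 in
theorem a4_inv_mul : ∀ a b : alternatingGroup (Fin 4),
    a * a = 1 → b * b = 1 → (a * b) * (a * b) = 1 := by
  decide

set_option maxRecDepth 100000 in
theorem s4_orders : ∀ x : Equiv.Perm (Fin 4), x ^ 2 = 1 ∨ x ^ 3 = 1 ∨ x ^ 4 = 1 := by
  decide

set_option maxRecDepth 100000 in
theorem a5_orders : ∀ x : alternatingGroup (Fin 5), x ^ 2 = 1 ∨ x ^ 3 = 1 ∨ x ^ 5 = 1 := by
  decide

end small

section general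

/-- the dihedral configuration seen inside any group isomorphic to an overgroup -/
theorem exists_in_iso {G X : Type*} [Group G] [Group X] {n : ℕ} {H0 M : Subgroup G}
    (e : H0 ≃* DihedralGroup n) (hle : H0 ≤ M) (f : M ≃* X) :
    ∃ y t0 t1 : X, orderOf y = n ∧ t0 ^ 2 = 1 ∧ t1 ^ 2 = 1 ∧ t0 * t1 = y := by
  let ι : DihedralGroup n →* X :=
    f.toMonoidHom.comp ((Subgroup.inclusion hle).comp e.symm.toMonoidHom)
  have hinj : Function.Injective ι := by
    intro a b hab
    have h1 : (Subgroup.inclusion hle) (e.symm a) = (Subgroup.inclusion hle) (e.symm b) :=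
      f.injective hab
    exact e.symm.injective (Subgroup.inclusion_injective hle h1)
  refine ⟨ι (DihedralGroup.r 1), ι (DihedralGroup.sr 0), ι (DihedralGroup.sr 1), ?_, ?_, ?_, ?_⟩
  · rw [orderOf_injective ι hinj, DihedralGroup.orderOf_r_one]
  · rw [← map_pow, sq, DihedralGroup.sr_mul_self, map_one]
  · rw [← map_pow, sq, DihedralGroup.sr_mul_self, map_one]
  · rw [← map_mul, DihedralGroup.sr_mul_sr, sub_zero]

/-- cardinalities -/
theorem card_facts {G : Type*} [Group G] [Finite G] {n : ℕ} {H0 M : Subgroup G}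
    (e : H0 ≃* DihedralGroup n) (hlt : H0 < M) :
    Nat.card H0 = 2 * n ∧ 2 * n ∣ Nat.card M ∧ 4 * n ≤ Nat.card M := by
  have h0 : Nat.card H0 = 2 * n := by rw [Nat.card_congr e.toEquiv, DihedralGroup.nat_card]
  have hdvd : Nat.card H0 ∣ Nat.card M := Subgroup.card_dvd_of_le hlt.le
  refine ⟨h0, h0 ▸ hdvd, ?_⟩
  obtain ⟨j, hj⟩ := hdvd
  have hMpos : 0 < Nat.card M := Nat.card_pos
  have hj0 : j ≠ 0 := by
    rintro rfl
    rw [mul_zero] at hj
    omega
  have hj1 : j ≠ 1 := by
    rintro rfl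
    rw [mul_one] at hj
    have := Subgroup.eq_of_le_of_card_ge hlt.le (le_of_eq hj)
    exact (ne_of_lt hlt) this
  have hj2 : 2 ≤ j := by omega
  rw [hj, h0]
  calc 4 * n = 2 * n * 2 := by ring
    _ ≤ 2 * n * j := Nat.mul_le_mul_left _ hj2

/-- `p`-elements of the normalizer of a Sylow `p`-subgroup lie in it -/
theorem mem_sylow_of_mem_normalizer {G : Type*} [Group G] {p : ℕ} [Fact p.Prime] (P : Sylow p G)
    (y : G) (hy : y ∈ Subgroup.normalizer ((P : Subgroup G) : Set G)) (k : ℕ)
    (hpow : y ^ (p ^ k) = 1) : y ∈ (P : Subgroup G) := by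
  have hz : IsPGroup p (Subgroup.zpowers y) := by
    have h1 : orderOf y ∣ p ^ k := orderOf_dvd_of_pow_eq_one hpow
    obtain ⟨j, -, hj⟩ := (Nat.dvd_prime_pow (Fact.out : p.Prime)).mp h1
    apply IsPGroup.of_card (n := j)
    rw [Nat.card_zpowers, hj]
  have hle : Subgroup.zpowers y ≤ Subgroup.normalizer ((P : Subgroup G) : Set G) :=
    Subgroup.zpowers_le.mpr hy
  have hsup : IsPGroup p (Subgroup.zpowers y ⊔ (P : Subgroup G) : Subgroup G) :=
    IsPGroup.to_sup_of_normal_right' hz P.2 hle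
  have := P.is_maximal' hsup le_sup_right
  have hy' : y ∈ Subgroup.zpowers y ⊔ (P : Subgroup G) :=
    (le_sup_left : Subgroup.zpowers y ≤ _) (Subgroup.mem_zpowers y)
  rw [this] at hy'
  exact hy'

end general

section main

variable {F : Type*} [Field F] [Fintype F]

theorem card_normalizer_sylow_eq (p : ℕ) [Fact p.Prime] [CharP F p]
    (P : Sylow p (ProjectiveSpecialLinearGroup (Fin 2) F)) :
    Nat.card (Subgroup.normalizer ((P : Subgroup (ProjectiveSpecialLinearGroup (Fin 2) F)) :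
      Set (ProjectiveSpecialLinearGroup (Fin 2) F))) = Nat.card (borelP F) := by
  have h1 := card_normalizer_sylow_mul p P
  have h2 := card_borelP_mul (F := F)
  rw [← h2] at h1
  exact Nat.eq_of_mul_eq_mul_right (by omega) h1

/-- the numerical form of Dickson's list for a proper overgroup of a dihedral subgroup -/
theorem dickson_num {q : ℕ} (hF : Fintype.card F = q) (p : ℕ) [Fact p.Prime] [CharP F p]
    {n : ℕ} (hn : 3 ≤ n) (H0 M : Subgroup (ProjectiveSpecialLinearGroup (Fin 2) F))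
    (e : H0 ≃* DihedralGroup n) (hlt : H0 < M) (hD : DicksonConcl q p M) :
    (∃ k, (k ∣ (q + 1) / Nat.gcd 2 (q - 1) ∨ k ∣ (q - 1) / Nat.gcd 2 (q - 1)) ∧
        Nat.card M ≤ 2 * k) ∨
    (Nat.card M ∣ Nat.card (borelP F) ∧ (p = 2 → ∃ k, n ∣ 2 ^ k)) ∨
    (Nat.card M = 24 ∧ (n = 3 ∨ n = 4)) ∨
    (Nat.card M = 60 ∧ (n = 3 ∨ n = 5)) ∨
    (∃ r m, 2 ≤ r ∧ r ^ m = q ∧ n ≤ r + 1 ∧ Nat.card M ≤ (r - 1) * r * (r + 1) ∧
        (m = 1 → M = ⊤)) := by
  classical
  have hle := hlt.le
  rcases hD with ⟨k, hk, hHk⟩ | ⟨P, K, hK, ⟨f⟩⟩ | ⟨⟨f⟩⟩ | ⟨⟨f⟩⟩ | ⟨⟨f⟩⟩ | ⟨K, _, _, m, hKm, hHK⟩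
  · -- cyclic or dihedral
    left
    refine ⟨k, hk, ?_⟩
    rcases hHk with ⟨-, h⟩ | ⟨⟨f⟩⟩
    · omega
    · rw [Nat.card_congr f.toEquiv, DihedralGroup.nat_card]
  · -- inside a Sylow normalizer
    right; left
    constructor
    · rw [Nat.card_congr f.toEquiv, ← card_normalizer_sylow_eq p P]
      exact Subgroup.card_dvd_of_le hK
    · intro hp2
      subst hp2
      obtain ⟨y, t0, t1, hy, ht0, ht1, hmul⟩ := exists_in_iso e hle f
      have hmem : ∀ t : K, t ^ 2 = 1 → (t : ProjectiveSpecialLinearGroup (Fin 2) F) ∈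
          (P : Subgroup (ProjectiveSpecialLinearGroup (Fin 2) F)) := by
        intro t ht
        apply mem_sylow_of_mem_normalizer P _ (hK t.2) 1
        rw [pow_one]
        have := congrArg (Subtype.val) ht
        simpa using this
      have hyP : (y : ProjectiveSpecialLinearGroup (Fin 2) F) ∈
          (P : Subgroup (ProjectiveSpecialLinearGroup (Fin 2) F)) := by
        rw [← hmul, Subgroup.coe_mul]
        exact Subgroup.mul_mem _ (hmem t0 ht0) (hmem t1 ht1)
      obtain ⟨k, hk⟩ := P.2 ⟨_, hyP⟩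
      refine ⟨k, ?_⟩
      rw [← hy, ← Subgroup.orderOf_coe]
      apply orderOf_dvd_of_pow_eq_one
      have := congrArg (Subtype.val) hk
      simpa using this
  · -- A₄
    exfalso
    obtain ⟨y, t0, t1, hy, ht0, ht1, hmul⟩ := exists_in_iso e hle f
    have h := a4_inv_mul t0 t1 (by rw [← sq]; exact ht0) (by rw [← sq]; exact ht1)
    rw [hmul, ← sq] at h
    have := Nat.le_of_dvd (by norm_num) (orderOf_dvd_of_pow_eq_one h)
    omega
  · -- S₄
    right; right; left
    refine ⟨by rw [Nat.card_congr f.toEquiv, card_perm_four], ?_⟩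
    obtain ⟨y, t0, t1, hy, ht0, ht1, hmul⟩ := exists_in_iso e hle f
    rcases s4_orders y with h | h | h
    · have := Nat.le_of_dvd (by norm_num) (orderOf_dvd_of_pow_eq_one h)
      omega
    · have h3 := orderOf_dvd_of_pow_eq_one h
      rw [hy] at h3
      have := (Nat.dvd_prime Nat.prime_three).mp h3
      omega
    · have h4 := orderOf_dvd_of_pow_eq_one h
      rw [hy] at h4
      have hle4 := Nat.le_of_dvd (by norm_num) h4
      have : n = 3 ∨ n = 4 := by omega
      rcases this with h | h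
      · left; exact h
      · right; exact h
  · -- A₅
    right; right; right; left
    refine ⟨by rw [Nat.card_congr f.toEquiv, card_alternatingGroup_five], ?_⟩
    obtain ⟨y, t0, t1, hy, ht0, ht1, hmul⟩ := exists_in_iso e hle f
    rcases a5_orders y with h | h | h
    · have := Nat.le_of_dvd (by norm_num) (orderOf_dvd_of_pow_eq_one h)
      omega
    · have h3 := orderOf_dvd_of_pow_eq_one h
      rw [hy] at h3
      have := (Nat.dvd_prime Nat.prime_three).mp h3
      omega
    · have h5 := orderOf_dvd_of_pow_eq_one h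
      rw [hy] at h5
      have := (Nat.dvd_prime Nat.prime_five).mp h5
      omega
  · -- subfield subgroups
    right; right; right; right
    have hk2 : 2 ≤ Fintype.card K := Fintype.one_lt_card
    refine ⟨Fintype.card K, m, hk2, hKm, ?_, ?_, ?_⟩
    · rcases hHK with ⟨⟨f⟩⟩ | ⟨⟨f⟩⟩
      · obtain ⟨y, t0, t1, hy, -⟩ := exists_in_iso e hle f
        rw [← hy]
        exact Cfsg.Agent.Helper51.PGLOrder.orderOf_psl2_le y
      · obtain ⟨y, t0, t1, hy, -⟩ := exists_in_iso e hle f
        rw [← hy]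
        exact Cfsg.Agent.Helper51.PGLOrder.orderOf_pgl2_le y
    · rw [← card_pgl2_eq K]
      rcases hHK with ⟨⟨f⟩⟩ | ⟨⟨f⟩⟩
      · rw [Nat.card_congr f.toEquiv]; exact card_psl2_le_card_pgl2 K
      · rw [Nat.card_congr f.toEquiv]
    · intro hm1
      subst hm1
      rw [pow_one] at hKm
      have hcardle : Nat.card M ≤ Nat.card (ProjectiveSpecialLinearGroup (Fin 2) F) :=
        Subgroup.card_le_card_group M
      rw [← Subgroup.card_eq_iff_eq_top]
      apply le_antisymm hcardle
      have hpsl : Nat.card (ProjectiveSpecialLinearGroup (Fin 2) K) =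
          Nat.card (ProjectiveSpecialLinearGroup (Fin 2) F) := by
        rcases Nat.even_or_odd q with he | ho
        · rw [Cfsg.Agent.Helper98.PSL2Card.card_psl2_even hKm he,
            Cfsg.Agent.Helper98.PSL2Card.card_psl2_even hF he]
        · have h1 := Cfsg.Agent.Helper98.PSL2Card.card_psl2_odd hKm ho
          have h2 := Cfsg.Agent.Helper98.PSL2Card.card_psl2_odd hF ho
          omega
      rcases hHK with ⟨⟨f⟩⟩ | ⟨⟨f⟩⟩
      · rw [Nat.card_congr f.toEquiv, hpsl]
      · rw [Nat.card_congr f.toEquiv, ← hpsl]; exact card_psl2_le_card_pgl2 K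

end main

end Cfsg.Agent.Helper51.PSLDih
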