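import Mathlib
import Cfsg.Agent.Lib.Helper51.PSLDihMax
import Cfsg.Agent.Lib.Helper51.PSLDih1

/-!
# Maximality of the dihedral subgroups of order `2 (q ± 1) / d` in `PSL₂(q)`, given Dickson's list
-/

set_option autoImplicit false
set_option linter.unusedSectionVars false
set_option linter.unusedVariables false
set_option linter.style.haveILetI false

namespace Cfsg.Agent.Helper51.PSLDih

open Matrix Cfsg.Agent.Helper41

variable {F : Type*} [Field F] [Fintype F]

theorem pow_two_le_of_two_le {r m : ℕ} (hr : 1 ≤ r) (hm : 2 ≤ m) : r * r ≤ r ^ m := by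
  rw [← sq]
  exact Nat.pow_le_pow_right hr hm

/-- `q + 1` does not divide `q (q - 1)` -/
theorem not_succ_dvd {q : ℕ} (hq : 2 ≤ q) : ¬ (q + 1) ∣ q * (q - 1) := by
  obtain ⟨s, rfl⟩ := Nat.exists_eq_add_of_le hq
  intro h
  have e : (2 + s) * (2 + s - 1) = (2 + s + 1) * s + 2 := by
    have : 2 + s - 1 = s + 1 := by omega
    rw [this]; ring
  rw [e] at h
  have h2 : (2 + s + 1) ∣ 2 := (Nat.dvd_add_right (dvd_mul_right _ _)).mp h
  have := Nat.le_of_dvd (by norm_num) h2
  omega

/-- **maximality of the dihedral group of order `2 (q + 1) / d`** -/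
theorem coatom_add_one {q : ℕ} (hF : Fintype.card F = q) (p : ℕ) [Fact p.Prime] [CharP F p]
    (hq4 : 4 ≤ q) (h7 : q ≠ 7) (h9 : q ≠ 9)
    (hDickson : ∀ M : Subgroup (ProjectiveSpecialLinearGroup (Fin 2) F), DicksonConcl q p M)
    (H0 : Subgroup (ProjectiveSpecialLinearGroup (Fin 2) F))
    (e : H0 ≃* DihedralGroup ((q + 1) / Nat.gcd 2 (q - 1))) : IsCoatom H0 := by
  obtain ⟨hd12, hdq1, hdq⟩ := gcd_two_cases q (by omega)
  have hB := gcd_mul_card_borelP (F := F) hF
  have hG := card_borelP_mul (F := F)
  rw [hF] at hG
  obtain ⟨d, hd⟩ : ∃ d : ℕ, d = Nat.gcd 2 (q - 1) := ⟨_, rfl⟩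
  rw [← hd] at hd12 hdq1 hdq hB e
  obtain ⟨n, hn⟩ : ∃ n : ℕ, n = (q + 1) / d := ⟨_, rfl⟩
  rw [← hn] at e
  have hnd : n * d = q + 1 := by rw [hn]; exact Nat.div_mul_cancel hdq
  have hn3 : 3 ≤ n := by
    rcases hd12 with h | h <;> rw [h] at hnd <;> omega
  obtain ⟨g, hg⟩ : ∃ g : ℕ, g = Nat.card (ProjectiveSpecialLinearGroup (Fin 2) F) := ⟨_, rfl⟩
  obtain ⟨b, hb⟩ : ∃ b : ℕ, b = Nat.card (borelP F) := ⟨_, rfl⟩
  rw [← hg, ← hb] at hG
  rw [← hb] at hB
  have hgn : g = q * (q - 1) * n := by
    have h1 : d * g = d * (q * (q - 1) * n) := by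
      calc d * g = d * b * (q + 1) := by rw [← hG]; ring
        _ = q * (q - 1) * (n * d) := by rw [hB, hnd]
        _ = d * (q * (q - 1) * n) := by ring
    exact Nat.eq_of_mul_eq_mul_left (by rcases hd12 with h | h <;> omega) h1
  have hqq : 12 ≤ q * (q - 1) := by
    calc 12 = 4 * 3 := by norm_num
      _ ≤ q * (q - 1) := Nat.mul_le_mul hq4 (by omega)
  constructor
  · intro htop
    have h1 : Nat.card H0 = g := by rw [htop, hg, Subgroup.card_top]
    rw [Nat.card_congr e.toEquiv, DihedralGroup.nat_card, hgn] at h1
    have : 12 * n ≤ q * (q - 1) * n := Nat.mul_le_mul_right n hqq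
    omega
  · intro M hlt
    by_contra hne
    obtain ⟨h0, hdvd, h4n⟩ := card_facts e hlt
    have hMdvd : Nat.card M ∣ g := by rw [hg]; exact Subgroup.card_subgroup_dvd_card M
    have htop_of_card : Nat.card M = g → False := by
      intro h
      apply hne
      rw [← Subgroup.card_eq_iff_eq_top, h, hg]
    rcases dickson_num hF p hn3 H0 M e hlt (hDickson M) with
      ⟨k, hk, hMk⟩ | ⟨hMb, -⟩ | ⟨hM, hn'⟩ | ⟨hM, hn'⟩ | ⟨r, m, hr2, hrm, hnr, hMr, hm1⟩
    · -- cyclic / dihedral
      rw [← hd, ← hn] at hk
      have hkn : k ≤ n := by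
        rcases hk with h | h
        · exact Nat.le_of_dvd (by omega) h
        · have hpos : 0 < (q - 1) / d := Nat.div_pos (by rcases hd12 with h | h <;> omega)
            (by rcases hd12 with h | h <;> omega)
          have h1 := Nat.le_of_dvd hpos h
          have h2 : (q - 1) / d ≤ (q + 1) / d := Nat.div_le_div_right (by omega)
          omega
      omega
    · -- Borel
      rw [← hb] at hMb
      have h1 : 2 * n ∣ b := hdvd.trans hMb
      have h2 : 2 * n * d ∣ b * d := Nat.mul_dvd_mul_right h1 d
      have h3 : b * d = q * (q - 1) := by rw [mul_comm]; exact hB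
      rw [h3, mul_assoc, hnd] at h2
      exact not_succ_dvd (by omega) ((dvd_mul_left _ _).trans h2)
    · -- S₄
      rw [hM] at hMdvd
      rcases hn' with h | h
      · rw [h] at hnd
        rcases hd12 with h' | h'
        · rw [h'] at hnd; omega
        · rw [h'] at hnd
          have hq5 : q = 5 := by omega
          rw [hgn, hq5, h] at hMdvd
          omega
      · rw [h] at hnd
        rcases hd12 with h' | h' <;> rw [h'] at hnd <;> omega
    · -- A₅
      rcases hn' with h | h
      · rw [h] at hnd
        rcases hd12 with h' | h'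
        · rw [h'] at hnd; omega
        · rw [h'] at hnd
          have hq5 : q = 5 := by omega
          apply htop_of_card
          rw [hM, hgn, hq5, h]
      · rw [h] at hnd
        rcases hd12 with h' | h'
        · rw [h'] at hnd
          have hq4' : q = 4 := by omega
          apply htop_of_card
          rw [hM, hgn, hq4', h]
        · rw [h'] at hnd; omega
    · -- subfield subgroups
      rcases Nat.lt_or_ge m 2 with hm | hm
      · have hm' : m = 0 ∨ m = 1 := by omega
        rcases hm' with rfl | rfl
        · rw [pow_zero] at hrm; omega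
        · exact hne (hm1 rfl)
      · have hrr : r * r ≤ q := by rw [← hrm]; exact pow_two_le_of_two_le (by omega) hm
        have hq2r : q + 1 ≤ (r + 1) * 2 := by
          rw [← hnd]
          exact Nat.mul_le_mul hnr (by rcases hd12 with h | h <;> omega)
        have hr : r = 2 := by
          by_contra hr
          have hr3 : 3 ≤ r := by omega
          have : 3 * r ≤ r * r := Nat.mul_le_mul_right r hr3
          omega
        subst hr
        have hm3 : m < 3 := by
          by_contra h
          push Not at h
          have : 2 ^ 3 ≤ 2 ^ m := Nat.pow_le_pow_right (by norm_num) h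
          omega
        have hm2 : m = 2 := by omega
        subst hm2
        have hq4' : q = 4 := by rw [← hrm]; norm_num
        subst hq4'
        have hd1 : d = 1 := by rw [hd]; decide
        rw [hd1] at hnd
        omega

/-- **maximality of the dihedral group of order `2 (q - 1) / d`** -/
theorem coatom_sub_one {q : ℕ} (hF : Fintype.card F = q) (p : ℕ) [Fact p.Prime] [CharP F p]
    (hq : q ∉ ({2, 3, 5, 7, 9, 11} : Finset ℕ))
    (hDickson : ∀ M : Subgroup (ProjectiveSpecialLinearGroup (Fin 2) F), DicksonConcl q p M)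
    (H0 : Subgroup (ProjectiveSpecialLinearGroup (Fin 2) F))
    (e : H0 ≃* DihedralGroup ((q - 1) / Nat.gcd 2 (q - 1))) : IsCoatom H0 := by
  have hq2 : 2 ≤ q := by rw [← hF]; exact Fintype.one_lt_card
  simp only [Finset.mem_insert, Finset.mem_singleton, not_or] at hq
  obtain ⟨h2, h3, h5, h7, h9, h11⟩ := hq
  have hq4 : 4 ≤ q := by omega
  obtain ⟨hd12, hdq1, hdq⟩ := gcd_two_cases q (by omega)
  have hB := gcd_mul_card_borelP (F := F) hF
  have hG := card_borelP_mul (F := F)
  rw [hF] at hG
  obtain ⟨d, hd⟩ : ∃ d : ℕ, d = Nat.gcd 2 (q - 1) := ⟨_, rfl⟩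
  rw [← hd] at hd12 hdq1 hdq hB e
  obtain ⟨n, hn⟩ : ∃ n : ℕ, n = (q - 1) / d := ⟨_, rfl⟩
  rw [← hn] at e
  have hnd : n * d = q - 1 := by rw [hn]; exact Nat.div_mul_cancel hdq1
  have hn3 : 3 ≤ n := by
    rcases hd12 with h | h <;> rw [h] at hnd <;> omega
  obtain ⟨g, hg⟩ : ∃ g : ℕ, g = Nat.card (ProjectiveSpecialLinearGroup (Fin 2) F) := ⟨_, rfl⟩
  obtain ⟨b, hb⟩ : ∃ b : ℕ, b = Nat.card (borelP F) := ⟨_, rfl⟩
  rw [← hg, ← hb] at hG
  rw [← hb] at hB
  have hd0 : 0 < d := by rcases hd12 with h | h <;> omega
  have hbn : b = q * n := by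
    have h1 : d * b = d * (q * n) := by
      rw [hB, ← hnd]; ring
    exact Nat.eq_of_mul_eq_mul_left hd0 h1
  have hgn : g = q * (q + 1) * n := by
    rw [← hG, hbn]; ring
  have hqq : 20 ≤ q * (q + 1) := by
    calc 20 = 4 * 5 := by norm_num
      _ ≤ q * (q + 1) := Nat.mul_le_mul hq4 (by omega)
  constructor
  · intro htop
    have h1 : Nat.card H0 = g := by rw [htop, hg, Subgroup.card_top]
    rw [Nat.card_congr e.toEquiv, DihedralGroup.nat_card, hgn] at h1
    have : 20 * n ≤ q * (q + 1) * n := Nat.mul_le_mul_right n hqq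
    omega
  · intro M hlt
    by_contra hne
    obtain ⟨h0, hdvd, h4n⟩ := card_facts e hlt
    have hMdvd : Nat.card M ∣ g := by rw [hg]; exact Subgroup.card_subgroup_dvd_card M
    have htop_of_card : Nat.card M = g → False := by
      intro h
      apply hne
      rw [← Subgroup.card_eq_iff_eq_top, h, hg]
    rcases dickson_num hF p hn3 H0 M e hlt (hDickson M) with
      ⟨k, hk, hMk⟩ | ⟨hMb, hp2⟩ | ⟨hM, hn'⟩ | ⟨hM, hn'⟩ | ⟨r, m, hr2, hrm, hnr, hMr, hm1⟩
    · -- cyclic / dihedral
      rw [← hd] at hk
      have hkn : k ≤ (q + 1) / d := by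
        rcases hk with h | h
        · exact Nat.le_of_dvd (Nat.div_pos (by rcases hd12 with h | h <;> omega) hd0) h
        · have hpos : 0 < (q - 1) / d := Nat.div_pos (by rcases hd12 with h | h <;> omega) hd0
          have h1 := Nat.le_of_dvd hpos h
          have h2 : (q - 1) / d ≤ (q + 1) / d := Nat.div_le_div_right (by omega)
          omega
      rcases hd12 with h | h
      · rw [h] at hkn hnd
        rw [Nat.div_one] at hkn
        omega
      · rw [h] at hkn hnd
        omega
    · -- Borel
      rw [← hb, hbn] at hMb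
      have h1 : n * 2 ∣ n * q := by
        have := hdvd.trans hMb
        rwa [mul_comm 2 n, mul_comm q n] at this
      have h2q : 2 ∣ q := (Nat.mul_dvd_mul_iff_left (by omega)).mp h1
      -- the characteristic is two
      obtain ⟨j, hpp, hj⟩ := FiniteField.card F p
      rw [hF] at hj
      have hp2' : p = 2 := by
        have h2q' : 2 ∣ p ^ (j : ℕ) := by rw [← hj]; exact h2q
        have := Nat.Prime.dvd_of_dvd_pow Nat.prime_two h2q'
        exact ((Nat.prime_dvd_prime_iff_eq Nat.prime_two hpp).mp this).symm
      obtain ⟨k, hk⟩ := hp2 hp2'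
      -- `n` is odd
      have hnodd : ¬ 2 ∣ n := by
        intro h
        have : 2 ∣ q - 1 := by rw [← hnd]; exact Dvd.dvd.mul_right h d
        omega
      have hcop : Nat.Coprime n (2 ^ k) := by
        apply Nat.Coprime.pow_right
        rw [Nat.coprime_comm, Nat.Prime.coprime_iff_not_dvd Nat.prime_two]
        exact hnodd
      have := Nat.Coprime.eq_one_of_dvd hcop hk
      omega
    · -- S₄
      rw [hM] at hMdvd
      rcases hn' with h | h
      · rw [h] at hnd
        rcases hd12 with h' | h'
        · rw [h'] at hnd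
          have hq4' : q = 4 := by omega
          rw [hgn, hq4', h] at hMdvd
          omega
        · rw [h'] at hnd; omega
      · rw [h] at hnd
        rcases hd12 with h' | h' <;> rw [h'] at hnd <;> omega
    · -- A₅
      rcases hn' with h | h
      · rw [h] at hnd
        rcases hd12 with h' | h'
        · rw [h'] at hnd
          have hq4' : q = 4 := by omega
          apply htop_of_card
          rw [hM, hgn, hq4', h]
        · rw [h'] at hnd; omega
      · rw [h] at hnd
        rcases hd12 with h' | h'
        · rw [h'] at hnd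
          have hq6 : q = 6 := by omega
          rw [hM, hgn, hq6, h] at hMdvd
          omega
        · rw [h'] at hnd; omega
    · -- subfield subgroups
      rcases Nat.lt_or_ge m 2 with hm | hm
      · have hm' : m = 0 ∨ m = 1 := by omega
        rcases hm' with rfl | rfl
        · rw [pow_zero] at hrm; omega
        · exact hne (hm1 rfl)
      · have hrr : r * r ≤ q := by rw [← hrm]; exact pow_two_le_of_two_le (by omega) hm
        have hq2r : q - 1 ≤ (r + 1) * 2 := by
          rw [← hnd]
          exact Nat.mul_le_mul hnr (by rcases hd12 with h | h <;> omega)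
        have hr : r = 2 ∨ r = 3 := by
          by_contra hr
          have hr4 : 4 ≤ r := by omega
          have : 4 * r ≤ r * r := Nat.mul_le_mul_right r hr4
          omega
        rcases hr with rfl | rfl
        · have hm3 : m < 3 := by
            by_contra h
            push Not at h
            have : 2 ^ 3 ≤ 2 ^ m := Nat.pow_le_pow_right (by norm_num) h
            omega
          have hm2 : m = 2 := by omega
          subst hm2
          have hq4' : q = 4 := by rw [← hrm]; norm_num
          subst hq4'
          have hd1 : d = 1 := by rw [hd]; decide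
          rw [hd1] at hnd
          have hn3' : n = 3 := by omega
          rw [hn3'] at h4n
          norm_num at hMr
          omega
        · have hm3 : m < 3 := by
            by_contra h
            push Not at h
            have : 3 ^ 3 ≤ 3 ^ m := Nat.pow_le_pow_right (by norm_num) h
            omega
          have hm2 : m = 2 := by omega
          subst hm2
          apply h9
          rw [← hrm]; norm_num

end Cfsg.Agent.Helper51.PSLDih
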