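import Mathlib
import Cfsg.Agent.Lib.Helper98.BrownDefs

set_option autoImplicit false

/-!
# BROWN (U2), helper98's lemma server for S4291

A group whose Sylow 2-subgroups are cyclic or (generalised) quaternion has no elementary abelian
quotient of order 8.
-/

namespace Cfsg.Agent.Helper51.Brown

open Cfsg.Agent.Helper98.Brown

variable {G : Type*} [Group G]

/-- exponent 2 implies commutative -/
theorem helper51_comm_of_exp_two {Q : Type*} [Group Q] (hexp : ∀ x : Q, x * x = 1) (a b : Q) :
    a * b = b * a := by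
  have hi : ∀ x : Q, x⁻¹ = x := fun x => inv_eq_of_mul_eq_one_right (hexp x)
  calc a * b = (a * b)⁻¹ := (hi _).symm
    _ = b⁻¹ * a⁻¹ := mul_inv_rev a b
    _ = b * a := by rw [hi, hi]

/-- a group of exponent 2 which is a quotient of a 2-generated group has order at most 4 -/
theorem helper51_card_le_four {H Q : Type*} [Group H] [Group Q] (φ : H →* Q)
    (hφ : Function.Surjective φ) (x y : H) (hxy : Subgroup.closure {x, y} = ⊤)
    (hexp : ∀ q : Q, q * q = 1) : Nat.card Q ≤ 4 := by
  have hcomm := helper51_comm_of_exp_two hexp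
  have hi : ∀ q : Q, q⁻¹ = q := fun q => inv_eq_of_mul_eq_one_right (hexp q)
  have key : ∀ g : H, ∃ i j : ℕ, φ g = φ x ^ i * φ y ^ j := by
    intro g
    have hg : g ∈ Subgroup.closure {x, y} := by rw [hxy]; trivial
    induction hg using Subgroup.closure_induction with
    | mem z hz =>
      rcases hz with rfl | rfl
      · exact ⟨1, 0, by simp⟩
      · exact ⟨0, 1, by simp⟩
    | one => exact ⟨0, 0, by simp⟩
    | mul a b _ _ iha ihb =>
      obtain ⟨i, j, h1⟩ := iha
      obtain ⟨i', j', h2⟩ := ihb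
      refine ⟨i + i', j + j', ?_⟩
      rw [map_mul, h1, h2, pow_add, pow_add]
      rw [mul_assoc, mul_assoc, ← mul_assoc (φ y ^ j), hcomm (φ y ^ j) (φ x ^ i'), mul_assoc]
    | inv a _ iha =>
      obtain ⟨i, j, h1⟩ := iha
      exact ⟨i, j, by rw [map_inv, hi, h1]⟩
  have hu2 : φ x ^ 2 = 1 := by rw [pow_two]; exact hexp _
  have hv2 : φ y ^ 2 = 1 := by rw [pow_two]; exact hexp _
  let ψ : Fin 2 × Fin 2 → Q := fun p => φ x ^ (p.1 : ℕ) * φ y ^ (p.2 : ℕ)
  have hsurj : Function.Surjective ψ := by
    intro q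
    obtain ⟨g, rfl⟩ := hφ q
    obtain ⟨i, j, h⟩ := key g
    refine ⟨(⟨i % 2, Nat.mod_lt _ (by norm_num)⟩, ⟨j % 2, Nat.mod_lt _ (by norm_num)⟩), ?_⟩
    simp only [ψ]
    rw [h, pow_eq_pow_mod i hu2, pow_eq_pow_mod j hv2]
  have h4 := Nat.card_le_card_of_surjective ψ hsurj
  simpa using h4

/-- the quaternion group is generated by `a 1` and `xa 0` -/
theorem helper51_quaternion_closure (n : ℕ) [NeZero n] :
    Subgroup.closure {(QuaternionGroup.a 1 : QuaternionGroup n), QuaternionGroup.xa 0} = ⊤ := by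
  rw [Subgroup.eq_top_iff']
  have ha1 : (QuaternionGroup.a 1 : QuaternionGroup n) ∈
      Subgroup.closure {(QuaternionGroup.a 1 : QuaternionGroup n), QuaternionGroup.xa 0} :=
    Subgroup.subset_closure (by simp)
  have hx0 : (QuaternionGroup.xa 0 : QuaternionGroup n) ∈
      Subgroup.closure {(QuaternionGroup.a 1 : QuaternionGroup n), QuaternionGroup.xa 0} :=
    Subgroup.subset_closure (by simp)
  have hai : ∀ i : ZMod (2 * n), (QuaternionGroup.a i : QuaternionGroup n) ∈
      Subgroup.closure {(QuaternionGroup.a 1 : QuaternionGroup n), QuaternionGroup.xa 0} := by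
    intro i
    have : (QuaternionGroup.a i : QuaternionGroup n) = (QuaternionGroup.a 1) ^ i.val := by
      rw [QuaternionGroup.a_one_pow, ZMod.natCast_zmod_val]
    rw [this]
    exact pow_mem ha1 _
  intro g
  cases g with
  | a i => exact hai i
  | xa i =>
    have : (QuaternionGroup.xa i : QuaternionGroup n) =
        QuaternionGroup.xa 0 * QuaternionGroup.a i := by
      rw [QuaternionGroup.xa_mul_a, zero_add]
    rw [this]
    exact mul_mem hx0 (hai i)

/-! ### (U2) -/
theorem no_elementary_quotient [Finite G] (h : FpfLike G) {Q : Type*} [Group Q]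
    (f : G →* Q) (hf : Function.Surjective f) (hexp : ∀ x : Q, x * x = 1)
    (hcard : Nat.card Q = 8) : False := by
  have : Fact (Nat.Prime 2) := ⟨Nat.prime_two⟩
  obtain ⟨P⟩ : Nonempty (Sylow 2 G) := inferInstance
  -- the image of `P` is everything
  have htop : (P : Subgroup G).map f = ⊤ := by
    have hidx : ((P : Subgroup G).map f).index ∣ (P : Subgroup G).index :=
      Subgroup.index_map_dvd _ hf
    have hnd : ¬ 2 ∣ (P : Subgroup G).index := P.not_dvd_index
    have hnd' : ¬ 2 ∣ ((P : Subgroup G).map f).index := fun h2 => hnd (dvd_trans h2 hidx)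
    have hcop : Nat.Coprime ((P : Subgroup G).map f).index (2 ^ 3) :=
      Nat.Coprime.pow_right _ ((Nat.Prime.coprime_iff_not_dvd Nat.prime_two).2 hnd').symm
    have hdvd : ((P : Subgroup G).map f).index ∣ 2 ^ 3 := by
      have := ((P : Subgroup G).map f).index_dvd_card
      rw [hcard] at this
      simpa using this
    exact Subgroup.index_eq_one.1 (Nat.Coprime.eq_one_of_dvd hcop hdvd)
  let φ₀ : (P : Subgroup G) →* Q := f.comp (P : Subgroup G).subtype
  have hφ₀ : Function.Surjective φ₀ := by
    intro q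
    have hq : q ∈ (P : Subgroup G).map f := by rw [htop]; trivial
    obtain ⟨p, hp, rfl⟩ := Subgroup.mem_map.1 hq
    exact ⟨⟨p, hp⟩, rfl⟩
  have hle : Nat.card Q ≤ 4 := by
    rcases h.two (P : Subgroup G) P.isPGroup' with hc | ⟨k, hk, ⟨e⟩⟩
    · obtain ⟨g, hg⟩ := IsCyclic.exists_generator (α := (P : Subgroup G))
      refine helper51_card_le_four φ₀ hφ₀ g g ?_ hexp
      rw [Set.pair_eq_singleton, ← Subgroup.zpowers_eq_closure]
      exact (Subgroup.eq_top_iff' _).2 hg
    · exact helper51_card_le_four (φ₀.comp e.symm.toMonoidHom)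
        (hφ₀.comp e.symm.surjective) _ _ (helper51_quaternion_closure (2 ^ k)) hexp
  omega

end Cfsg.Agent.Helper51.Brown
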