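import Mathlib
import Cfsg.Prelude.Def_OddOrderLocal
import Cfsg.Agent.Lib.Helper15.BGV.Basic
import Cfsg.Agent.Lib.Helper15.BGV.Tools
import Cfsg.Agent.Lib.Helper30.BGFusD
import Cfsg.Agent.Lib.Helper34.BG10c
import Cfsg.Agent.Lib.Helper52.Coprime
import Cfsg.Agent.Lib.Helper22.BG11W2

/-!
# B-G 14.2, lemma (L4) (CONFIG A kill): pure preliminaries
-/

set_option autoImplicit false
set_option linter.unusedSectionVars false
set_option linter.unusedVariables false
set_option linter.style.haveILetI false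

namespace Cfsg.Agent.Helper51.BG142

open Subgroup Cfsg

universe u

variable {G : Type u} [Group G]

/-- `Ω₁(Z(S))` for the prime `r`: the elements of `S` centralizing `S` with `z ^ r = 1`. -/
def omegaZ (r : ℕ) (S : Subgroup G) : Subgroup G where
  carrier := {z | z ∈ S ∧ z ∈ centralizer (S : Set G) ∧ z ^ r = 1}
  one_mem' := ⟨S.one_mem, Subgroup.one_mem _, one_pow _⟩
  mul_mem' := by
    rintro a b ⟨ha1, ha2, ha3⟩ ⟨hb1, hb2, hb3⟩
    refine ⟨S.mul_mem ha1 hb1, Subgroup.mul_mem _ ha2 hb2, ?_⟩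
    have hc : Commute a b := (mem_centralizer_iff.mp hb2 a ha1)
    rw [hc.mul_pow, ha3, hb3, one_mul]
  inv_mem' := by
    rintro a ⟨ha1, ha2, ha3⟩
    exact ⟨S.inv_mem ha1, Subgroup.inv_mem _ ha2, by rw [inv_pow, ha3, inv_one]⟩

theorem mem_omegaZ {r : ℕ} {S : Subgroup G} {z : G} :
    z ∈ omegaZ r S ↔ z ∈ S ∧ z ∈ centralizer (S : Set G) ∧ z ^ r = 1 := Iff.rfl

theorem omegaZ_le (r : ℕ) (S : Subgroup G) : omegaZ r S ≤ S := fun _ h => h.1

theorem omegaZ_le_centralizer (r : ℕ) (S : Subgroup G) : omegaZ r S ≤ centralizer (S : Set G) :=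
  fun _ h => h.2.1

theorem isElementaryAbelian_omegaZ (r : ℕ) (S : Subgroup G) :
    IsElementaryAbelian r (omegaZ r S) := by
  refine ⟨⟨⟨fun a b => ?_⟩⟩, fun a ha => ha.2.2⟩
  apply Subtype.ext
  exact (mem_centralizer_iff.mp b.2.2.1 a a.2.1)

/-- `N(S)` normalizes `Ω₁(Z(S))`. -/
theorem normalizer_le_normalizer_omegaZ [Finite G] (r : ℕ) (S : Subgroup G) :
    normalizer (S : Set G) ≤ normalizer (omegaZ r S : Set G) := by
  apply Cfsg.Agent.Helper15.BGV.le_normalizer_of_conj_mem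
  intro n hn z hz
  have hn' := hn
  rw [mem_normalizer_iff] at hn
  refine ⟨(hn z).mp hz.1, ?_, ?_⟩
  · rw [mem_centralizer_iff]
    intro s hs
    have hs' : n⁻¹ * s * n ∈ S := by
      have := (mem_normalizer_iff.mp (Subgroup.inv_mem _ hn') s).mp hs
      simpa using this
    have h1 := mem_centralizer_iff.mp hz.2.1 _ hs'
    calc s * (n * z * n⁻¹) = n * ((n⁻¹ * s * n) * z) * n⁻¹ := by group
      _ = n * (z * (n⁻¹ * s * n)) * n⁻¹ := by rw [h1]
      _ = n * z * n⁻¹ * s := by group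
  · rw [conj_pow, hz.2.2]; group

/-- A nontrivial `r`-group has `Ω₁(Z(S)) ≠ 1`. -/
theorem omegaZ_ne_bot [Finite G] {r : ℕ} [hr : Fact r.Prime] {S : Subgroup G} (hS : IsPGroup r S)
    (hS1 : S ≠ ⊥) : omegaZ r S ≠ ⊥ := by
  haveI : Nontrivial S := (Subgroup.nontrivial_iff_ne_bot S).mpr hS1
  haveI := hS.center_nontrivial
  have hZ : IsPGroup r (center S) := hS.to_subgroup _
  have hdvd : r ∣ Nat.card (center S) := by
    rcases hZ.card_eq_or_dvd with h | h
    · exfalso
      have := (Subgroup.card_eq_one.mp h)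
      exact (Subgroup.nontrivial_iff_ne_bot _).mp inferInstance this
    · exact h
  obtain ⟨z, hz⟩ := exists_prime_orderOf_dvd_card' r hdvd
  intro hbot
  have hmem : ((z : S) : G) ∈ omegaZ r S := by
    refine ⟨(z : S).2, ?_, ?_⟩
    · rw [mem_centralizer_iff]
      intro s hs
      have := (Subgroup.mem_center_iff.mp z.2) ⟨s, hs⟩
      exact congrArg Subtype.val this
    · have h1 : z ^ r = 1 := by rw [← hz]; exact pow_orderOf_eq_one z
      have h2 := congrArg (fun w : center S => ((w : S) : G)) h1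
      simpa using h2
  rw [hbot, mem_bot] at hmem
  have hz1 : z = 1 := by
    apply Subtype.ext; apply Subtype.ext; simpa using hmem
  rw [hz1, orderOf_one] at hz
  exact hr.out.one_lt.ne hz

/-- `IsComplIn` is symmetric. -/
theorem isComplIn_symm {A B M : Subgroup G} (h : IsComplIn A B M) : IsComplIn B A M := by
  obtain ⟨hA, hB, hAB, hfac⟩ := h
  refine ⟨hB, hA, by rw [inf_comm]; exact hAB, fun m hm => ?_⟩
  obtain ⟨a, ha, b, hb, hab⟩ := hfac m⁻¹ (M.inv_mem hm)
  refine ⟨b⁻¹, B.inv_mem hb, a⁻¹, A.inv_mem ha, ?_⟩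
  have : m = (m⁻¹)⁻¹ := by group
  rw [this, hab]; group

/-- A subgroup `Z` of a group `A` of order `r ^ 2` that is neither trivial nor `A` has order `r`. -/
theorem card_eq_prime_of_le_sq [Finite G] {r : ℕ} [hr : Fact r.Prime] {A Z : Subgroup G}
    (hZA : Z ≤ A) (hA : Nat.card A = r ^ 2) (hZ1 : Z ≠ ⊥) (hZA' : Z ≠ A) : Nat.card Z = r := by
  have hdvd : Nat.card Z ∣ r ^ 2 := hA ▸ Subgroup.card_dvd_of_le hZA
  obtain ⟨k, hk, hkc⟩ := (Nat.dvd_prime_pow hr.out).mp hdvd
  interval_cases k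
  · exfalso; apply hZ1; exact Subgroup.card_eq_one.mp (by simpa using hkc)
  · simpa using hkc
  · exfalso; apply hZA'
    exact Subgroup.eq_of_le_of_card_ge hZA (by rw [hA, hkc])

/-- Two distinct subgroups of order `r` of a group of order `r ^ 2` generate it. -/
theorem le_sup_of_two_lines [Finite G] {r : ℕ} [hr : Fact r.Prime] {A A0 Z0 : Subgroup G}
    (hA : Nat.card A = r ^ 2) (hA0A : A0 ≤ A) (hZ0A : Z0 ≤ A) (hA0 : Nat.card A0 = r)
    (hZ0 : Nat.card Z0 = r) (hne : Z0 ≠ A0) : A ≤ A0 ⊔ Z0 := by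
  have hle : A0 ⊔ Z0 ≤ A := sup_le hA0A hZ0A
  have hne1 : A0 ⊔ Z0 ≠ ⊥ := by
    intro h
    have h1 : A0 = ⊥ := by rw [eq_bot_iff, ← h]; exact le_sup_left
    rw [h1, Subgroup.card_bot] at hA0
    exact hr.out.one_lt.ne hA0
  by_contra hcon
  have hne2 : A0 ⊔ Z0 ≠ A := fun h => hcon (h ▸ le_rfl)
  have hc := card_eq_prime_of_le_sq hle hA hne1 hne2
  have h1 : A0 = A0 ⊔ Z0 := Subgroup.eq_of_le_of_card_ge le_sup_left (by rw [hc, hA0])
  have h2 : Z0 = A0 ⊔ Z0 := Subgroup.eq_of_le_of_card_ge le_sup_right (by rw [hc, hZ0])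
  exact hne (h2.trans h1.symm)

/-- `C_A(X) ≤ A₀` when `A ≤ A₀ Z₀`, `X` centralizes `A₀` and does not centralize the line `Z₀`. -/
theorem inf_centralizer_le_of_lines [Finite G] {A A0 Z0 X : Subgroup G} (hA : A ≤ A0 ⊔ Z0)
    (hcomm : ∀ a ∈ A0, ∀ z ∈ Z0, a * z = z * a) (hXA0 : X ≤ centralizer (A0 : Set G))
    (hZ0 : (Nat.card Z0).Prime) (hXZ : ¬ X ≤ centralizer (Z0 : Set G)) :
    A ⊓ centralizer (X : Set G) ≤ A0 := by
  intro a ha
  obtain ⟨haA, haX⟩ := Subgroup.mem_inf.mp ha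
  have hZ0n : Z0 ≤ normalizer (A0 : Set G) := by
    refine le_trans ?_ (Subgroup.centralizer_le_normalizer _)
    intro z hz
    rw [mem_centralizer_iff]
    intro a ha
    exact hcomm a ha z hz
  obtain ⟨a0, ha0, z, hz, rfl⟩ := Cfsg.Agent.Helper15.BGV.mem_sup_decomp hZ0n (hA haA)
  have hzX : z ∈ Z0 ⊓ centralizer (X : Set G) := by
    refine Subgroup.mem_inf.mpr ⟨hz, ?_⟩
    rw [mem_centralizer_iff]
    intro x hx
    have h1 : x * (a0 * z) = (a0 * z) * x := mem_centralizer_iff.mp haX x hx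
    have h2 : a0 * x = x * a0 := mem_centralizer_iff.mp (hXA0 hx) a0 ha0
    have h3 : a0 * (x * z) = a0 * (z * x) := by
      calc a0 * (x * z) = (a0 * x) * z := by group
        _ = x * (a0 * z) := by rw [h2]; group
        _ = a0 * z * x := h1
        _ = a0 * (z * x) := by group
    exact mul_left_cancel h3
  by_cases hz1 : z = 1
  · rw [hz1, mul_one]; exact ha0
  · exfalso
    apply hXZ
    have hsub : Z0 ⊓ centralizer (X : Set G) = Z0 := by
      have hdvd : Nat.card ↥(Z0 ⊓ centralizer (X : Set G)) ∣ Nat.card Z0 :=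
        Subgroup.card_dvd_of_le inf_le_left
      rcases (Nat.dvd_prime hZ0).mp hdvd with h | h
      · exfalso
        have := Subgroup.card_eq_one.mp h
        rw [this, mem_bot] at hzX
        exact hz1 hzX
      · exact Subgroup.eq_of_le_of_card_ge inf_le_left (by rw [h])
    intro x hx
    rw [mem_centralizer_iff]
    intro w hw
    have hw' : w ∈ Z0 ⊓ centralizer (X : Set G) := by rw [hsub]; exact hw
    exact (mem_centralizer_iff.mp hw'.2 x hx).symm

/-- A complement of a Sylow subgroup in its normalizer containing a given `r'`-subgroup. -/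
theorem exists_compl_ge_sylow [Finite G] {r : ℕ} [hr : Fact r.Prime] (P : Sylow r G)
    (X : Subgroup G) (hXN : X ≤ normalizer ((P : Subgroup G) : Set G))
    (hX : (Nat.card X).Coprime r) :
    ∃ V : Subgroup G, IsComplIn (P : Subgroup G) V (normalizer ((P : Subgroup G) : Set G)) ∧
      (Nat.card V).Coprime (Nat.card (P : Subgroup G)) ∧ X ≤ V := by
  obtain ⟨V0, hV0, hcop0, -⟩ := Cfsg.Agent.Helper30.BGFus.exists_isComplIn_normalizer P
  have hPsolv : Group.IsSolvable (P : Subgroup G) := by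
    haveI : Group.IsNilpotent (P : Subgroup G) := P.isPGroup'.isNilpotent
    infer_instance
  obtain ⟨n, hn⟩ := P.isPGroup'.exists_card_eq
  have hcopX : (Nat.card (P : Subgroup G)).Coprime (Nat.card X) := by
    rw [hn]; exact (Nat.Coprime.pow_right n hX).symm
  obtain ⟨V, hV, hXV⟩ := Cfsg.Agent.Helper22.BG11.exists_compl_ge
    (M := normalizer ((P : Subgroup G) : Set G)) (K := (P : Subgroup G)) (A := X) V0
    (isComplIn_symm hV0) le_rfl hXN (Or.inl hPsolv) hcopX
  refine ⟨V, isComplIn_symm hV, ?_, hXV⟩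
  obtain ⟨hVN, hPN, hVP, hfac⟩ := hV
  have hPV : (P : Subgroup G) ⊓ V = ⊥ := by rw [inf_comm]; exact hVP
  have hsup : (P : Subgroup G) ⊔ V = normalizer ((P : Subgroup G) : Set G) := by
    apply le_antisymm (sup_le hPN hVN)
    intro m hm
    obtain ⟨v, hv, a, ha, rfl⟩ := hfac m hm
    exact mul_mem (mem_sup_right hv) (mem_sup_left ha)
  have hcard := Cfsg.Agent.Helper22.BG11.card_sup_eq_mul (P : Subgroup G) V hVN hPV
  rw [hsup] at hcard
  have hdvd : Nat.card (P : Subgroup G) * Nat.card V ∣ Nat.card (P : Subgroup G) * (P : Subgroup G).index := by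
    rw [← hcard, Subgroup.card_mul_index]
    exact Subgroup.card_subgroup_dvd_card _
  have hdvd' : Nat.card V ∣ (P : Subgroup G).index :=
    Nat.dvd_of_mul_dvd_mul_left Nat.card_pos hdvd
  have hnd : ¬ r ∣ Nat.card V := fun h => P.not_dvd_index (h.trans hdvd')
  rw [hn]
  exact Nat.Coprime.pow_right n ((Nat.Prime.coprime_iff_not_dvd hr.out).mpr hnd).symm

end Cfsg.Agent.Helper51.BG142
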