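import Mathlib
import Cfsg.Prelude.Def_OddOrder
import Cfsg.Prelude.Def_OddOrderLocal
import Cfsg.Agent.Lib.Helper51.BG142Rows
import Cfsg.Agent.Lib.Helper51.BG142L4a
import Cfsg.Agent.Lib.Helper24.BG11.Basic
import Cfsg.Agent.Lib.Helper45.BG143
import Cfsg.Agent.S1408
import Cfsg.Agent.S1413

/-!
# B-G 14.2, lemma (L4) (CONFIG A kill): the configuration and its first consequences
-/

set_option autoImplicit false
set_option linter.unusedSectionVars false
set_option linter.unusedVariables false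
set_option linter.style.haveILetI false

namespace Cfsg.Agent.Helper51.BG142

open Subgroup Cfsg
open Cfsg.Agent.Helper34.BG (isElementaryAbelian_isPGroup isElementaryAbelian_mono
  isElementaryAbelian_sup commute_of_isElementaryAbelian
  ne_top_of_le_coatom normalizer_ne_top solvable_of_ne_top exists_coatom_ge)

universe u

variable {G : Type u} [Group G] [Finite G]

/-- CONFIG A of B-G 14.2 (board posts #2512 / #2607), with the rows not yet on main as hypotheses. -/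
structure CfgA (M E A X : Subgroup G) (r p : ℕ) [Fact r.Prime] [Fact p.Prime] : Prop where
  hG : Cfsg.IsMinSimpleOddOrder G
  h17 : H1417 G
  h18 : H1418 G
  h19 : H1419 G
  h27 : H1427 G
  h28 : H1428 G
  hM : IsCoatom M
  hE : Cfsg.IsComplIn E (Cfsg.sigmaCore M) M
  hr : r ∈ Cfsg.tau2 M
  hS : ∀ S : Sylow r G, ¬ IsMulCommutative (S : Subgroup G)
  hA : A ≤ E ∧ Cfsg.IsElementaryAbelian r A ∧ Nat.card A = r ^ 2
  hp : p ∈ Cfsg.tau1 M
  hXE : X ≤ E
  hX : Nat.card X = p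
  hC : Cfsg.sigmaCore M ⊓ centralizer (X : Set G) ≠ ⊥
  hXA0 : X ≤ centralizer ((A ⊓ centralizer (Cfsg.sigmaCore M : Set G) : Subgroup G) : Set G)
  hXA : ¬ X ≤ centralizer (A : Set G)

namespace CfgA

variable {M E A X : Subgroup G} {r p : ℕ} [hrF : Fact r.Prime] [hpF : Fact p.Prime]

theorem hEM (c : CfgA M E A X r p) : E ≤ M := c.hE.1

theorem hAM (c : CfgA M E A X r p) : A ≤ M := c.hA.1.trans c.hEM

theorem hA' (c : CfgA M E A X r p) :
    A ≤ M ∧ Cfsg.IsElementaryAbelian r A ∧ Nat.card A = r ^ 2 := ⟨c.hAM, c.hA.2⟩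

theorem hrσ (c : CfgA M E A X r p) : r ∉ Cfsg.sigma M := c.hr.2.1

theorem hApg (c : CfgA M E A X r p) : IsPGroup r A := isElementaryAbelian_isPGroup c.hA.2.1

/-- `E` normalizes `A`. -/
theorem hEA (c : CfgA M E A X r p) : E ≤ normalizer (A : Set G) :=
  (c.h18 M c.hM E c.hE r c.hr A c.hA).1.1

theorem hCA (c : CfgA M E A X r p) : centralizer (A : Set G) ≤ M :=
  ((c.h18 M c.hM E c.hE r c.hr A c.hA).2.1.1).trans inf_le_left

theorem hMNA (c : CfgA M E A X r p) : M ⊓ normalizer (A : Set G) = E :=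
  (c.h18 M c.hM E c.hE r c.hr A c.hA).2.1.2.1

theorem hNA (c : CfgA M E A X r p) : ¬ normalizer (A : Set G) ≤ M :=
  (c.h18 M c.hM E c.hE r c.hr A c.hA).2.1.2.2

theorem hXNA (c : CfgA M E A X r p) : X ≤ normalizer (A : Set G) := c.hXE.trans c.hEA

/-- `|A₀| = r`. -/
theorem hA0card (c : CfgA M E A X r p) :
    Nat.card ↥(A ⊓ centralizer (Cfsg.sigmaCore M : Set G)) = r :=
  (c.h19 M c.hM E c.hE r c.hr c.hS A c.hA).2.1.1

theorem htau2 (c : CfgA M E A X r p) : Cfsg.tau2 M = {r} :=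
  (c.h19 M c.hM E c.hE r c.hr c.hS A c.hA).1

/-- lines of `E` other than `A₀` act fixed-point-freely on `M_σ`. -/
theorem hline (c : CfgA M E A X r p) (Y : Subgroup G) (hYE : Y ≤ E) (hY : Nat.card Y = r)
    (hne : Y ≠ A ⊓ centralizer (Cfsg.sigmaCore M : Set G)) :
    Cfsg.sigmaCore M ⊓ centralizer (Y : Set G) = ⊥ :=
  ((c.h19 M c.hM E c.hE r c.hr c.hS A c.hA).2.2 Y hYE hY hne).1

theorem hnilp (c : CfgA M E A X r p) : Group.IsNilpotent (Cfsg.sigmaCore M) :=
  (c.h17 M c.hM r c.hr A c.hA').1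

/-- `A` is a maximal elementary abelian `r`-subgroup of `G`. -/
theorem hAmax (c : CfgA M E A X r p) :
    ∀ B : Subgroup G, Cfsg.IsElementaryAbelian r B → A ≤ B → B = A :=
  (Cfsg.Agent.S1408.result c.hG M c.hM r c.hrσ c.hr.2.2.1 c.hr.2.2.2).2 A c.hAM c.hA.2.1 c.hA.2.2

theorem hnotideal (c : CfgA M E A X r p) : ¬ Cfsg.IsIdealPrime r G :=
  (Cfsg.Agent.S1408.result c.hG M c.hM r c.hrσ c.hr.2.2.1 c.hr.2.2.2).1

/-- every `r`-subgroup of `M` is abelian. -/
theorem rsub_comm (c : CfgA M E A X r p) {Q : Subgroup G} (hQM : Q ≤ M) (hQ : IsPGroup r Q) :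
    ∀ x ∈ Q, ∀ y ∈ Q, x * y = y * x := by
  obtain ⟨P, hQP⟩ := Cfsg.Agent.Helper15.BGV.exists_sylow_ge hQ hQM
  have hP := ((c.h17 M c.hM r c.hr A c.hA').2.1 P).1
  intro x hx y hy
  obtain ⟨x', hx', rfl⟩ := hQP hx
  obtain ⟨y', hy', rfl⟩ := hQP hy
  have := hP.is_comm.comm ⟨x', hx'⟩ ⟨y', hy'⟩
  have h2 := congrArg (fun w : (P : Subgroup M) => ((w : M) : G)) this
  simpa using h2

/-- in an `r`-subgroup of `M` containing `A`, the elements of order dividing `r` lie in `A`. -/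
theorem rsub_omega (c : CfgA M E A X r p) {Q : Subgroup G} (hQM : Q ≤ M) (hQ : IsPGroup r Q)
    (hAQ : A ≤ Q) : ∀ x ∈ Q, x ^ r = 1 → x ∈ A := by
  obtain ⟨P, hQP⟩ := Cfsg.Agent.Helper15.BGV.exists_sylow_ge hQ hQM
  have hP := ((c.h17 M c.hM r c.hr A c.hA').2.1 P).2 (hAQ.trans hQP)
  intro x hx hxr
  exact (hP.1 x (hQP hx)).mp hxr

/-- `A₀ ≠ 1`. -/
theorem hA0ne (c : CfgA M E A X r p) : A ⊓ centralizer (Cfsg.sigmaCore M : Set G) ≠ ⊥ := by
  intro h
  have := c.hA0card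
  rw [h, Subgroup.card_bot] at this
  exact hrF.out.one_lt.ne this

/-- `M` normalizes `A₀`, hence `N_G(A₀) = M`. -/
theorem normalizer_A0 (c : CfgA M E A X r p) :
    normalizer ((A ⊓ centralizer (Cfsg.sigmaCore M : Set G) : Subgroup G) : Set G) = M := by
  apply Cfsg.Agent.Helper24.BG11.normalizer_eq_of_normal c.hG c.hM (inf_le_left.trans c.hAM) ?_ c.hA0ne
  apply Cfsg.Agent.Helper15.BGV.le_normalizer_of_conj_mem
  intro m hm a ha
  obtain ⟨e, he, s, hs, rfl⟩ := c.hE.2.2.2 m hm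
  have hsa : s * a = a * s := (mem_centralizer_iff.mp ha.2 s hs)
  have h1 : e * s * a * (e * s)⁻¹ = e * a * e⁻¹ := by
    calc e * s * a * (e * s)⁻¹ = e * (s * a) * s⁻¹ * e⁻¹ := by group
      _ = e * (a * s) * s⁻¹ * e⁻¹ := by rw [hsa]
      _ = e * a * e⁻¹ := by group
  rw [h1]
  refine Subgroup.mem_inf.mpr ⟨?_, ?_⟩
  · exact Cfsg.Agent.Helper15.BGV.conj_mem_of_mem_normalizer (c.hEA he) ha.1
  · rw [mem_centralizer_iff]
    intro y hy
    have hy' : e⁻¹ * y * e ∈ Cfsg.sigmaCore M := by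
      have := Cfsg.Agent.Helper45.BG143.conj_mem_sigmaCore (M := M) (m := e⁻¹) (y := y)
        (M.inv_mem (c.hEM he)) hy
      simpa using this
    have h2 := mem_centralizer_iff.mp ha.2 _ hy'
    calc y * (e * a * e⁻¹) = e * ((e⁻¹ * y * e) * a) * e⁻¹ := by group
      _ = e * (a * (e⁻¹ * y * e)) * e⁻¹ := by rw [h2]
      _ = e * a * e⁻¹ * y := by group

/-- **Step (1b)**: for a Sylow `r`-subgroup `S ≥ A` of `G`, the line `Z₀ = Ω₁(Z(S))`. -/
theorem z0_facts (c : CfgA M E A X r p) (S : Sylow r G) (hAS : A ≤ (S : Subgroup G)) :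
    omegaZ r (S : Subgroup G) ≤ A ∧ Nat.card (omegaZ r (S : Subgroup G)) = r ∧
      omegaZ r (S : Subgroup G) ≠ A ⊓ centralizer (Cfsg.sigmaCore M : Set G) ∧
      normalizer (A : Set G) ≤ normalizer (omegaZ r (S : Subgroup G) : Set G) := by
  set Z0 := omegaZ r (S : Subgroup G) with hZ0
  have hAne : A ≠ ⊥ := by
    intro h
    have := c.hA.2.2
    rw [h, Subgroup.card_bot] at this
    have h2 : 1 < r ^ 2 := Nat.one_lt_pow (by norm_num) hrF.out.one_lt
    omega
  have hSne : (S : Subgroup G) ≠ ⊥ := fun h => hAne (eq_bot_iff.mpr (h ▸ hAS))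
  -- Z0 ≤ A by maximality
  have hZ0A : Z0 ≤ A := by
    have hel : Cfsg.IsElementaryAbelian r (A ⊔ Z0) := by
      apply isElementaryAbelian_sup c.hA.2.1 (isElementaryAbelian_omegaZ r _)
      intro a ha z hz
      exact (mem_centralizer_iff.mp hz.2.1 a (hAS ha))
    have := c.hAmax (A ⊔ Z0) hel le_sup_left
    rw [← this]; exact le_sup_right
  have hZ0ne : Z0 ≠ ⊥ := omegaZ_ne_bot S.isPGroup' hSne
  have hZ0neA : Z0 ≠ A := by
    intro h
    have hSC : (S : Subgroup G) ≤ centralizer (A : Set G) := by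
      intro s hs
      rw [mem_centralizer_iff]
      intro a ha
      have : a ∈ Z0 := h ▸ ha
      exact (mem_centralizer_iff.mp this.2.1 s hs).symm
    have hcomm := c.rsub_comm (hSC.trans c.hCA) S.isPGroup'
    apply c.hS S
    exact ⟨⟨fun a b => Subtype.ext (hcomm a a.2 b b.2)⟩⟩
  have hcard : Nat.card Z0 = r := card_eq_prime_of_le_sq hZ0A c.hA.2.2 hZ0ne hZ0neA
  have hNA : normalizer (A : Set G) ≤ normalizer (Z0 : Set G) := by
    have h13 := (Cfsg.Agent.S1413.result c.hG r S).2.2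
    exact h13 A Z0 c.hApg (le_inf (omegaZ_le r _) hZ0A) (normalizer_le_normalizer_omegaZ r _)
  refine ⟨hZ0A, hcard, ?_, hNA⟩
  intro h
  apply c.hNA
  rw [← c.normalizer_A0, ← h]
  exact hNA

/-- consequences of (1b) for the action of `X`. -/
theorem z0_facts' (c : CfgA M E A X r p) (S : Sylow r G) (hAS : A ≤ (S : Subgroup G)) :
    ¬ X ≤ centralizer (omegaZ r (S : Subgroup G) : Set G) ∧
      A ⊓ centralizer (X : Set G) ≤ A ⊓ centralizer (Cfsg.sigmaCore M : Set G) ∧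
      ¬ (A ⊓ centralizer (Cfsg.sigmaCore M : Set G) : Subgroup G) ≤ centralizer ((S : Subgroup G) : Set G) := by
  obtain ⟨hZ0A, hcard, hne, hNA⟩ := c.z0_facts S hAS
  set Z0 := omegaZ r (S : Subgroup G) with hZ0
  set A0 := A ⊓ centralizer (Cfsg.sigmaCore M : Set G) with hA0
  have hsup : A ≤ A0 ⊔ Z0 := le_sup_of_two_lines c.hA.2.2 inf_le_left hZ0A c.hA0card hcard hne
  have hXZ : ¬ X ≤ centralizer (Z0 : Set G) := by
    intro h
    apply c.hXA
    rw [Subgroup.le_centralizer_iff]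
    refine hsup.trans (sup_le ?_ ?_)
    · rw [← Subgroup.le_centralizer_iff]; exact c.hXA0
    · rw [← Subgroup.le_centralizer_iff]; exact h
  refine ⟨hXZ, ?_, ?_⟩
  · apply inf_centralizer_le_of_lines hsup ?_ c.hXA0 (hcard ▸ hrF.out) hXZ
    intro a ha z hz
    exact commute_of_isElementaryAbelian c.hA.2.1 ha.1 (hZ0A hz)
  · intro h
    -- then A0 ≤ Ω₁(Z(S)) = Z0, so A0 = Z0
    apply hne
    have hle : A0 ≤ Z0 := by
      intro a ha
      refine ⟨hAS ha.1, h ha, ?_⟩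
      exact c.hA.2.1.2 a ha.1
    exact (Subgroup.eq_of_le_of_card_ge hle (by rw [hcard, c.hA0card])).symm

/-- `C_G(A₀) ≤ M`. -/
theorem centralizer_A0_le (c : CfgA M E A X r p) :
    centralizer ((A ⊓ centralizer (Cfsg.sigmaCore M : Set G) : Subgroup G) : Set G) ≤ M := by
  have h : centralizer ((A ⊓ centralizer (Cfsg.sigmaCore M : Set G) : Subgroup G) : Set G) ≤
      normalizer ((A ⊓ centralizer (Cfsg.sigmaCore M : Set G) : Subgroup G) : Set G) :=
    Subgroup.centralizer_le_normalizer _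
  rw [c.normalizer_A0] at h
  exact h

/-- **Step (4), row part**: `P₀ = C_S(A₀)` is abelian with `Ω₁(P₀) = A`. -/
theorem p0_facts (c : CfgA M E A X r p) (S : Sylow r G) (hAS : A ≤ (S : Subgroup G)) :
    (∀ x ∈ (S : Subgroup G) ⊓ centralizer ((A ⊓ centralizer (Cfsg.sigmaCore M : Set G) : Subgroup G) : Set G),
      ∀ y ∈ (S : Subgroup G) ⊓ centralizer ((A ⊓ centralizer (Cfsg.sigmaCore M : Set G) : Subgroup G) : Set G),
        x * y = y * x) ∧
    (∀ x ∈ (S : Subgroup G) ⊓ centralizer ((A ⊓ centralizer (Cfsg.sigmaCore M : Set G) : Subgroup G) : Set G),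
      x ^ r = 1 → x ∈ A) := by
  set A0 := A ⊓ centralizer (Cfsg.sigmaCore M : Set G) with hA0
  set P0 := (S : Subgroup G) ⊓ centralizer (A0 : Set G) with hP0
  have hP0M : P0 ≤ M := inf_le_right.trans c.centralizer_A0_le
  have hP0pg : IsPGroup r P0 := S.isPGroup'.to_le inf_le_left
  have hAP0 : A ≤ P0 := by
    refine le_inf hAS ?_
    intro a ha
    rw [mem_centralizer_iff]
    intro b hb
    exact commute_of_isElementaryAbelian c.hA.2.1 hb.1 ha
  exact ⟨c.rsub_comm hP0M hP0pg, c.rsub_omega hP0M hP0pg hAP0⟩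

end CfgA

end Cfsg.Agent.Helper51.BG142
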