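import Mathlib
import Cfsg.Agent.Lib.Helper51.BG142L4b
import Cfsg.Agent.Lib.Helper64.BG142End
import Cfsg.Agent.Lib.Helper71.BG142L4d
import Cfsg.Agent.Lib.Helper79.BG142L4T
import Cfsg.Agent.Lib.Helper79.BG142L4M
import Cfsg.Agent.S1350
import Cfsg.Agent.S1408
import Cfsg.Agent.S1411
import Cfsg.Agent.S1414
import Cfsg.Agent.S1417
import Cfsg.Agent.S1418
import Cfsg.Agent.S1419
import Cfsg.Agent.S1427

/-!
# B-G 14.2, lemma (L4): CONFIG A is impossible

Assembly of the CONFIG A kill (board posts #2607, #2865) from the pieces: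
* steps (1a), (1b), step (4) row part: `Lib/Helper51/BG142L4a`, `BG142L4b` (helper51);
* step (1c): `Helper71.BG142L4.exists_invariant_sylow_of_line` (helper71);
* steps (2)+(3): `Helper79.BG142L4.normalizer_A0_eq_of_h28` (helper79);
* the `T`-construction: `Helper79.BG142L4.exists_T` (helper79);
* the pure endgame, steps (4)-(6): `Helper64.BG142End.configA_endgame` (helper64).

Row S1428 enters as the hypothesis `h28` (it is not on main yet); all other rows are imported.
-/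

set_option autoImplicit false
set_option linter.unusedSectionVars false
set_option linter.unusedVariables false
set_option linter.style.haveILetI false

namespace Cfsg.Agent.Helper51.BG142

open Subgroup Cfsg

universe u

variable {G : Type u} [Group G] [Finite G]

/-- the CONFIG A hypotheses, with S1428 for `G` as a hypothesis, give a `CfgA`. -/
theorem cfgA_of (hG : Cfsg.IsMinSimpleOddOrder G) (h28 : H1428 G)
    (M : Subgroup G) (hM : IsCoatom M) (E : Subgroup G)
    (hE : Cfsg.IsComplIn E (Cfsg.sigmaCore M) M) (r p : ℕ) [Fact r.Prime] [Fact p.Prime]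
    (hr : r ∈ Cfsg.tau2 M) (hS : ∀ S : Sylow r G, ¬ IsMulCommutative (S : Subgroup G))
    (A : Subgroup G) (hA : A ≤ E ∧ Cfsg.IsElementaryAbelian r A ∧ Nat.card A = r ^ 2)
    (hp : p ∈ Cfsg.tau1 M) (X : Subgroup G) (hXE : X ≤ E) (hX : Nat.card X = p)
    (hC : Cfsg.sigmaCore M ⊓ centralizer (X : Set G) ≠ ⊥)
    (hXA0 : X ≤ centralizer ((A ⊓ centralizer (Cfsg.sigmaCore M : Set G) : Subgroup G) : Set G))
    (hXA : ¬ X ≤ centralizer (A : Set G)) : CfgA M E A X r p where
  hG := hG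
  h17 := fun M hM p _ hp A hA => Cfsg.Agent.S1417.result hG M hM p hp A hA
  h18 := fun M hM E hE p _ hp A hA => Cfsg.Agent.S1418.result hG M hM E hE p hp A hA
  h19 := fun M hM E hE p _ hp hS A hA => Cfsg.Agent.S1419.result hG M hM E hE p hp hS A hA
  h27 := fun M hM E hE p _ S hS1 hSc => Cfsg.Agent.S1427.result hG M hM E hE p S hS1 hSc
  h28 := h28
  hM := hM
  hE := hE
  hr := hr
  hS := hS
  hA := hA
  hp := hp
  hXE := hXE
  hX := hX
  hC := hC
  hXA0 := hXA0
  hXA := hXA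

/-- **B-G 14.2 (L4): CONFIG A is impossible** (with row S1428 for `G` as a hypothesis). -/
theorem configA_false_of_h28 (hG : Cfsg.IsMinSimpleOddOrder G) (h28 : H1428 G)
    (M : Subgroup G) (hM : IsCoatom M) (E : Subgroup G)
    (hE : Cfsg.IsComplIn E (Cfsg.sigmaCore M) M) (r p : ℕ) [hrF : Fact r.Prime] [hpF : Fact p.Prime]
    (hr : r ∈ Cfsg.tau2 M) (hS : ∀ S : Sylow r G, ¬ IsMulCommutative (S : Subgroup G))
    (A : Subgroup G) (hA : A ≤ E ∧ Cfsg.IsElementaryAbelian r A ∧ Nat.card A = r ^ 2)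
    (hp : p ∈ Cfsg.tau1 M) (X : Subgroup G) (hXE : X ≤ E) (hX : Nat.card X = p)
    (hC : Cfsg.sigmaCore M ⊓ centralizer (X : Set G) ≠ ⊥)
    (hXA0 : X ≤ centralizer ((A ⊓ centralizer (Cfsg.sigmaCore M : Set G) : Subgroup G) : Set G))
    (hXA : ¬ X ≤ centralizer (A : Set G)) : False := by
  have c := cfgA_of hG h28 M hM E hE r p hr hS A hA hp X hXE hX hC hXA0 hXA
  set A0 := A ⊓ centralizer (Cfsg.sigmaCore M : Set G) with hA0
  have hpr : p ≠ r := by
    rintro rfl
    exact hr.2.2.2 hp.2.2.2.2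
  -- steps (2)+(3)
  obtain ⟨hNA0, hMA0⟩ := Cfsg.Agent.Helper79.BG142L4.normalizer_A0_eq_of_h28 hG M hM E hE
    (fun q hq P hPE hP R hRE hR => h28 M hM E hE q hq P hPE hP R hRE hR)
    r p hr hS A hA hp X hXE hX hC hXA0 hXA
  -- step (1b) for an arbitrary Sylow subgroup over `A`
  obtain ⟨S', hAS'⟩ := c.hApg.exists_le_sylow
  obtain ⟨hZA', hZc', hZne', hZN'⟩ := c.z0_facts S' hAS'
  have hZ1' : omegaZ r (S' : Subgroup G) ≠ ⊥ := by
    intro h
    rw [h, Subgroup.card_bot] at hZc'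
    exact hrF.out.one_lt.ne hZc'
  -- step (1c)
  obtain ⟨S, V, L, hAS, hXS, hXV, hV, -, -, -, -, -⟩ :=
    Cfsg.Agent.Helper71.BG142L4.exists_invariant_sylow_of_line hG r p hpr A X
      (omegaZ r (S' : Subgroup G)) S' hA.2.1 hA.2.2 hAS' hZ1' hZA'
      (normalizer_le_normalizer_omegaZ r _) hZN' c.hnotideal
      (fun L hL => (Cfsg.Agent.S1350.result hG L hL).1)
      (fun L hL hd hb => ((Cfsg.Agent.S1414.result hG L hL).2.2.2.2 r hrF.out hd hb).2.1)
      c.hXNA hX hXA
  have hVS : V ≤ normalizer ((S : Subgroup G) : Set G) := hV.2.1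
  have hSV : (S : Subgroup G) ≤ ⁅(S : Subgroup G), V⁆ :=
    le_of_eq (Cfsg.Agent.S1411.result hG r S V hV).1
  -- `|V|` is prime to `|S|`
  have hcop : (Nat.card V).Coprime (Nat.card (S : Subgroup G)) := by
    obtain ⟨hSN, hVN, hSVbot, hfac⟩ := hV
    have hsup : (S : Subgroup G) ⊔ V = normalizer ((S : Subgroup G) : Set G) := by
      apply le_antisymm (sup_le hSN hVN)
      intro m hm
      obtain ⟨a, ha, v, hv, rfl⟩ := hfac m hm
      exact mul_mem (mem_sup_left ha) (mem_sup_right hv)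
    have hcard := Cfsg.Agent.Helper22.BG11.card_sup_eq_mul (S : Subgroup G) V hVN hSVbot
    rw [hsup] at hcard
    have hdvd : Nat.card (S : Subgroup G) * Nat.card V ∣
        Nat.card (S : Subgroup G) * (S : Subgroup G).index := by
      rw [← hcard, Subgroup.card_mul_index]
      exact Subgroup.card_subgroup_dvd_card _
    have hdvd' : Nat.card V ∣ (S : Subgroup G).index :=
      Nat.dvd_of_mul_dvd_mul_left Nat.card_pos hdvd
    have hnd : ¬ r ∣ Nat.card V := fun h => S.not_dvd_index (h.trans hdvd')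
    obtain ⟨n, hn⟩ := S.isPGroup'.exists_card_eq
    rw [hn]
    exact Nat.Coprime.pow_right n ((Nat.Prime.coprime_iff_not_dvd hrF.out).mpr hnd).symm
  obtain ⟨hXZ, hAX, hA0Z⟩ := c.z0_facts' S hAS
  obtain ⟨hP0c, hP0o⟩ := c.p0_facts S hAS
  have hA0Z' : ¬ (S : Subgroup G) ≤ centralizer (A0 : Set G) := by
    intro h
    exact hA0Z (Subgroup.le_centralizer_iff.mp h)
  obtain ⟨T, hTS, hST, hTV, hTc, hTp, hA0T, h5⟩ :=
    Cfsg.Agent.Helper79.BG142L4.exists_T hG r S (hS S) A A0 V hAS hA.2.1 hA.2.2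
      (fun B _ hB hAB => c.hAmax B hB hAB) inf_le_left c.hA0card hA0Z' hVS hcop
  have hN : ∀ v ∈ V, v ∈ normalizer (A0 : Set G) → v ∈ centralizer (A0 : Set G) := by
    intro v _ hv
    rw [hNA0] at hv
    exact hMA0 hv
  exact Cfsg.Agent.Helper64.BG142End.configA_endgame r (S : Subgroup G) V X A A0 T S.isPGroup'
    hVS hcop hSV hXV hAS inf_le_left c.hA0card hXA0 hAX hP0c hP0o hN hTS hST hTV hTc hTp hA0T h5

end Cfsg.Agent.Helper51.BG142
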