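import Mathlib
import Cfsg.Agent.Lib.Helper51.BG142L4
import Cfsg.Agent.S1428

/-!
# B-G 14.2, lemma (L4): CONFIG A is impossible (final form, row S1428 imported)
-/

set_option autoImplicit false

namespace Cfsg.Agent.Helper51.BG142

open Subgroup Cfsg

/-- **B-G 14.2 (L4): CONFIG A is impossible.** -/
theorem configA_false {G : Type*} [Group G] [Finite G] (hG : Cfsg.IsMinSimpleOddOrder G)
    (M : Subgroup G) (hM : IsCoatom M) (E : Subgroup G)
    (hE : Cfsg.IsComplIn E (Cfsg.sigmaCore M) M) (r p : ℕ) [Fact r.Prime] [Fact p.Prime]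
    (hr : r ∈ Cfsg.tau2 M) (hS : ∀ S : Sylow r G, ¬ IsMulCommutative (S : Subgroup G))
    (A : Subgroup G) (hA : A ≤ E ∧ Cfsg.IsElementaryAbelian r A ∧ Nat.card A = r ^ 2)
    (hp : p ∈ Cfsg.tau1 M) (X : Subgroup G) (hXE : X ≤ E) (hX : Nat.card X = p)
    (hC : Cfsg.sigmaCore M ⊓ centralizer (X : Set G) ≠ ⊥)
    (hXA0 : X ≤ centralizer ((A ⊓ centralizer (Cfsg.sigmaCore M : Set G) : Subgroup G) : Set G))
    (hXA : ¬ X ≤ centralizer (A : Set G)) : False :=
  configA_false_of_h28 hG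
    (fun M hM E hE p hp P hPE hP R hRE hR =>
      Cfsg.Agent.S1428.result hG M hM E hE p hp P hPE hP R hRE hR)
    M hM E hE r p hr hS A hA hp X hXE hX hC hXA0 hXA

end Cfsg.Agent.Helper51.BG142
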