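import Mathlib
import Cfsg.Agent.S4208

/-!
# Counting in finite groups whose non-central centralizers are abelian, I

`G` finite, `Z` a central `p'`-subgroup, every `x ∉ Z` has an abelian centralizer.
Commuting is then an equivalence relation on `G ∖ Z`; Sylow `p`-subgroups are abelian and TI.
-/

set_option autoImplicit false

namespace Cfsg.Agent.Helper51.CT

open scoped Pointwise

variable {G : Type*} [Group G]

/-- the centralizer of one element -/
abbrev cent (x : G) : Subgroup G := Subgroup.centralizer ({x} : Set G)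

theorem mem_cent {x y : G} : y ∈ cent x ↔ y * x = x * y := Subgroup.mem_centralizer_singleton_iff

theorem self_mem_cent (x : G) : x ∈ cent x := mem_cent.mpr rfl

/-- The standing hypotheses (H1)-(H3). -/
structure Hyp (p : ℕ) (Z : Subgroup G) : Prop where
  central : Z ≤ Subgroup.center G
  coprimeZ : (Nat.card Z).Coprime p
  comm : ∀ x : G, x ∉ Z → ∀ y w : G, y ∈ cent x → w ∈ cent x → y * w = w * y
  normIdx : ∀ x : G, x ∉ Z → ¬ p ∣ Nat.card (cent x) →
    Nat.card (Subgroup.normalizer ((cent x : Subgroup G) : Set G)) ≤ 2 * Nat.card (cent x)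
  pcent : ∀ x : G, x ∉ Z → p ∣ Nat.card (cent x) → ∃ k : ℕ, Nat.card (cent x) = Nat.card Z * p ^ k

variable {p : ℕ} {Z : Subgroup G}

theorem Hyp.Z_le_cent (h : Hyp p Z) (x : G) : Z ≤ cent x := by
  intro z hz
  rw [mem_cent]
  exact (Subgroup.mem_center_iff.mp (h.central hz) x).symm

/-- commuting non-central elements have the same centralizer -/
theorem Hyp.cent_eq (h : Hyp p Z) {x y : G} (hx : x ∉ Z) (hy : y ∉ Z) (hxy : y ∈ cent x) :
    cent y = cent x := by
  have hyx : x ∈ cent y := by rw [mem_cent] at hxy ⊢; exact hxy.symm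
  apply le_antisymm
  · intro w hw
    rw [mem_cent]
    exact h.comm y hy w x hw hyx
  · intro w hw
    rw [mem_cent]
    exact h.comm x hx w y hw hxy

theorem Hyp.cent_comm (h : Hyp p Z) {x : G} (hx : x ∉ Z) : IsMulCommutative (cent x) :=
  ⟨⟨fun a b => Subtype.ext (h.comm x hx a b a.2 b.2)⟩⟩

theorem conj_cent (g x : G) :
    (cent x).map (MulAut.conj g).toMonoidHom = cent (g * x * g⁻¹) := by
  ext y
  rw [Subgroup.mem_map, mem_cent]
  constructor
  · rintro ⟨w, hw, rfl⟩
    rw [mem_cent] at hw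
    simp only [MulEquiv.coe_toMonoidHom, MulAut.conj_apply]
    calc g * w * g⁻¹ * (g * x * g⁻¹) = g * (w * x) * g⁻¹ := by group
      _ = g * (x * w) * g⁻¹ := by rw [hw]
      _ = g * x * g⁻¹ * (g * w * g⁻¹) := by group
  · intro hy
    refine ⟨g⁻¹ * y * g, ?_, ?_⟩
    · rw [mem_cent]
      calc g⁻¹ * y * g * x = g⁻¹ * (y * (g * x * g⁻¹)) * g := by group
        _ = g⁻¹ * ((g * x * g⁻¹) * y) * g := by rw [hy]
        _ = x * (g⁻¹ * y * g) := by group
    · simp only [MulEquiv.coe_toMonoidHom, MulAut.conj_apply]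
      group

end Cfsg.Agent.Helper51.CT
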