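import Cfsg.Agent.Lib.Helper51.CTCount9

/-!
# Counting in finite groups whose non-central centralizers are abelian, X: the main theorem
-/

set_option autoImplicit false
set_option linter.unusedSectionVars false
set_option linter.unusedVariables false
set_option linter.style.haveILetI false
set_option maxHeartbeats 1600000

namespace Cfsg.Agent.Helper51.CT

variable {G : Type*} [Group G] [Finite G] {p : ℕ} [Fact p.Prime] {Z : Subgroup G}

/-- Case `e = 1` of the main theorem, numerically. -/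
theorem core_e_one (N q z S : ℕ) (hz : 1 ≤ z) (hN : 2 ≤ N) (hq : 3 ≤ q)
    (hS : S + z = z * N)
    -- a class `c` with torus order `T`, normalizer order `M`
    (c T M : ℕ) (hc : c ≤ S) (h4 : N * z * q ≤ 4 * c)
    (hM : M = T ∨ M = 2 * T) (h2 : M = T → N * z * q ≤ 2 * c)
    (hcM : c * M = N * z * q * (T - z)) (hT : 2 * z ≤ T) (hzT : z ∣ T)
    -- any other class is at least a quarter
    (hother : S ≠ c → ∃ c' : ℕ, c + c' ≤ S ∧ N * z * q ≤ 4 * c') :
    N = q + 1 := by
  have hSz : (S : ℤ) = z * N - z := by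
    have := congrArg (fun n : ℕ => (n : ℤ)) hS
    push_cast at this
    linarith
  have hzZ : (z : ℤ) ≥ 1 := by exact_mod_cast hz
  have hNZ : (N : ℤ) ≥ 2 := by exact_mod_cast hN
  have hqZ : (q : ℤ) ≥ 3 := by exact_mod_cast hq
  have hcZ : (c : ℤ) ≤ S := by exact_mod_cast hc
  have h4Z : (N : ℤ) * z * q ≤ 4 * c := by exact_mod_cast h4
  -- q = 3
  have hq3 : q = 3 := by
    have h5 : (N : ℤ) * z * q ≤ 4 * (z * N - z) := by linarith
    have h6 : (z : ℤ) * (N * q) ≤ z * (4 * N - 4) := by nlinarith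
    have h7 : (N : ℤ) * q ≤ 4 * N - 4 := le_of_mul_le_mul_left h6 (by linarith)
    have h8 : (q : ℤ) < 4 := by
      by_contra hh
      push Not at hh
      nlinarith
    have : (q : ℤ) = 3 := by linarith
    exact_mod_cast this
  subst hq3
  rcases hM with hM | hM
  · exfalso
    have := h2 hM
    have h2Z : (N : ℤ) * z * 3 ≤ 2 * c := by exact_mod_cast this
    nlinarith
  · subst hM
    have hTz : (((T - z : ℕ) : ℕ) : ℤ) = (T : ℤ) - z := by
      rw [Nat.cast_sub (by omega)]
    have hcMZ : (c : ℤ) * (2 * T) = N * z * 3 * ((T : ℤ) - z) := by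
      have := congrArg (fun n : ℕ => (n : ℤ)) hcM
      push_cast at this
      rw [hTz] at this
      linarith
    have hTZ : (T : ℤ) ≥ 2 * z := by exact_mod_cast hT
    -- T = 2 z
    have hT2 : T = 2 * z := by
      obtain ⟨m, hm⟩ := hzT
      have hm2 : 2 ≤ m := by
        by_contra hh
        push Not at hh
        have : T ≤ z * 1 := by rw [hm]; exact Nat.mul_le_mul_left z (by omega)
        omega
      have hm3 : m < 3 := by
        by_contra hh
        push Not at hh
        have hT3 : (T : ℤ) ≥ 3 * z := by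
          have : 3 * z ≤ T := by rw [hm]; nlinarith
          exact_mod_cast this
        -- 3 (T - z) ≥ 2 T, so c ≥ N z
        have h9 : (c : ℤ) * (2 * T) ≥ N * z * (2 * T) := by nlinarith
        have hTpos : (0 : ℤ) < 2 * T := by linarith
        have h10 : (c : ℤ) ≥ N * z := le_of_mul_le_mul_right h9 hTpos
        nlinarith
      have : m = 2 := by omega
      rw [hm, this]; ring
    subst hT2
    have h11 : 4 * (c : ℤ) = 3 * N * z := by
      push_cast at hcMZ
      have h12 : (z : ℤ) * (4 * c) = z * (3 * N * z) := by nlinarith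
      exact mul_left_cancel₀ (by linarith : (z : ℤ) ≠ 0) h12
    by_cases hSc : S = c
    · have : (S : ℤ) = c := by exact_mod_cast hSc
      have h13 : (z : ℤ) * (4 * N - 4) = z * (3 * N) := by nlinarith
      have h14 : (4 : ℤ) * N - 4 = 3 * N := mul_left_cancel₀ (by linarith : (z : ℤ) ≠ 0) h13
      have : (N : ℤ) = 4 := by linarith
      have : N = 4 := by exact_mod_cast this
      omega
    · exfalso
      obtain ⟨c', hc', h4'⟩ := hother hSc
      have hc'Z : (c : ℤ) + c' ≤ S := by exact_mod_cast hc'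
      have h4'Z : (N : ℤ) * z * 3 ≤ 4 * c' := by exact_mod_cast h4'
      nlinarith

/-- the expression of `S` -/
theorem coreS (N q z e S : ℕ) (hq : 3 ≤ q) (hz : 1 ≤ z)
    (hS : S + z + N * (z * q - z) = N * (e * (z * q))) :
    (S : ℤ) = N * e * z * q - z - N * z * (q - 1) := by
  have h1 : ((z * q - z : ℕ) : ℤ) = (z : ℤ) * q - z := by
    rw [Nat.cast_sub (by nlinarith)]
    push_cast; ring
  have := congrArg (fun n : ℕ => (n : ℤ)) hS
  push_cast at this
  rw [h1] at this
  linarith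

/-- the self-normalizing case is impossible -/
theorem coreA (N q z e S a : ℕ) (hN : 2 ≤ N) (hq : 3 ≤ q) (hz : 1 ≤ z) (he : 2 ≤ e)
    (hSZ : (S : ℤ) = N * e * z * q - z - N * z * (q - 1))
    (ha : a * (z * e) = N * (e * (z * q)) * (z * e - z))
    (hother : S ≠ a → ∃ b : ℕ, a + b ≤ S ∧ N * (e * (z * q)) ≤ 4 * b) : False := by
  have hzZ : (z : ℤ) ≥ 1 := by exact_mod_cast hz
  have hNZ : (N : ℤ) ≥ 2 := by exact_mod_cast hN
  have hqZ : (q : ℤ) ≥ 3 := by exact_mod_cast hq
  have heZ : (e : ℤ) ≥ 2 := by exact_mod_cast he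
  have h1 : ((z * e - z : ℕ) : ℤ) = (z : ℤ) * e - z := by
    rw [Nat.cast_sub (by nlinarith)]
    push_cast; ring
  have haZ : (a : ℤ) * (z * e) = N * (e * (z * q)) * ((z : ℤ) * e - z) := by
    have := congrArg (fun n : ℕ => (n : ℤ)) ha
    push_cast at this
    rw [h1] at this
    linarith
  have hze : (z : ℤ) * e ≠ 0 := by nlinarith
  have ha2 : (a : ℤ) = N * z * q * (e - 1) := by
    have : (a : ℤ) * (z * e) = (N * z * q * (e - 1)) * (z * e) := by rw [haZ]; ring
    exact mul_right_cancel₀ hze this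
  have hdiff : (S : ℤ) - a = z * (N - 1) := by rw [hSZ, ha2]; ring
  by_cases hSa : S = a
  · have : (S : ℤ) = a := by exact_mod_cast hSa
    nlinarith
  · obtain ⟨b, hb, h4⟩ := hother hSa
    have hbZ : (a : ℤ) + b ≤ S := by exact_mod_cast hb
    have h4Z : (N : ℤ) * (e * (z * q)) ≤ 4 * b := by exact_mod_cast h4
    have h5 : (b : ℤ) ≤ z * (N - 1) := by linarith
    have h6 : (e : ℤ) * q ≥ 6 := by nlinarith
    have h7 : (N : ℤ) * (e * (z * q)) = z * (N * (e * q)) := by ring
    have h8 : (z : ℤ) * (N * (e * q)) ≤ z * (4 * (N - 1)) := by linarith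
    have h9 : (N : ℤ) * (e * q) ≤ 4 * (N - 1) := le_of_mul_le_mul_left h8 (by linarith)
    nlinarith

/-- the main case -/
theorem coreB (N q z e S a k : ℕ) (hN : 2 ≤ N) (hq : 3 ≤ q) (hz : 1 ≤ z) (he : 2 ≤ e)
    (heq : e + 1 ≤ q) (hk : 1 ≤ k) (hNk : N = 1 + k * q)
    (hSZ : (S : ℤ) = N * e * z * q - z - N * z * (q - 1))
    (ha : a * (2 * (z * e)) = N * (e * (z * q)) * (z * e - z)) :
    S ≠ a ∧
    (∀ b b' : ℕ, a + b + b' ≤ S → N * (e * (z * q)) ≤ 4 * b → N * (e * (z * q)) ≤ 4 * b' → False) ∧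
    (∀ b : ℕ, S = a + b → N * (e * (z * q)) ≤ 2 * b → False) ∧
    (∀ b T : ℕ, S = a + b → 2 * z ≤ T → z ∣ T → b * (2 * T) = N * (e * (z * q)) * (T - z) →
      k = 1 ∨ (q = 3 ∧ k = 3 ∧ e = 2 ∧ T = 5 * z)) := by
  have hzZ : (z : ℤ) ≥ 1 := by exact_mod_cast hz
  have hNZ : (N : ℤ) ≥ 2 := by exact_mod_cast hN
  have hqZ : (q : ℤ) ≥ 3 := by exact_mod_cast hq
  have heZ : (e : ℤ) ≥ 2 := by exact_mod_cast he
  have h1 : ((z * e - z : ℕ) : ℤ) = (z : ℤ) * e - z := by
    rw [Nat.cast_sub (by nlinarith)]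
    push_cast; ring
  have haZ : (a : ℤ) * (2 * (z * e)) = N * (e * (z * q)) * ((z : ℤ) * e - z) := by
    have := congrArg (fun n : ℕ => (n : ℤ)) ha
    push_cast at this
    rw [h1] at this
    linarith
  have hze : (z : ℤ) * e ≠ 0 := by nlinarith
  have ha2 : 2 * (a : ℤ) = N * z * q * (e - 1) := by
    have : (2 * (a : ℤ)) * (z * e) = (N * z * q * (e - 1)) * (z * e) := by
      calc (2 * (a : ℤ)) * (z * e) = (a : ℤ) * (2 * (z * e)) := by ring
        _ = N * (e * (z * q)) * ((z : ℤ) * e - z) := haZ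
        _ = (N * z * q * (e - 1)) * (z * e) := by ring
    exact mul_right_cancel₀ hze this
  have hR : 2 * ((S : ℤ) - a) = z * (N * q * (e - 1) + 2 * (N - 1)) := by
    rw [hSZ]
    have : 2 * ((N : ℤ) * e * z * q - z - N * z * (q - 1) - a) =
        2 * (N * e * z * q - z - N * z * (q - 1)) - 2 * a := by ring
    rw [this, ha2]; ring
  have hRpos : 2 * ((S : ℤ) - a) > 0 := by
    rw [hR]
    have : (N : ℤ) * q * (e - 1) + 2 * (N - 1) > 0 := by nlinarith
    nlinarith
  have hgR : (N : ℤ) * (e * (z * q)) > 2 * ((S : ℤ) - a) := by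
    rw [hR]
    have : (N : ℤ) * (e * (z * q)) - z * (N * q * (e - 1) + 2 * (N - 1)) =
        z * (N * q - 2 * N + 2) := by ring
    have h2 : (N : ℤ) * q - 2 * N + 2 > 0 := by nlinarith
    nlinarith
  refine ⟨?_, ?_, ?_, ?_⟩
  · intro hSa
    have : (S : ℤ) = a := by exact_mod_cast hSa
    linarith
  · intro b b' hbb h4 h4'
    have hbbZ : (a : ℤ) + b + b' ≤ S := by exact_mod_cast hbb
    have h4Z : (N : ℤ) * (e * (z * q)) ≤ 4 * b := by exact_mod_cast h4
    have h4Z' : (N : ℤ) * (e * (z * q)) ≤ 4 * b' := by exact_mod_cast h4'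
    linarith
  · intro b hSab h2
    have hSabZ : (S : ℤ) = a + b := by exact_mod_cast hSab
    have h2Z : (N : ℤ) * (e * (z * q)) ≤ 2 * b := by exact_mod_cast h2
    linarith
  · intro b T hSab hT hzT hb
    have hSabZ : (S : ℤ) = a + b := by exact_mod_cast hSab
    obtain ⟨s, rfl⟩ := hzT
    have hs2 : 2 ≤ s := by
      by_contra hh
      push Not at hh
      have : z * s ≤ z * 1 := Nat.mul_le_mul_left z (by omega)
      omega
    have hsZ : (s : ℤ) ≥ 2 := by exact_mod_cast hs2
    have h3 : ((z * s - z : ℕ) : ℤ) = (z : ℤ) * s - z := by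
      rw [Nat.cast_sub (by nlinarith)]
      push_cast; ring
    have hbZ : (b : ℤ) * (2 * (z * s)) = N * (e * (z * q)) * ((z : ℤ) * s - z) := by
      have := congrArg (fun n : ℕ => (n : ℤ)) hb
      push_cast at this
      rw [h3] at this
      linarith
    have h2b : 2 * (b : ℤ) = z * (N * q * (e - 1) + 2 * (N - 1)) := by
      rw [← hR, hSabZ]; ring
    -- (N q (e-1) + 2 (N-1)) s = N e q (s-1)
    have hz0 : (z : ℤ) ≠ 0 := by linarith
    have h5 : ((N : ℤ) * q * (e - 1) + 2 * (N - 1)) * s = N * e * q * (s - 1) := by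
      have hzz : (z : ℤ) * z ≠ 0 := mul_ne_zero hz0 hz0
      have hmain : (z * z : ℤ) * (((N : ℤ) * q * (e - 1) + 2 * (N - 1)) * s) =
          (z * z) * (N * e * q * (s - 1)) := by
        linear_combination (-(z : ℤ) * (s : ℤ)) * h2b + hbZ
      exact mul_left_cancel₀ hzz hmain
    have hNkZ : (N : ℤ) = 1 + k * q := by exact_mod_cast hNk
    have hq0 : (q : ℤ) ≠ 0 := by linarith
    have h6 : (q : ℤ) * ((N : ℤ) * s - N * e - 2 * s * k) = 0 := by
      linear_combination (-1 : ℤ) * h5 + (2 * (s : ℤ)) * hNkZ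
    have h6' : (N : ℤ) * s - N * e - 2 * s * k = 0 := by
      rcases mul_eq_zero.mp h6 with h | h
      · exact absurd h hq0
      · exact h
    have h7 : ((1 : ℤ) + k * q) * s = (1 + k * q) * e + 2 * s * k := by
      rw [← hNkZ]; linarith
    have h8 : (1 + k * q) * s = (1 + k * q) * e + 2 * s * k := by exact_mod_cast h7
    rcases ct_arith k q e s hk hq he heq h8 with h9 | ⟨h9, h10, h11, h12⟩
    · left; exact h9
    · right
      refine ⟨h9, h10, h11, ?_⟩
      rw [h12]; ring

end Cfsg.Agent.Helper51.CT
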