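import Cfsg.Agent.Lib.Helper51.CTCount11

/-!
# Counting in finite groups whose non-central centralizers are abelian, XII: any prime

The main theorem of `CTCount11` with the hypothesis `p ≠ 2` replaced by `3 ≤ |U|` (so it applies
to `p = 2` and Sylow subgroups of order at least `4`).
-/

set_option autoImplicit false
set_option linter.unusedSectionVars false
set_option linter.unusedVariables false
set_option linter.style.haveILetI false
set_option maxHeartbeats 1600000

namespace Cfsg.Agent.Helper51.CT

variable {G : Type*} [Group G] [Finite G] {p : ℕ} [Fact p.Prime] {Z : Subgroup G}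

theorem sylow_ne_bot_of_one_lt (U : Sylow p G) (hN : 1 < Nat.card (Sylow p G)) :
    (U : Subgroup G) ≠ ⊥ := by
  intro hU
  have hall : ∀ P : Sylow p G, P = U := by
    intro P
    apply Sylow.ext
    rw [hU]
    apply (Subgroup.card_eq_one).mp
    have : Nat.card (P : Subgroup G) = Nat.card (U : Subgroup G) := by
      rw [Sylow.card_eq_multiplicity, Sylow.card_eq_multiplicity]
    rw [this, hU, Subgroup.card_bot]
  haveI : Subsingleton (Sylow p G) := ⟨fun a b => (hall a).trans (hall b).symm⟩
  have := Nat.card_of_subsingleton U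
  omega

theorem three_le_card_sylow (hp : p ≠ 2) (U : Sylow p G) (hU : (U : Subgroup G) ≠ ⊥) :
    3 ≤ Nat.card (U : Subgroup G) := by
  obtain ⟨n, hn⟩ := IsPGroup.iff_card.mp U.isPGroup'
  have hp3 : 3 ≤ p := by
    have h2 := (Fact.out : p.Prime).two_le
    omega
  rcases n with _ | n
  · exfalso
    rw [pow_zero] at hn
    exact hU ((Subgroup.card_eq_one).mp hn)
  · rw [hn]
    calc 3 ≤ p := hp3
      _ = p ^ 1 := (pow_one p).symm
      _ ≤ p ^ (n + 1) := Nat.pow_le_pow_right (by omega) (by omega)

/-- numerical set-up (any prime, Sylow subgroups of order at least `3`) -/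
theorem Hyp.setup' (h : Hyp p Z) (U : Sylow p G) (hq3 : 3 ≤ Nat.card (U : Subgroup G))
    (hN : 1 < Nat.card (Sylow p G)) :
    (U : Subgroup G) ≠ ⊥ ∧ 3 ≤ Nat.card (U : Subgroup G) ∧
    (∃ k : ℕ, 1 ≤ k ∧ Nat.card (Sylow p G) = 1 + k * Nat.card (U : Subgroup G)) ∧
    (∃ e : ℕ, 1 ≤ e ∧ Nat.card (Subgroup.normalizer ((U : Subgroup G) : Set G)) =
      e * (Nat.card Z * Nat.card (U : Subgroup G))) ∧
    Nat.card G = Nat.card (Sylow p G) *
      Nat.card (Subgroup.normalizer ((U : Subgroup G) : Set G)) := by
  have hU : (U : Subgroup G) ≠ ⊥ := sylow_ne_bot_of_one_lt U hN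
  refine ⟨hU, hq3, ?_, ?_, ?_⟩
  · obtain ⟨k, hk⟩ := h.card_sylow_modEq U
    refine ⟨k, ?_, ?_⟩
    · rcases k with _ | k
      · rw [mul_zero] at hk; omega
      · omega
    · rw [mul_comm]; omega
  · have hle : Z ⊔ (U : Subgroup G) ≤ Subgroup.normalizer ((U : Subgroup G) : Set G) := by
      apply sup_le
      · intro z hz
        rw [Subgroup.mem_normalizer_iff]
        intro w
        have hc := Subgroup.mem_center_iff.mp (h.central hz)
        have e : z * w * z⁻¹ = w := by rw [← hc w]; group
        rw [e]
      · exact Subgroup.le_normalizer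
    obtain ⟨e, he⟩ := Subgroup.card_dvd_of_le hle
    rw [(h.cent_sylow U hU).1] at he
    refine ⟨e, ?_, by rw [he]; ring⟩
    rcases e with _ | e
    · rw [mul_zero] at he
      have : 0 < Nat.card (Subgroup.normalizer ((U : Subgroup G) : Set G)) := Nat.card_pos
      omega
    · omega
  · rw [Sylow.card_eq_index_normalizer U]
    exact (Subgroup.index_mul_card _).symm

/-- the main theorem for any prime, assuming the Sylow subgroups have order at least `3` -/
theorem Hyp.main' (h : Hyp p Z) (U : Sylow p G) (hq3' : 3 ≤ Nat.card (U : Subgroup G))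
    (hN : 1 < Nat.card (Sylow p G))
    (hB : HypB p Z (U : Subgroup G)) :
    Nat.card (Sylow p G) = Nat.card (U : Subgroup G) + 1 ∨
      (p = 3 ∧ ∀ y : G, y ^ 2 ∈ Z ∨ y ^ 3 ∈ Z ∨ y ^ 5 ∈ Z) := by
  obtain ⟨hU, hq3, ⟨k, hk1, hNk⟩, ⟨e, he1, hBcard⟩, hG⟩ := h.setup' U hq3' hN
  have hz1 : 1 ≤ Nat.card Z := Nat.card_pos
  have hsum := ncard_unip_add_semis p Z
  rw [h.ncard_unip U hU] at hsum
  have hGe : Nat.card G = Nat.card (Sylow p G) *
      (e * (Nat.card Z * Nat.card (U : Subgroup G))) := by rw [hG, hBcard]
  have hS : (semis p Z).ncard + Nat.card Z + Nat.card (Sylow p G) *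
      (Nat.card Z * Nat.card (U : Subgroup G) - Nat.card Z) =
      Nat.card (Sylow p G) * (e * (Nat.card Z * Nat.card (U : Subgroup G))) := by
    rw [← hGe]; linarith
  have hN2 : 2 ≤ Nat.card (Sylow p G) := hN
  -- facts about classes, in numeric form
  have hfour : ∀ x ∈ semis p Z, Nat.card (Sylow p G) *
      (e * (Nat.card Z * Nat.card (U : Subgroup G))) ≤ 4 * (cls Z x).ncard := by
    intro x hx
    rw [← hGe]; exact h.card_le_four_mul_ncard_cls hx
  have htwo : ∀ x ∈ semis p Z,
      Nat.card (Subgroup.normalizer ((cent x : Subgroup G) : Set G)) = Nat.card (cent x) →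
      Nat.card (Sylow p G) *
      (e * (Nat.card Z * Nat.card (U : Subgroup G))) ≤ 2 * (cls Z x).ncard := by
    intro x hx hM
    rw [← hGe]; exact h.card_le_two_mul_ncard_cls hx hM
  have hcls : ∀ x ∈ semis p Z, (cls Z x).ncard *
      Nat.card (Subgroup.normalizer ((cent x : Subgroup G) : Set G)) =
      Nat.card (Sylow p G) * (e * (Nat.card Z * Nat.card (U : Subgroup G))) *
        (Nat.card (cent x) - Nat.card Z) := by
    intro x hx
    rw [← hGe]; exact h.ncard_cls hx.1
  rcases Nat.lt_or_ge e 2 with he2 | he2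
  · -- `e = 1`
    have he : e = 1 := by omega
    subst he
    left
    simp only [one_mul] at hS hfour htwo hcls hGe
    have hS1 : (semis p Z).ncard + Nat.card Z = Nat.card Z * Nat.card (Sylow p G) := by
      have h1 : Nat.card (Sylow p G) *
          (Nat.card Z * Nat.card (U : Subgroup G) - Nat.card Z) +
          Nat.card (Sylow p G) * Nat.card Z =
          Nat.card (Sylow p G) * (Nat.card Z * Nat.card (U : Subgroup G)) := by
        rw [← Nat.mul_add, Nat.sub_add_cancel]
        exact Nat.le_mul_of_pos_right _ (by omega)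
      linarith
    have hSpos : 0 < (semis p Z).ncard := by nlinarith
    obtain ⟨x, hx⟩ := (Set.ncard_pos).mp hSpos
    apply core_e_one (Nat.card (Sylow p G)) (Nat.card (U : Subgroup G)) (Nat.card Z)
      (semis p Z).ncard hz1 hN2 hq3 hS1 (cls Z x).ncard (Nat.card (cent x))
      (Nat.card (Subgroup.normalizer ((cent x : Subgroup G) : Set G)))
      (h.ncard_cls_le hx)
    · have := hfour x hx
      calc Nat.card (Sylow p G) * Nat.card Z * Nat.card (U : Subgroup G)
          = Nat.card (Sylow p G) * (Nat.card Z * Nat.card (U : Subgroup G)) := by ring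
        _ ≤ _ := this
    · exact h.card_normalizer_cases hx
    · intro hM
      have := htwo x hx hM
      calc Nat.card (Sylow p G) * Nat.card Z * Nat.card (U : Subgroup G)
          = Nat.card (Sylow p G) * (Nat.card Z * Nat.card (U : Subgroup G)) := by ring
        _ ≤ _ := this
    · rw [hcls x hx]; ring
    · exact h.two_mul_card_Z_le hx.1
    · exact Subgroup.card_dvd_of_le (h.Z_le_cent x)
    · intro hne
      obtain ⟨y, hy, hyx⟩ := h.exists_not_mem_cls hx hne
      refine ⟨(cls Z y).ncard, h.ncard_two_cls_le hx hy hyx, ?_⟩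
      have := hfour y hy
      calc Nat.card (Sylow p G) * Nat.card Z * Nat.card (U : Subgroup G)
          = Nat.card (Sylow p G) * (Nat.card Z * Nat.card (U : Subgroup G)) := by ring
        _ ≤ _ := this
  · -- `e ≥ 2`
    obtain ⟨c₀, hc₀, hT₀, heq⟩ := h.exists_torus U hU hB hBcard he2
    have hSZ := coreS _ _ _ _ _ hq3 hz1 hS
    have ha := hcls c₀ hc₀
    rw [hT₀] at ha
    rcases h.card_normalizer_cases hc₀ with hM | hM
    · exfalso
      rw [hM, hT₀] at ha
      apply coreA _ _ _ _ _ _ hN2 hq3 hz1 he2 hSZ ha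
      intro hne
      obtain ⟨y, hy, hyx⟩ := h.exists_not_mem_cls hc₀ hne
      exact ⟨(cls Z y).ncard, h.ncard_two_cls_le hc₀ hy hyx, hfour y hy⟩
    · rw [hM, hT₀] at ha
      obtain ⟨hSa, hthree, htwo', hfinal⟩ :=
        coreB _ _ _ _ _ _ k hN2 hq3 hz1 he2 heq hk1 hNk hSZ ha
      obtain ⟨x, hx, hxc⟩ := h.exists_not_mem_cls hc₀ hSa
      have hall : ∀ w ∈ semis p Z, w ∈ cls Z c₀ ∨ w ∈ cls Z x := by
        intro w hw
        by_contra hno
        push Not at hno
        exact hthree _ _ (h.ncard_three_cls_le hc₀ hx hw hxc hno.1 hno.2) (hfour x hx)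
          (hfour w hw)
      have hSab := h.ncard_semis_eq_two hc₀ hx hxc hall
      rcases h.card_normalizer_cases hx with hMx | hMx
      · exfalso
        exact htwo' _ hSab (htwo x hx hMx)
      · have hb := hcls x hx
        rw [hMx] at hb
        rcases hfinal _ _ hSab (h.two_mul_card_Z_le hx.1)
          (Subgroup.card_dvd_of_le (h.Z_le_cent x)) hb with hk | ⟨hq, hk, he, hT⟩
        · left
          rw [hNk, hk]; ring
        · right
          have hp3 : p = 3 := by
            obtain ⟨n, hn⟩ := IsPGroup.iff_card.mp U.isPGroup'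
            rw [hq] at hn
            have hpd : p ∣ 3 := by
              rcases n with _ | n
              · simp at hn
              · rw [hn]; exact dvd_pow_self p (Nat.succ_ne_zero n)
            exact ((Nat.prime_dvd_prime_iff_eq (Fact.out : p.Prime) Nat.prime_three).mp hpd)
          refine ⟨hp3, fun y => ?_⟩
          by_cases hyZ : y ∈ Z
          · left; exact Z.pow_mem hyZ 2
          by_cases hyp : p ∣ Nat.card (cent y)
          · -- unipotent type
            right; left
            obtain ⟨P, hP⟩ := h.exists_sylow_of_unip (⟨hyZ, hyp⟩ : y ∈ unip p Z)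
            have hc := (h.cent_of_mem_sup P hP hyZ).1
            have hPne : (P : Subgroup G) ≠ ⊥ := by
              intro hh
              rw [hh, sup_bot_eq] at hP
              exact hyZ hP
            have hPU : Nat.card (P : Subgroup G) = Nat.card (U : Subgroup G) := by
              rw [Sylow.card_eq_multiplicity, Sylow.card_eq_multiplicity]
            apply h.pow_mem_of_card_cent
            rw [hc, (h.cent_sylow P hPne).1, hPU, hq]
          · have hys : y ∈ semis p Z := ⟨hyZ, hyp⟩
            rcases hall y hys with hy1 | hy1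
            · left
              apply h.pow_mem_of_card_cent
              rw [card_cent_of_mem_cls hy1, hT₀, he]
            · right; right
              apply h.pow_mem_of_card_cent
              rw [card_cent_of_mem_cls hy1, hT]; ring

end Cfsg.Agent.Helper51.CT
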