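import Cfsg.Agent.Lib.Helper51.CTCount1

/-!
# Counting in finite groups whose non-central centralizers are abelian, II: Sylow structure
-/

set_option autoImplicit false
set_option linter.unusedSectionVars false
set_option linter.style.haveILetI false

namespace Cfsg.Agent.Helper51.CT

variable {G : Type*} [Group G] [Finite G] {p : ℕ} [Fact p.Prime] {Z : Subgroup G}

/-- a nontrivial `p`-element is not in `Z` -/
theorem Hyp.not_mem_Z_of_pElement (h : Hyp p Z) {P : Subgroup G} (hP : IsPGroup p P) {u : G}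
    (hu : u ∈ P) (hu1 : u ≠ 1) : u ∉ Z := by
  intro hz
  have h1 : orderOf u ∣ Nat.card Z := by
    have := orderOf_dvd_natCard (⟨u, hz⟩ : Z)
    rwa [Subgroup.orderOf_mk] at this
  obtain ⟨k, hk⟩ := hP ⟨u, hu⟩
  have hk' : u ^ (p ^ k) = 1 := by
    have := congrArg Subtype.val hk
    simpa using this
  have h2 : orderOf u ∣ p ^ k := orderOf_dvd_of_pow_eq_one hk'
  have h3 : (Nat.card Z).Coprime (p ^ k) := Nat.Coprime.pow_right k h.coprimeZ
  have h4 : orderOf u = 1 := Nat.eq_one_of_dvd_coprimes h3 h1 h2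
  exact hu1 (orderOf_eq_one_iff.mp h4)

/-- The torus `Z ⊔ U` of a nontrivial Sylow `p`-subgroup: it is the centralizer of every
nonidentity element of `U` and has order `|Z| |U|`. -/
theorem Hyp.cent_sylow (h : Hyp p Z) (U : Sylow p G) (hU : (U : Subgroup G) ≠ ⊥) :
    Nat.card (Z ⊔ (U : Subgroup G) : Subgroup G) = Nat.card Z * Nat.card U ∧
      ∀ u ∈ (U : Subgroup G), u ≠ 1 → cent u = Z ⊔ (U : Subgroup G) := by
  haveI : Nontrivial ↥(U : Subgroup G) := (Subgroup.nontrivial_iff_ne_bot _).mpr hU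
  haveI := U.isPGroup'.center_nontrivial
  obtain ⟨⟨⟨y, hyU⟩, hyc⟩, hy1⟩ := exists_ne (1 : Subgroup.center ↥(U : Subgroup G))
  have hy1' : y ≠ 1 := by
    intro hh
    apply hy1
    apply Subtype.ext
    apply Subtype.ext
    exact hh
  have hyZ : y ∉ Z := h.not_mem_Z_of_pElement U.isPGroup' hyU hy1'
  have hUle : (U : Subgroup G) ≤ cent y := by
    intro u hu
    rw [mem_cent]
    have := (Subgroup.mem_center_iff.mp hyc) ⟨u, hu⟩
    exact (congrArg Subtype.val this)
  have hZle : Z ≤ cent y := h.Z_le_cent y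
  have hpd : p ∣ Nat.card (cent y) := by
    have h1 : p ∣ Nat.card (U : Subgroup G) := by
      obtain ⟨n, hn⟩ := IsPGroup.iff_card.mp U.isPGroup'
      rw [hn]
      rcases n with _ | n
      · exfalso
        rw [pow_zero] at hn
        have := (Subgroup.card_eq_one).mp hn
        exact hU this
      · exact dvd_pow_self p (Nat.succ_ne_zero n)
    exact h1.trans (Subgroup.card_dvd_of_le hUle)
  obtain ⟨k, hk⟩ := h.pcent y hyZ hpd
  -- `p ^ k = |U|`
  have hUk : Nat.card (U : Subgroup G) = p ^ k := by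
    obtain ⟨n, hn⟩ := IsPGroup.iff_card.mp U.isPGroup'
    apply Nat.dvd_antisymm
    · have h1 : Nat.card (U : Subgroup G) ∣ Nat.card Z * p ^ k := by
        rw [← hk]; exact Subgroup.card_dvd_of_le hUle
      have h2 : (Nat.card (U : Subgroup G)).Coprime (Nat.card Z) := by
        rw [hn]; exact (Nat.Coprime.pow_right n h.coprimeZ).symm
      exact h2.dvd_of_dvd_mul_left h1
    · apply U.pow_dvd_card_of_pow_dvd_card
      have h1 : p ^ k ∣ Nat.card (cent y) := by rw [hk]; exact dvd_mul_left _ _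
      exact h1.trans (Subgroup.card_subgroup_dvd_card _)
  have hsup_le : Z ⊔ (U : Subgroup G) ≤ cent y := sup_le hZle hUle
  have hcard_le : Nat.card (cent y) ≤ Nat.card (Z ⊔ (U : Subgroup G) : Subgroup G) := by
    rw [hk, ← hUk]
    apply Nat.le_of_dvd Nat.card_pos
    have hcop : (Nat.card Z).Coprime (Nat.card (U : Subgroup G)) := by
      rw [hUk]; exact Nat.Coprime.pow_right k h.coprimeZ
    exact hcop.mul_dvd_of_dvd_of_dvd (Subgroup.card_dvd_of_le le_sup_left)
      (Subgroup.card_dvd_of_le le_sup_right)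
  have heq : Z ⊔ (U : Subgroup G) = cent y :=
    Subgroup.eq_of_le_of_card_ge hsup_le hcard_le
  refine ⟨by rw [heq, hk, hUk], fun u hu hu1 => ?_⟩
  rw [heq]
  exact h.cent_eq hyZ (h.not_mem_Z_of_pElement U.isPGroup' hu hu1) (hUle hu)

/-- Sylow `p`-subgroups are abelian -/
theorem Hyp.sylow_comm (h : Hyp p Z) (U : Sylow p G) :
    ∀ a ∈ (U : Subgroup G), ∀ b ∈ (U : Subgroup G), a * b = b * a := by
  intro a ha b hb
  by_cases ha1 : a = 1
  · rw [ha1, one_mul, mul_one]
  have hU : (U : Subgroup G) ≠ ⊥ := by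
    intro hh
    rw [hh, Subgroup.mem_bot] at ha
    exact ha1 ha
  have hc := (h.cent_sylow U hU).2 a ha ha1
  have hb' : b ∈ cent a := by rw [hc]; exact Subgroup.mem_sup_right hb
  rw [mem_cent] at hb'
  exact hb'.symm

/-- a Sylow subgroup inside the centralizer of a nonidentity element of `U` equals `U` -/
theorem Hyp.sylow_eq_of_le_cent (h : Hyp p Z) (U U' : Sylow p G) {u : G}
    (hu : u ∈ (U : Subgroup G)) (hu1 : u ≠ 1) (hle : (U' : Subgroup G) ≤ cent u) : U = U' := by
  have hU : (U : Subgroup G) ≠ ⊥ := by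
    intro hh; rw [hh, Subgroup.mem_bot] at hu; exact hu1 hu
  have h1 := (h.cent_sylow U hU).2 u hu hu1
  have huZ : u ∉ Z := h.not_mem_Z_of_pElement U.isPGroup' hu hu1
  -- `U'` normalizes `U`
  have hnorm : (U' : Subgroup G) ≤ Subgroup.normalizer ((U : Subgroup G) : Set G) := by
    intro x hx
    have hx' : x ∈ cent u := hle hx
    have hxinv : x⁻¹ ∈ cent u := Subgroup.inv_mem _ hx'
    have hcomm : ∀ w ∈ (U : Subgroup G), x * w * x⁻¹ = w := by
      intro w hw
      have hw' : w ∈ cent u := by rw [h1]; exact Subgroup.mem_sup_right hw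
      have := h.comm u huZ x w hx' hw'
      rw [this]; group
    rw [Subgroup.mem_normalizer_iff]
    intro w
    constructor
    · intro hw; rw [hcomm w hw]; exact hw
    · intro hw
      have e : w = x⁻¹ * (x * w * x⁻¹) * x⁻¹⁻¹ := by group
      have hcomm' : x⁻¹ * (x * w * x⁻¹) * x⁻¹⁻¹ = x * w * x⁻¹ := by
        have hw' : x * w * x⁻¹ ∈ cent u := by rw [h1]; exact Subgroup.mem_sup_right hw
        have := h.comm u huZ x⁻¹ (x * w * x⁻¹) hxinv hw'
        rw [this]; group
      rw [e, hcomm']; exact hw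
  have h3 : (U' : Subgroup G) ⊓ Subgroup.normalizer ((U : Subgroup G) : Set G) =
      (U' : Subgroup G) ⊓ (U : Subgroup G) := U'.isPGroup'.inf_normalizer_sylow U
  rw [inf_eq_left.mpr hnorm] at h3
  have h4 : (U' : Subgroup G) ≤ U := by rw [h3]; exact inf_le_right
  exact (Sylow.ext (U'.3 U.isPGroup' h4)).symm ▸ rfl

/-- Sylow `p`-subgroups are TI -/
theorem Hyp.sylow_TI (h : Hyp p Z) (U U' : Sylow p G) {u : G} (hu : u ∈ (U : Subgroup G))
    (hu' : u ∈ (U' : Subgroup G)) (hu1 : u ≠ 1) : U = U' := by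
  have hU' : (U' : Subgroup G) ≠ ⊥ := by
    intro hh; rw [hh, Subgroup.mem_bot] at hu'; exact hu1 hu'
  have h2 := (h.cent_sylow U' hU').2 u hu' hu1
  apply h.sylow_eq_of_le_cent U U' hu hu1
  rw [h2]
  exact le_sup_right

end Cfsg.Agent.Helper51.CT
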