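import Cfsg.Agent.Lib.Helper51.CTCount3

/-!
# Counting in finite groups whose non-central centralizers are abelian, IV:
the elements of unipotent type
-/

set_option autoImplicit false
set_option linter.unusedSectionVars false
set_option linter.style.haveILetI false

namespace Cfsg.Agent.Helper51.CT

variable {G : Type*} [Group G] [Finite G] {p : ℕ} [Fact p.Prime] {Z : Subgroup G}

/-- noncentral elements whose centralizer has order divisible by `p` -/
def unip (p : ℕ) (Z : Subgroup G) : Set G := {x | x ∉ Z ∧ p ∣ Nat.card (cent x)}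

/-- noncentral elements whose centralizer has order prime to `p` -/
def semis (p : ℕ) (Z : Subgroup G) : Set G := {x | x ∉ Z ∧ ¬ p ∣ Nat.card (cent x)}

theorem unip_union_semis (p : ℕ) (Z : Subgroup G) : unip p Z ∪ semis p Z = (Z : Set G)ᶜ := by
  ext x
  simp only [unip, semis, Set.mem_union, Set.mem_ofPred_eq, Set.mem_compl_iff, SetLike.mem_coe]
  tauto

theorem disjoint_unip_semis (p : ℕ) (Z : Subgroup G) : Disjoint (unip p Z) (semis p Z) := by
  rw [Set.disjoint_left]
  intro x hx hx'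
  exact hx'.2 hx.2

theorem ncard_unip_add_semis (p : ℕ) (Z : Subgroup G) :
    (unip p Z).ncard + (semis p Z).ncard + Nat.card Z = Nat.card G := by
  rw [← Set.ncard_union_eq (disjoint_unip_semis p Z), unip_union_semis]
  have := Set.ncard_compl_add_ncard (Z : Set G)
  rw [← Nat.card_coe_set_eq (Z : Set G)] at this
  exact this

/-- every element of unipotent type lies in `Z ⊔ P` for a Sylow subgroup `P` -/
theorem Hyp.exists_sylow_of_unip (h : Hyp p Z) {x : G} (hx : x ∈ unip p Z) :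
    ∃ P : Sylow p G, x ∈ Z ⊔ (P : Subgroup G) := by
  obtain ⟨hxZ, hpd⟩ := hx
  obtain ⟨⟨v, hv⟩, hvord⟩ := exists_prime_orderOf_dvd_card' p hpd
  have hvord' : orderOf v = p := by rwa [Subgroup.orderOf_mk] at hvord
  have hv1 : v ≠ 1 := by
    intro hh
    rw [hh, orderOf_one] at hvord'
    exact (Fact.out : p.Prime).one_lt.ne hvord'
  have hvp : IsPGroup p (Subgroup.zpowers v) := by
    rw [IsPGroup.iff_card]
    exact ⟨1, by rw [Nat.card_zpowers, hvord', pow_one]⟩
  obtain ⟨P, hP⟩ := hvp.exists_le_sylow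
  have hvP : v ∈ (P : Subgroup G) := hP (Subgroup.mem_zpowers v)
  have hPne : (P : Subgroup G) ≠ ⊥ := by
    intro hh; rw [hh, Subgroup.mem_bot] at hvP; exact hv1 hvP
  have hvZ : v ∉ Z := h.not_mem_Z_of_pElement P.isPGroup' hvP hv1
  have h1 : cent v = cent x := h.cent_eq hxZ hvZ hv
  have h2 := (h.cent_sylow P hPne).2 v hvP hv1
  refine ⟨P, ?_⟩
  rw [← h2, h1]
  exact self_mem_cent x

/-- noncentral elements of `Z ⊔ P` are of unipotent type with centralizer `Z ⊔ P` -/
theorem Hyp.cent_of_mem_sup (h : Hyp p Z) (P : Sylow p G) {x : G} (hx : x ∈ Z ⊔ (P : Subgroup G))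
    (hxZ : x ∉ Z) : cent x = Z ⊔ (P : Subgroup G) ∧ x ∈ unip p Z := by
  have hPne : (P : Subgroup G) ≠ ⊥ := by
    intro hh
    rw [hh, sup_bot_eq] at hx
    exact hxZ hx
  obtain ⟨⟨u, hu⟩, hu1⟩ := (Subgroup.ne_bot_iff_exists_ne_one).mp hPne
  have hu1' : u ≠ 1 := fun hh => hu1 (Subtype.ext hh)
  have huZ : u ∉ Z := h.not_mem_Z_of_pElement P.isPGroup' hu hu1'
  obtain ⟨hcard, hc⟩ := h.cent_sylow P hPne
  have h2 := hc u hu hu1'
  have hxc : x ∈ cent u := by rw [h2]; exact hx
  have h3 : cent x = cent u := h.cent_eq huZ hxZ hxc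
  refine ⟨by rw [h3, h2], hxZ, ?_⟩
  rw [h3, h2, hcard]
  obtain ⟨n, hn⟩ := IsPGroup.iff_card.mp P.isPGroup'
  rcases n with _ | n
  · exfalso
    rw [pow_zero] at hn
    exact hPne ((Subgroup.card_eq_one).mp hn)
  · rw [hn]
    exact dvd_mul_of_dvd_right (dvd_pow_self p (Nat.succ_ne_zero n)) _

/-- the Sylow subgroup attached to an element of unipotent type is unique -/
theorem Hyp.sylow_unique_of_unip (h : Hyp p Z) (P P' : Sylow p G) {x : G}
    (hx : x ∈ Z ⊔ (P : Subgroup G)) (hx' : x ∈ Z ⊔ (P' : Subgroup G)) (hxZ : x ∉ Z) : P = P' := by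
  have h1 := (h.cent_of_mem_sup P hx hxZ).1
  have h2 := (h.cent_of_mem_sup P' hx' hxZ).1
  have hPne : (P : Subgroup G) ≠ ⊥ := by
    intro hh
    rw [hh, sup_bot_eq] at hx
    exact hxZ hx
  obtain ⟨⟨u, hu⟩, hu1⟩ := (Subgroup.ne_bot_iff_exists_ne_one).mp hPne
  have hu1' : u ≠ 1 := fun hh => hu1 (Subtype.ext hh)
  have h3 := (h.cent_sylow P hPne).2 u hu hu1'
  apply h.sylow_eq_of_le_cent P P' hu hu1'
  rw [h3, ← h1, h2]
  exact le_sup_right

/-- the number of elements of unipotent type -/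
theorem Hyp.ncard_unip (h : Hyp p Z) (U : Sylow p G) (hU : (U : Subgroup G) ≠ ⊥) :
    (unip p Z).ncard =
      Nat.card (Sylow p G) * (Nat.card Z * Nat.card (U : Subgroup G) - Nat.card Z) := by
  classical
  haveI : Fintype (Sylow p G) := Fintype.ofFinite _
  let β : Sylow p G → Type _ := fun P => {x : G // x ∈ Z ⊔ (P : Subgroup G) ∧ x ∉ Z}
  let f : (Σ P : Sylow p G, β P) → ↥(unip p Z) := fun a =>
    ⟨a.2.1, (h.cent_of_mem_sup a.1 a.2.2.1 a.2.2.2).2⟩
  have hf : Function.Bijective f := by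
    constructor
    · rintro ⟨P, x, hx, hxZ⟩ ⟨P', x', hx', hxZ'⟩ hEq
      have hxx : x = x' := congrArg Subtype.val hEq
      subst hxx
      have hPP : P = P' := h.sylow_unique_of_unip P P' hx hx' hxZ
      subst hPP
      rfl
    · rintro ⟨x, hx⟩
      obtain ⟨P, hP⟩ := h.exists_sylow_of_unip hx
      exact ⟨⟨P, x, hP, hx.1⟩, rfl⟩
  have hcard := Nat.card_congr (Equiv.ofBijective f hf)
  rw [Nat.card_coe_set_eq] at hcard
  rw [← hcard, Nat.card_sigma]
  have hβ : ∀ P : Sylow p G, Nat.card (β P) =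
      Nat.card Z * Nat.card (U : Subgroup G) - Nat.card Z := by
    intro P
    have hPU : Nat.card (P : Subgroup G) = Nat.card (U : Subgroup G) := by
      rw [Sylow.card_eq_multiplicity, Sylow.card_eq_multiplicity]
    have hPne : (P : Subgroup G) ≠ ⊥ := by
      intro hh
      rw [hh, Subgroup.card_bot] at hPU
      exact hU ((Subgroup.card_eq_one).mp hPU.symm)
    have e : β P = ↥(((Z ⊔ (P : Subgroup G) : Subgroup G) : Set G) \ (Z : Set G)) := rfl
    rw [e, Nat.card_coe_set_eq, Set.ncard_sdiff (by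
      intro z hz; exact (le_sup_left : Z ≤ Z ⊔ (P : Subgroup G)) hz)]
    rw [← Nat.card_coe_set_eq, ← Nat.card_coe_set_eq]
    show Nat.card ↥(Z ⊔ (P : Subgroup G) : Subgroup G) - Nat.card ↥Z = _
    rw [(h.cent_sylow P hPne).1, hPU]
  rw [Finset.sum_congr rfl (fun P _ => hβ P), Finset.sum_const, Finset.card_univ, smul_eq_mul,
    Nat.card_eq_fintype_card (α := Sylow p G)]

end Cfsg.Agent.Helper51.CT
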