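import Cfsg.Agent.Lib.Helper51.CTCount4

/-!
# Counting in finite groups whose non-central centralizers are abelian, V:
conjugacy classes of tori
-/

set_option autoImplicit false
set_option linter.unusedSectionVars false
set_option linter.style.haveILetI false

namespace Cfsg.Agent.Helper51.CT

variable {G : Type*} [Group G] [Finite G] {p : ℕ} [Fact p.Prime] {Z : Subgroup G}

/-- the noncentral elements whose centralizer is conjugate to that of `x` -/
def cls (Z : Subgroup G) (x : G) : Set G :=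
  {y | y ∉ Z ∧ ∃ g : G, cent y = cent (g * x * g⁻¹)}

omit [Finite G] [Fact p.Prime] in
theorem Hyp.conj_not_mem (h : Hyp p Z) {x : G} (hx : x ∉ Z) (g : G) : g * x * g⁻¹ ∉ Z := by
  intro hz
  apply hx
  have hc := Subgroup.mem_center_iff.mp (h.central hz) g
  have e : x = g⁻¹ * (g * x * g⁻¹) * g := by group
  have e2 : g⁻¹ * (g * x * g⁻¹) * g = g * x * g⁻¹ := by
    calc g⁻¹ * (g * x * g⁻¹) * g = g⁻¹ * ((g * x * g⁻¹) * g) := by group
      _ = g⁻¹ * (g * (g * x * g⁻¹)) := by rw [hc]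
      _ = g * x * g⁻¹ := by group
  rw [e, e2]; exact hz

omit [Finite G] in
theorem card_cent_conj (g x : G) : Nat.card (cent (g * x * g⁻¹)) = Nat.card (cent x) := by
  rw [← conj_cent]
  exact Subgroup.card_map_of_injective (MulAut.conj g).injective

omit [Finite G] in
theorem card_normalizer_cent_conj (g x : G) :
    Nat.card (Subgroup.normalizer ((cent (g * x * g⁻¹) : Subgroup G) : Set G)) =
      Nat.card (Subgroup.normalizer ((cent x : Subgroup G) : Set G)) := by
  rw [← conj_cent]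
  have := Subgroup.map_equiv_normalizer_eq (cent x) (MulAut.conj g)
  rw [← this]
  exact Subgroup.card_map_of_injective (MulAut.conj g).injective

omit [Finite G] [Fact p.Prime] in
theorem Hyp.cent_conj_of_mem (h : Hyp p Z) {x t : G} (hx : x ∉ Z) (ht : t ∈ cent x) (htZ : t ∉ Z)
    (g : G) : cent (g * t * g⁻¹) = cent (g * x * g⁻¹) := by
  rw [← conj_cent, ← conj_cent, h.cent_eq hx htZ ht]

omit [Finite G] [Fact p.Prime] in
theorem conj_conj_cent (g r x : G) :
    cent (g * (r * x * r⁻¹) * g⁻¹) = cent ((g * r) * x * (g * r)⁻¹) := by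
  congr 1
  group

omit [Finite G] [Fact p.Prime] in
theorem Hyp.self_mem_cls (h : Hyp p Z) {x : G} (hx : x ∉ Z) : x ∈ cls Z x :=
  ⟨hx, 1, by simp⟩

omit [Finite G] [Fact p.Prime] in
theorem Hyp.cls_subset_of_mem (h : Hyp p Z) {x y : G} (hy : y ∈ cls Z x) :
    cls Z y ⊆ cls Z x := by
  rintro w ⟨hwZ, g, hg⟩
  obtain ⟨hyZ, r, hr⟩ := hy
  refine ⟨hwZ, g * r, ?_⟩
  rw [hg, ← conj_cent, hr, conj_cent, conj_conj_cent]

omit [Finite G] [Fact p.Prime] in
theorem Hyp.mem_cls_symm (h : Hyp p Z) {x y : G} (hx : x ∉ Z) (hy : y ∈ cls Z x) :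
    x ∈ cls Z y := by
  obtain ⟨hyZ, r, hr⟩ := hy
  refine ⟨hx, r⁻¹, ?_⟩
  rw [← conj_cent, hr, conj_cent, conj_conj_cent]
  simp

omit [Finite G] [Fact p.Prime] in
theorem Hyp.cls_eq_of_mem (h : Hyp p Z) {x y : G} (hx : x ∉ Z) (hy : y ∈ cls Z x) :
    cls Z y = cls Z x :=
  Set.Subset.antisymm (h.cls_subset_of_mem hy) (h.cls_subset_of_mem (h.mem_cls_symm hx hy))

omit [Finite G] [Fact p.Prime] in
theorem Hyp.disjoint_cls (h : Hyp p Z) {x y : G} (hx : x ∉ Z) (hyZ : y ∉ Z) (hy : y ∉ cls Z x) :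
    Disjoint (cls Z x) (cls Z y) := by
  rw [Set.disjoint_left]
  intro w hwx hwy
  apply hy
  have h1 : cls Z w = cls Z x := h.cls_eq_of_mem hx hwx
  have h2 : cls Z w = cls Z y := h.cls_eq_of_mem hyZ hwy
  have : y ∈ cls Z y := h.self_mem_cls hyZ
  rw [← h2, h1] at this
  exact this

omit [Finite G] in
theorem card_cent_of_mem_cls {x y : G} (hy : y ∈ cls Z x) :
    Nat.card (cent y) = Nat.card (cent x) := by
  obtain ⟨_, g, hg⟩ := hy
  rw [hg, card_cent_conj]

omit [Finite G] in
theorem card_normalizer_of_mem_cls {x y : G} (hy : y ∈ cls Z x) :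
    Nat.card (Subgroup.normalizer ((cent y : Subgroup G) : Set G)) =
      Nat.card (Subgroup.normalizer ((cent x : Subgroup G) : Set G)) := by
  obtain ⟨_, g, hg⟩ := hy
  rw [hg, card_normalizer_cent_conj]

omit [Finite G] in
theorem cls_subset_semis {x : G} (hx : x ∈ semis p Z) : cls Z x ⊆ semis p Z := by
  intro y hy
  refine ⟨hy.1, ?_⟩
  rw [card_cent_of_mem_cls hy]
  exact hx.2

omit [Finite G] [Fact p.Prime] in
theorem mem_normalizer_of_cent_conj_eq {n x : G} (hn : cent (n * x * n⁻¹) = cent x) :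
    n ∈ Subgroup.normalizer ((cent x : Subgroup G) : Set G) := by
  rw [Subgroup.mem_normalizer_iff]
  intro w
  constructor
  · intro hw
    rw [← hn, ← conj_cent]
    exact ⟨w, hw, rfl⟩
  · intro hw
    rw [← hn, ← conj_cent] at hw
    obtain ⟨w', hw', e⟩ := hw
    simp only [MulEquiv.coe_toMonoidHom, MulAut.conj_apply] at e
    have : w' = w := by
      have := congrArg (fun t => n⁻¹ * t * n) e
      simpa [mul_assoc] using this
    rw [← this]; exact hw'

omit [Fact p.Prime] in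
theorem cent_conj_eq_of_mem_normalizer {n x : G}
    (hn : n ∈ Subgroup.normalizer ((cent x : Subgroup G) : Set G)) :
    cent (n * x * n⁻¹) = cent x := by
  rw [← conj_cent]
  apply Subgroup.eq_of_le_of_card_ge
  · rintro _ ⟨w, hw, rfl⟩
    exact (Subgroup.mem_normalizer_iff.mp hn w).mp hw
  · rw [Subgroup.card_map_of_injective (MulAut.conj n).injective]

/-- the size of a class of tori -/
theorem Hyp.ncard_cls (h : Hyp p Z) {x : G} (hx : x ∉ Z) :
    (cls Z x).ncard * Nat.card (Subgroup.normalizer ((cent x : Subgroup G) : Set G)) =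
      Nat.card G * (Nat.card (cent x) - Nat.card Z) := by
  classical
  set S : Set G := ((cent x : Subgroup G) : Set G) \ (Z : Set G) with hS
  have hScard : S.ncard = Nat.card (cent x) - Nat.card Z := by
    rw [hS, Set.ncard_sdiff (fun z hz => h.Z_le_cent x hz)]
    rfl
  -- representatives
  let r : G → G := fun y => if hy : y ∈ cls Z x then Classical.choose hy.2 else 1
  have hr : ∀ y, y ∈ cls Z x → cent y = cent (r y * x * (r y)⁻¹) := by
    intro y hy
    simp only [r, dif_pos hy]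
    exact Classical.choose_spec hy.2
  have hA : ∀ (g : G) (t : G), t ∈ S → g * t * g⁻¹ ∈ cls Z x := by
    intro g t ht
    exact ⟨h.conj_not_mem ht.2 g, g, h.cent_conj_of_mem hx ht.1 ht.2 g⟩
  have hB : ∀ y, y ∈ cls Z x → ∀ n ∈ Subgroup.normalizer ((cent x : Subgroup G) : Set G),
      (r y * n)⁻¹ * y * (r y * n) ∈ S := by
    intro y hy n hn
    have h1 : y ∈ cent (r y * x * (r y)⁻¹) := by rw [← hr y hy]; exact self_mem_cent y
    rw [← conj_cent] at h1
    obtain ⟨w, hw, e⟩ := h1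
    simp only [MulEquiv.coe_toMonoidHom, MulAut.conj_apply] at e
    have e2 : (r y * n)⁻¹ * y * (r y * n) = n⁻¹ * w * n⁻¹⁻¹ := by
      generalize r y = ry at e ⊢
      rw [← e]; group
    refine ⟨?_, ?_⟩
    · rw [e2]
      exact (Subgroup.mem_normalizer_iff.mp (Subgroup.inv_mem _ hn) w).mp hw
    · have := h.conj_not_mem hy.1 (r y * n)⁻¹
      simpa using this
  have hC : ∀ (g : G) (t : G), t ∈ S →
      (r (g * t * g⁻¹))⁻¹ * g ∈ Subgroup.normalizer ((cent x : Subgroup G) : Set G) := by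
    intro g t ht
    apply mem_normalizer_of_cent_conj_eq
    have h1 := hr _ (hA g t ht)
    rw [h.cent_conj_of_mem hx ht.1 ht.2 g] at h1
    have e : (r (g * t * g⁻¹))⁻¹ * g * x * ((r (g * t * g⁻¹))⁻¹ * g)⁻¹ =
        (r (g * t * g⁻¹))⁻¹ * (g * x * g⁻¹) * (r (g * t * g⁻¹))⁻¹⁻¹ := by group
    rw [e, ← conj_cent, h1, conj_cent, conj_conj_cent]
    simp
  let e : G × ↥S ≃ ↥(cls Z x) × ↥(Subgroup.normalizer ((cent x : Subgroup G) : Set G)) :=
    { toFun := fun a => (⟨a.1 * a.2.1 * a.1⁻¹, hA a.1 a.2.1 a.2.2⟩,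
        ⟨(r (a.1 * a.2.1 * a.1⁻¹))⁻¹ * a.1, hC a.1 a.2.1 a.2.2⟩)
      invFun := fun b => (r b.1.1 * b.2.1,
        ⟨(r b.1.1 * b.2.1)⁻¹ * b.1.1 * (r b.1.1 * b.2.1), hB b.1.1 b.1.2 b.2.1 b.2.2⟩)
      left_inv := by
        rintro ⟨g, t, ht⟩
        apply Prod.ext
        · simp
        · apply Subtype.ext
          simp only
          group
      right_inv := by
        rintro ⟨⟨y, hy⟩, n, hn⟩
        have e1 : r y * n * ((r y * n)⁻¹ * y * (r y * n)) * (r y * n)⁻¹ = y := by group
        apply Prod.ext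
        · apply Subtype.ext
          exact e1
        · apply Subtype.ext
          simp only
          rw [e1]
          group }
  have hcard := Nat.card_congr e
  rw [Nat.card_prod, Nat.card_prod, Nat.card_coe_set_eq, Nat.card_coe_set_eq, hScard] at hcard
  exact hcard.symm

end Cfsg.Agent.Helper51.CT
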