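import Cfsg.Agent.Lib.Helper51.CTCount5

/-!
# Counting in finite groups whose non-central centralizers are abelian, VI:
bounds for classes, and the complement torus in the Sylow normalizer
-/

set_option autoImplicit false
set_option linter.unusedSectionVars false
set_option linter.unusedVariables false
set_option linter.style.haveILetI false

namespace Cfsg.Agent.Helper51.CT

variable {G : Type*} [Group G] [Finite G] {p : ℕ} [Fact p.Prime] {Z : Subgroup G}

omit [Finite G] [Fact p.Prime] in
theorem Hyp.Z_normal (h : Hyp p Z) : Z.Normal := by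
  constructor
  intro z hz g
  have hc := Subgroup.mem_center_iff.mp (h.central hz) g
  have e : g * z * g⁻¹ = z := by rw [hc]; group
  rw [e]; exact hz

omit [Fact p.Prime] in
theorem Hyp.pow_mem_Z (h : Hyp p Z) {T : Subgroup G} (hZT : Z ≤ T) {m : ℕ}
    (hm : Nat.card T = Nat.card Z * m) {x : G} (hx : x ∈ T) : x ^ m ∈ Z := by
  haveI := h.Z_normal
  have h1 := Subgroup.pow_relIndex_mem Z hx
  have h2 : Nat.card Z * Z.relIndex T = Nat.card T := by
    have := Subgroup.relIndex_mul_relIndex (⊥ : Subgroup G) Z T bot_le hZT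
    rwa [Subgroup.relIndex_bot_left, Subgroup.relIndex_bot_left] at this
  have h3 : Z.relIndex T = m := by
    have hpos : 0 < Nat.card Z := Nat.card_pos
    rw [hm] at h2
    exact Nat.eq_of_mul_eq_mul_left hpos h2
  rwa [h3] at h1

omit [Fact p.Prime] in
/-- the torus of a noncentral element has at least `2 |Z|` elements -/
theorem Hyp.two_mul_card_Z_le (h : Hyp p Z) {x : G} (hx : x ∉ Z) :
    2 * Nat.card Z ≤ Nat.card (cent x) := by
  have hdvd : Nat.card Z ∣ Nat.card (cent x) := Subgroup.card_dvd_of_le (h.Z_le_cent x)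
  obtain ⟨m, hm⟩ := hdvd
  have hpos : 0 < Nat.card (cent x) := Nat.card_pos
  rcases m with _ | _ | m
  · rw [hm] at hpos; simp at hpos
  · exfalso
    rw [zero_add, mul_one] at hm
    have : cent x = Z :=
      (Subgroup.eq_of_le_of_card_ge (h.Z_le_cent x) hm.le).symm
    apply hx
    rw [← this]
    exact self_mem_cent x
  · rw [hm]
    nlinarith [Nat.card_pos (α := Z)]

/-- every class of tori contains at least a quarter of the group -/
theorem Hyp.card_le_four_mul_ncard_cls (h : Hyp p Z) {x : G} (hx : x ∈ semis p Z) :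
    Nat.card G ≤ 4 * (cls Z x).ncard := by
  have h1 := h.ncard_cls hx.1
  have h2 := h.normIdx x hx.1 hx.2
  have h3 := h.two_mul_card_Z_le hx.1
  have hTpos : 0 < Nat.card (cent x) := Nat.card_pos
  set T := Nat.card (cent x)
  set N := Nat.card (Subgroup.normalizer ((cent x : Subgroup G) : Set G))
  set c := (cls Z x).ncard
  set g := Nat.card G
  set z := Nat.card Z
  -- c * N = g * (T - z), N ≤ 2 T, 2 z ≤ T
  have h4 : g * T ≤ 2 * (g * (T - z)) := by
    have : T ≤ 2 * (T - z) := by omega
    calc g * T ≤ g * (2 * (T - z)) := Nat.mul_le_mul_left g this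
      _ = 2 * (g * (T - z)) := by ring
  have h5 : g * T ≤ 4 * c * T := by
    calc g * T ≤ 2 * (g * (T - z)) := h4
      _ = 2 * (c * N) := by rw [h1]
      _ ≤ 2 * (c * (2 * T)) := by
        apply Nat.mul_le_mul_left
        exact Nat.mul_le_mul_left c h2
      _ = 4 * c * T := by ring
  exact Nat.le_of_mul_le_mul_right h5 hTpos

/-- a class of self-normalizing tori contains at least half of the group -/
theorem Hyp.card_le_two_mul_ncard_cls (h : Hyp p Z) {x : G} (hx : x ∈ semis p Z)
    (hN : Nat.card (Subgroup.normalizer ((cent x : Subgroup G) : Set G)) = Nat.card (cent x)) :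
    Nat.card G ≤ 2 * (cls Z x).ncard := by
  have h1 := h.ncard_cls hx.1
  have h3 := h.two_mul_card_Z_le hx.1
  have hTpos : 0 < Nat.card (cent x) := Nat.card_pos
  rw [hN] at h1
  set T := Nat.card (cent x)
  set c := (cls Z x).ncard
  set g := Nat.card G
  set z := Nat.card Z
  have h4 : g * T ≤ 2 * (g * (T - z)) := by
    have : T ≤ 2 * (T - z) := by omega
    calc g * T ≤ g * (2 * (T - z)) := Nat.mul_le_mul_left g this
      _ = 2 * (g * (T - z)) := by ring
  have h5 : g * T ≤ 2 * c * T := by
    calc g * T ≤ 2 * (g * (T - z)) := h4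
      _ = 2 * (c * T) := by rw [h1]
      _ = 2 * c * T := by ring
  exact Nat.le_of_mul_le_mul_right h5 hTpos

/-- the normalizer of a torus has index one or two -/
theorem Hyp.card_normalizer_cases (h : Hyp p Z) {x : G} (hx : x ∈ semis p Z) :
    Nat.card (Subgroup.normalizer ((cent x : Subgroup G) : Set G)) = Nat.card (cent x) ∨
      Nat.card (Subgroup.normalizer ((cent x : Subgroup G) : Set G)) = 2 * Nat.card (cent x) := by
  have h2 := h.normIdx x hx.1 hx.2
  have hdvd : Nat.card (cent x) ∣
      Nat.card (Subgroup.normalizer ((cent x : Subgroup G) : Set G)) :=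
    Subgroup.card_dvd_of_le Subgroup.le_normalizer
  obtain ⟨m, hm⟩ := hdvd
  have hTpos : 0 < Nat.card (cent x) := Nat.card_pos
  have hNpos : 0 < Nat.card (Subgroup.normalizer ((cent x : Subgroup G) : Set G)) := Nat.card_pos
  rcases m with _ | _ | _ | m
  · rw [hm] at hNpos; simp at hNpos
  · left; rw [hm, zero_add, mul_one]
  · right; rw [hm]; ring
  · exfalso
    rw [hm] at h2
    nlinarith

end Cfsg.Agent.Helper51.CT
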