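import Cfsg.Agent.Lib.Helper51.CTCount6

/-!
# Counting in finite groups whose non-central centralizers are abelian, VII:
the complement torus in the Sylow normalizer
-/

set_option autoImplicit false
set_option linter.unusedSectionVars false
set_option linter.unusedVariables false
set_option linter.style.haveILetI false

namespace Cfsg.Agent.Helper51.CT

variable {G : Type*} [Group G] [Finite G] {p : ℕ} [Fact p.Prime] {Z : Subgroup G}

/-- hypotheses (H5) and (H6) on the normalizer of a Sylow subgroup -/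
structure HypB (p : ℕ) (Z : Subgroup G) (U : Subgroup G) : Prop where
  centLe : ∀ c : G, c ∈ Subgroup.normalizer (U : Set G) → c ∉ Z ⊔ U →
    cent c ≤ Subgroup.normalizer (U : Set G)
  commMem : ∀ a b : G, a ∈ Subgroup.normalizer (U : Set G) → b ∈ Subgroup.normalizer (U : Set G) →
    a * b * a⁻¹ * b⁻¹ ∈ U

/-- a noncentral element of the normalizer of `U` outside `Z ⊔ U` is semisimple and its torus
meets `Z ⊔ U` in `Z`. -/
theorem Hyp.semis_of_mem_normalizer (h : Hyp p Z) (U : Sylow p G) (hU : (U : Subgroup G) ≠ ⊥)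
    (hB : HypB p Z (U : Subgroup G)) {c : G}
    (hcB : c ∈ Subgroup.normalizer ((U : Subgroup G) : Set G)) (hc : c ∉ Z ⊔ (U : Subgroup G)) :
    c ∈ semis p Z ∧ ∀ w ∈ cent c, w ∈ Z ⊔ (U : Subgroup G) → w ∈ Z := by
  have hcZ : c ∉ Z := fun hh => hc (Subgroup.mem_sup_left hh)
  have hle := hB.centLe c hcB hc
  constructor
  · refine ⟨hcZ, fun hpd => ?_⟩
    obtain ⟨P, hP⟩ := h.exists_sylow_of_unip (⟨hcZ, hpd⟩ : c ∈ unip p Z)
    have h1 := (h.cent_of_mem_sup P hP hcZ).1
    have hPB : (P : Subgroup G) ≤ Subgroup.normalizer ((U : Subgroup G) : Set G) := by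
      refine le_trans ?_ hle
      rw [h1]; exact le_sup_right
    have h3 : (P : Subgroup G) ⊓ Subgroup.normalizer ((U : Subgroup G) : Set G) =
        (P : Subgroup G) ⊓ (U : Subgroup G) := P.isPGroup'.inf_normalizer_sylow U
    rw [inf_eq_left.mpr hPB] at h3
    have h4 : (P : Subgroup G) ≤ U := by rw [h3]; exact inf_le_right
    have h5 : (P : Subgroup G) = U := (P.3 U.isPGroup' h4).symm
    apply hc
    rw [← h5]; exact hP
  · intro w hw hwT
    by_contra hwZ
    have h1 := (h.cent_of_mem_sup U hwT hwZ).1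
    have h2 : cent w = cent c := h.cent_eq hcZ hwZ hw
    apply hc
    rw [← h1, h2]
    exact self_mem_cent c

/-- the complement torus -/
theorem Hyp.exists_torus (h : Hyp p Z) (U : Sylow p G) (hU : (U : Subgroup G) ≠ ⊥)
    (hB : HypB p Z (U : Subgroup G)) {e' : ℕ}
    (hcard : Nat.card (Subgroup.normalizer ((U : Subgroup G) : Set G)) =
      e' * (Nat.card Z * Nat.card (U : Subgroup G))) (he : 2 ≤ e') :
    ∃ c : G, c ∈ semis p Z ∧ Nat.card (cent c) = Nat.card Z * e' ∧
      e' + 1 ≤ Nat.card (U : Subgroup G) := by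
  classical
  set B : Subgroup G := Subgroup.normalizer ((U : Subgroup G) : Set G) with hBdef
  have hUB : (U : Subgroup G) ≤ B := Subgroup.le_normalizer
  have hZpos : 0 < Nat.card Z := Nat.card_pos
  have hUpos : 0 < Nat.card (U : Subgroup G) := Nat.card_pos
  obtain ⟨n, hn⟩ := IsPGroup.iff_card.mp U.isPGroup'
  haveI hnorm : ((U : Subgroup G).subgroupOf B).Normal := Subgroup.normal_in_normalizer
  have hcardU' : Nat.card ((U : Subgroup G).subgroupOf B) = Nat.card (U : Subgroup G) :=
    Nat.card_congr (Subgroup.subgroupOfEquivOfLe hUB).toEquiv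
  have hidx : ((U : Subgroup G).subgroupOf B).index = e' * Nat.card Z := by
    have h1 := Subgroup.card_mul_index ((U : Subgroup G).subgroupOf B)
    rw [hcardU', hcard] at h1
    have h2 : Nat.card (U : Subgroup G) * ((U : Subgroup G).subgroupOf B).index =
        Nat.card (U : Subgroup G) * (e' * Nat.card Z) := by rw [h1]; ring
    exact Nat.eq_of_mul_eq_mul_left hUpos h2
  have hcop : (Nat.card ((U : Subgroup G).subgroupOf B)).Coprime
      ((U : Subgroup G).subgroupOf B).index := by
    rw [hcardU', hn]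
    apply Nat.Coprime.pow_left
    rw [(Fact.out : p.Prime).coprime_iff_not_dvd]
    intro hpd
    have h1 : ((U : Subgroup G).subgroupOf B).index ∣ (U : Subgroup G).index :=
      Subgroup.relIndex_dvd_index_of_le hUB
    exact U.not_dvd_index (hpd.trans h1)
  obtain ⟨D', hD'⟩ := Subgroup.exists_left_complement'_of_coprime hcop
  have hD'card : Nat.card D' = e' * Nat.card Z := by
    have h1 := hD'.card_mul_card
    rw [hcardU', hcard] at h1
    have h2 : Nat.card D' * Nat.card (U : Subgroup G) =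
        (e' * Nat.card Z) * Nat.card (U : Subgroup G) := by rw [h1]; ring
    exact Nat.eq_of_mul_eq_mul_right hUpos h2
  have hD'disj : ∀ d : ↥B, d ∈ D' → (d : G) ∈ (U : Subgroup G) → d = 1 := by
    intro d hd hdU
    have : d ∈ D' ⊓ (U : Subgroup G).subgroupOf B := ⟨hd, Subgroup.mem_subgroupOf.mpr hdU⟩
    rw [hD'.disjoint.eq_bot, Subgroup.mem_bot] at this
    exact this
  -- `D'` is abelian
  have hD'comm : ∀ a b : ↥B, a ∈ D' → b ∈ D' → a * b = b * a := by
    intro a b ha hb
    have h1 : a * b * a⁻¹ * b⁻¹ ∈ D' :=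
      D'.mul_mem (D'.mul_mem (D'.mul_mem ha hb) (D'.inv_mem ha)) (D'.inv_mem hb)
    have h2 : ((a * b * a⁻¹ * b⁻¹ : ↥B) : G) ∈ (U : Subgroup G) := by
      have := hB.commMem a b a.2 b.2
      simpa using this
    have h3 := hD'disj _ h1 h2
    calc a * b = (a * b * a⁻¹ * b⁻¹) * (b * a) := by group
      _ = b * a := by rw [h3, one_mul]
  -- an element of `D'` outside `Z`
  have hex : ∃ c' : ↥B, c' ∈ D' ∧ (c' : G) ∉ Z := by
    by_contra hno
    push Not at hno
    have hinj : Function.Injective (fun d : D' => (⟨(d : ↥B), hno d.1 d.2⟩ : Z)) := by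
      intro d d' hdd
      have := congrArg (fun z : Z => (z : G)) hdd
      exact Subtype.ext (Subtype.ext this)
    have hle := Nat.card_le_card_of_injective _ hinj
    rw [hD'card] at hle
    nlinarith
  obtain ⟨c', hc'D, hc'Z⟩ := hex
  set c : G := (c' : G) with hcdef
  have hcB : c ∈ B := c'.2
  -- `c ∉ Z ⊔ U`
  have hcT : c ∉ Z ⊔ (U : Subgroup G) := by
    intro hcT
    have h1 : c ^ Nat.card (U : Subgroup G) ∈ Z :=
      h.pow_mem_Z le_sup_left (h.cent_sylow U hU).1 hcT
    have hord : orderOf c ∣ Nat.card D' := by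
      have h2 : orderOf (⟨c', hc'D⟩ : D') ∣ Nat.card D' := orderOf_dvd_natCard _
      rwa [Subgroup.orderOf_mk, ← Subgroup.orderOf_coe] at h2
    have hcop2 : (Nat.card (U : Subgroup G)).Coprime (orderOf c) := by
      apply Nat.Coprime.coprime_dvd_right hord
      rw [hD'card, hn]
      apply Nat.Coprime.pow_left
      rw [(Fact.out : p.Prime).coprime_iff_not_dvd]
      intro hpd
      have h3 : p ∣ ((U : Subgroup G).subgroupOf B).index := by rw [hidx]; exact hpd
      have h4 : ((U : Subgroup G).subgroupOf B).index ∣ (U : Subgroup G).index :=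
        Subgroup.relIndex_dvd_index_of_le hUB
      exact U.not_dvd_index (h3.trans h4)
    obtain ⟨m, hm⟩ := exists_pow_eq_self_of_coprime hcop2
    apply hc'Z
    rw [← hm]
    exact Z.pow_mem h1 m
  obtain ⟨hcsemis, hcmeet⟩ := h.semis_of_mem_normalizer U hU hB hcB hcT
  have hcle : cent c ≤ B := hB.centLe c hcB hcT
  -- lower bound
  have hlow : e' * Nat.card Z ≤ Nat.card (cent c) := by
    rw [← hD'card]
    have hinj : Function.Injective (fun d : D' => (⟨((d : ↥B) : G), by
        rw [mem_cent]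
        have := hD'comm d.1 c' d.2 hc'D
        exact congrArg (fun b : ↥B => (b : G)) this⟩ : cent c)) := by
      intro d d' hdd
      have := congrArg (fun z : cent c => (z : G)) hdd
      exact Subtype.ext (Subtype.ext this)
    exact Nat.card_le_card_of_injective _ hinj
  -- upper bound
  have hdisj : Disjoint (cent c) (U : Subgroup G) := by
    rw [Subgroup.disjoint_def]
    intro w hw hwU
    by_contra hw1
    have hwZ : w ∈ Z := hcmeet w hw (Subgroup.mem_sup_right hwU)
    exact h.not_mem_Z_of_pElement U.isPGroup' hwU hw1 hwZ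
  have hupp : Nat.card (cent c) * Nat.card (U : Subgroup G) ≤ Nat.card B := by
    have hinj := Subgroup.mul_injective_of_disjoint hdisj
    let f : ↥(cent c) × ↥(U : Subgroup G) → ↥B := fun a =>
      ⟨(a.1 : G) * (a.2 : G), B.mul_mem (hcle a.1.2) (hUB a.2.2)⟩
    have hf : Function.Injective f := by
      intro a a' haa
      apply hinj
      exact congrArg (fun b : ↥B => (b : G)) haa
    have := Nat.card_le_card_of_injective f hf
    rwa [Nat.card_prod] at this
  have hceq : Nat.card (cent c) = Nat.card Z * e' := by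
    apply le_antisymm
    · rw [hcard] at hupp
      have h2 : Nat.card (cent c) * Nat.card (U : Subgroup G) ≤
          (Nat.card Z * e') * Nat.card (U : Subgroup G) := by
        calc Nat.card (cent c) * Nat.card (U : Subgroup G)
            ≤ e' * (Nat.card Z * Nat.card (U : Subgroup G)) := hupp
          _ = (Nat.card Z * e') * Nat.card (U : Subgroup G) := by ring
      exact Nat.le_of_mul_le_mul_right h2 hUpos
    · rw [mul_comm]; exact hlow
  refine ⟨c, hcsemis, hceq, ?_⟩
  -- `e' ≤ |U| - 1` : the torus acts on `U ∖ 1` with stabilizers `Z`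
  obtain ⟨⟨u, hu⟩, hu1⟩ := (Subgroup.ne_bot_iff_exists_ne_one).mp hU
  have hu1' : u ≠ 1 := fun hh => hu1 (Subtype.ext hh)
  have hcu := (h.cent_sylow U hU).2 u hu hu1'
  let V : Type _ := {v : G // v ∈ (U : Subgroup G) ∧ v ≠ 1}
  have hconjU : ∀ d ∈ cent c, d * u * d⁻¹ ∈ (U : Subgroup G) ∧ d * u * d⁻¹ ≠ 1 := by
    intro d hd
    refine ⟨(Subgroup.mem_normalizer_iff.mp (hcle hd) u).mp hu, fun hh => hu1' ?_⟩
    have := congrArg (fun t => d⁻¹ * t * d) hh
    simpa [mul_assoc] using this
  -- representatives of the fibres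
  let φ : ↥(cent c) → V := fun d => ⟨(d : G) * u * (d : G)⁻¹, hconjU d.1 d.2⟩
  let r : V → ↥(cent c) := fun v =>
    if hv : ∃ d : ↥(cent c), φ d = v then Classical.choose hv else 1
  have hr : ∀ d : ↥(cent c), φ (r (φ d)) = φ d := by
    intro d
    have hv : ∃ d' : ↥(cent c), φ d' = φ d := ⟨d, rfl⟩
    simp only [r, dif_pos hv]
    exact Classical.choose_spec hv
  have hker : ∀ d : ↥(cent c), ((r (φ d))⁻¹ * d : ↥(cent c)).1 ∈ Z := by
    intro d
    apply hcmeet _ ((r (φ d))⁻¹ * d).2
    rw [← hcu, mem_cent]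
    have h1 := congrArg Subtype.val (hr d)
    simp only [φ] at h1
    have h2 : ((r (φ d) : ↥(cent c)) : G) * u * ((r (φ d) : ↥(cent c)) : G)⁻¹ =
        (d : G) * u * (d : G)⁻¹ := h1
    simp only [Subgroup.coe_mul, Subgroup.coe_inv]
    generalize ((r (φ d) : ↥(cent c)) : G) = a at h2 ⊢
    calc a⁻¹ * (d : G) * u = a⁻¹ * ((d : G) * u * (d : G)⁻¹) * (d : G) := by group
      _ = a⁻¹ * (a * u * a⁻¹) * (d : G) := by rw [h2]
      _ = u * (a⁻¹ * (d : G)) := by group
  let ψ : ↥(cent c) → ↥Z × V := fun d => (⟨((r (φ d))⁻¹ * d : ↥(cent c)).1, hker d⟩, φ d)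
  have hψ : Function.Injective ψ := by
    intro d d' hdd
    have h1 : φ d = φ d' := congrArg Prod.snd hdd
    have h2 := congrArg (fun a : ↥Z × V => (a.1 : G)) hdd
    simp only [ψ] at h2
    rw [h1] at h2
    have h3 : ((r (φ d'))⁻¹ * d : ↥(cent c)) = (r (φ d'))⁻¹ * d' := Subtype.ext h2
    exact mul_left_cancel h3
  have hle := Nat.card_le_card_of_injective ψ hψ
  rw [Nat.card_prod, hceq] at hle
  have hVcard : Nat.card V = Nat.card (U : Subgroup G) - 1 := by
    have e : V ≃ {v : ↥(U : Subgroup G) // v ≠ 1} :=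
      { toFun := fun v => ⟨⟨v.1, v.2.1⟩, fun hh => v.2.2 (congrArg Subtype.val hh)⟩
        invFun := fun v => ⟨v.1.1, v.1.2, fun hh => v.2 (Subtype.ext hh)⟩
        left_inv := fun v => rfl
        right_inv := fun v => rfl }
    rw [Nat.card_congr e]
    haveI : Fintype ↥(U : Subgroup G) := Fintype.ofFinite _
    rw [Nat.card_eq_fintype_card, Nat.card_eq_fintype_card, Fintype.card_subtype_compl,
      Fintype.card_subtype_eq]
  rw [hVcard] at hle
  have h5 : e' ≤ Nat.card (U : Subgroup G) - 1 := Nat.le_of_mul_le_mul_left hle hZpos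
  omega

end Cfsg.Agent.Helper51.CT
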