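import Cfsg.Agent.Lib.Helper51.CTCount7

/-!
# Counting in finite groups whose non-central centralizers are abelian, VIII:
combinatorics of classes and the arithmetic lemma
-/

set_option autoImplicit false
set_option linter.unusedSectionVars false
set_option linter.unusedVariables false
set_option linter.style.haveILetI false

namespace Cfsg.Agent.Helper51.CT

theorem ct_arith (k q e s : ℕ) (hk : 1 ≤ k) (hq : 3 ≤ q) (he : 2 ≤ e) (heq : e + 1 ≤ q)
    (h : (1 + k * q) * s = (1 + k * q) * e + 2 * s * k) :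
    k = 1 ∨ (q = 3 ∧ k = 3 ∧ e = 2 ∧ s = 5) := by
  have hse : e < s := by
    by_contra hle
    push Not at hle
    have : (1 + k * q) * s ≤ (1 + k * q) * e := Nat.mul_le_mul_left _ hle
    have hs0 : s = 0 ∨ 0 < s := Nat.eq_zero_or_pos s
    rcases hs0 with hs0 | hs0
    · subst hs0
      simp at h
      omega
    · have : 0 < 2 * s * k := by positivity
      omega
  obtain ⟨t, rfl⟩ : ∃ t, s = e + t := ⟨s - e, by omega⟩
  have ht : 1 ≤ t := by omega
  have hZ : (t : ℤ) * (1 + k * q - 2 * k) = 2 * k * e := by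
    have := congrArg (fun n : ℕ => (n : ℤ)) h
    push_cast at this
    linarith
  rcases Nat.lt_or_ge t 3 with ht3 | ht3
  · left
    interval_cases t
    · have hk1 : (k : ℤ) ∣ 1 := ⟨2 * e - q + 2, by linarith⟩
      have : k ∣ 1 := by exact_mod_cast hk1
      exact Nat.dvd_one.mp this
    · have hk1 : (k : ℤ) ∣ 1 := ⟨e - q + 2, by linarith⟩
      have : k ∣ 1 := by exact_mod_cast hk1
      exact Nat.dvd_one.mp this
  · right
    have hqk : (q : ℤ) ≥ 3 := by exact_mod_cast hq
    have hkZ : (k : ℤ) ≥ 1 := by exact_mod_cast hk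
    have heZ : (e : ℤ) ≤ q - 1 := by
      have : (e : ℤ) + 1 ≤ q := by exact_mod_cast heq
      linarith
    have htZ : (t : ℤ) ≥ 3 := by exact_mod_cast ht3
    have hpos : (1 : ℤ) + k * q - 2 * k ≥ 1 + k := by nlinarith
    have h1 : 3 * (1 + (k : ℤ) * q - 2 * k) ≤ 2 * k * (q - 1) := by
      calc 3 * (1 + (k : ℤ) * q - 2 * k) ≤ t * (1 + k * q - 2 * k) := by nlinarith
        _ = 2 * k * e := hZ
        _ ≤ 2 * k * (q - 1) := by nlinarith
    have hq3 : (q : ℤ) ≤ 3 := by
      by_contra hh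
      push Not at hh
      have : (q : ℤ) ≥ 4 := by linarith
      nlinarith
    have hq3' : q = 3 := by
      have : (q : ℤ) = 3 := le_antisymm hq3 hqk
      exact_mod_cast this
    subst hq3'
    have he2 : e = 2 := by omega
    subst he2
    push_cast at hZ h1
    have hk3 : (k : ℤ) ≥ 3 := by linarith
    have ht4 : (t : ℤ) < 4 := by
      by_contra hh
      push Not at hh
      nlinarith
    have ht3' : (t : ℤ) = 3 := by linarith
    have hk3' : (k : ℤ) = 3 := by
      rw [ht3'] at hZ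
      linarith
    refine ⟨rfl, by exact_mod_cast hk3', rfl, ?_⟩
    have : t = 3 := by exact_mod_cast ht3'
    omega

variable {G : Type*} [Group G] [Finite G] {p : ℕ} [Fact p.Prime] {Z : Subgroup G}

theorem Hyp.cls_subset_semis' (h : Hyp p Z) {x : G} (hx : x ∈ semis p Z) :
    cls Z x ⊆ semis p Z := cls_subset_semis hx

theorem Hyp.ncard_cls_le (h : Hyp p Z) {x : G} (hx : x ∈ semis p Z) :
    (cls Z x).ncard ≤ (semis p Z).ncard :=
  Set.ncard_le_ncard (cls_subset_semis hx)

theorem Hyp.ncard_two_cls_le (h : Hyp p Z) {x y : G} (hx : x ∈ semis p Z) (hy : y ∈ semis p Z)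
    (hyx : y ∉ cls Z x) : (cls Z x).ncard + (cls Z y).ncard ≤ (semis p Z).ncard := by
  rw [← Set.ncard_union_eq (h.disjoint_cls hx.1 hy.1 hyx)]
  exact Set.ncard_le_ncard (Set.union_subset (cls_subset_semis hx) (cls_subset_semis hy))

theorem Hyp.ncard_three_cls_le (h : Hyp p Z) {x y w : G} (hx : x ∈ semis p Z)
    (hy : y ∈ semis p Z) (hw : w ∈ semis p Z)
    (hyx : y ∉ cls Z x) (hwx : w ∉ cls Z x) (hwy : w ∉ cls Z y) :
    (cls Z x).ncard + (cls Z y).ncard + (cls Z w).ncard ≤ (semis p Z).ncard := by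
  have d1 := h.disjoint_cls hx.1 hy.1 hyx
  have d2 := h.disjoint_cls hx.1 hw.1 hwx
  have d3 := h.disjoint_cls hy.1 hw.1 hwy
  rw [← Set.ncard_union_eq d1, ← Set.ncard_union_eq (Set.disjoint_union_left.mpr ⟨d2, d3⟩)]
  exact Set.ncard_le_ncard (Set.union_subset
    (Set.union_subset (cls_subset_semis hx) (cls_subset_semis hy)) (cls_subset_semis hw))

theorem Hyp.ncard_semis_eq_one (h : Hyp p Z) {x : G} (hx : x ∈ semis p Z)
    (hall : ∀ y ∈ semis p Z, y ∈ cls Z x) : (semis p Z).ncard = (cls Z x).ncard := by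
  apply le_antisymm
  · exact Set.ncard_le_ncard (fun y hy => hall y hy)
  · exact h.ncard_cls_le hx

theorem Hyp.ncard_semis_eq_two (h : Hyp p Z) {x y : G} (hx : x ∈ semis p Z)
    (hy : y ∈ semis p Z) (hyx : y ∉ cls Z x)
    (hall : ∀ w ∈ semis p Z, w ∈ cls Z x ∨ w ∈ cls Z y) :
    (semis p Z).ncard = (cls Z x).ncard + (cls Z y).ncard := by
  apply le_antisymm
  · rw [← Set.ncard_union_eq (h.disjoint_cls hx.1 hy.1 hyx)]
    exact Set.ncard_le_ncard (fun w hw => hall w hw)
  · exact h.ncard_two_cls_le hx hy hyx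

end Cfsg.Agent.Helper51.CT
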