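import Cfsg.Agent.Lib.Helper51.CTCount8

/-!
# Counting in finite groups whose non-central centralizers are abelian, IX: the main theorem
-/

set_option autoImplicit false
set_option linter.unusedSectionVars false
set_option linter.unusedVariables false
set_option linter.style.haveILetI false
set_option maxHeartbeats 1600000

namespace Cfsg.Agent.Helper51.CT

variable {G : Type*} [Group G] [Finite G] {p : ℕ} [Fact p.Prime] {Z : Subgroup G}

/-- numerical set-up -/
theorem Hyp.setup (h : Hyp p Z) (hp : p ≠ 2) (U : Sylow p G) (hN : 1 < Nat.card (Sylow p G)) :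
    (U : Subgroup G) ≠ ⊥ ∧ 3 ≤ Nat.card (U : Subgroup G) ∧
    (∃ k : ℕ, 1 ≤ k ∧ Nat.card (Sylow p G) = 1 + k * Nat.card (U : Subgroup G)) ∧
    (∃ e : ℕ, 1 ≤ e ∧ Nat.card (Subgroup.normalizer ((U : Subgroup G) : Set G)) =
      e * (Nat.card Z * Nat.card (U : Subgroup G))) ∧
    Nat.card G = Nat.card (Sylow p G) *
      Nat.card (Subgroup.normalizer ((U : Subgroup G) : Set G)) := by
  have hU : (U : Subgroup G) ≠ ⊥ := by
    intro hU
    have hall : ∀ P : Sylow p G, P = U := by
      intro P
      apply Sylow.ext
      rw [hU]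
      apply (Subgroup.card_eq_one).mp
      have : Nat.card (P : Subgroup G) = Nat.card (U : Subgroup G) := by
        rw [Sylow.card_eq_multiplicity, Sylow.card_eq_multiplicity]
      rw [this, hU, Subgroup.card_bot]
    haveI : Subsingleton (Sylow p G) := ⟨fun a b => (hall a).trans (hall b).symm⟩
    have := Nat.card_of_subsingleton U
    omega
  have hq3 : 3 ≤ Nat.card (U : Subgroup G) := by
    obtain ⟨n, hn⟩ := IsPGroup.iff_card.mp U.isPGroup'
    have hp3 : 3 ≤ p := by
      have h2 := (Fact.out : p.Prime).two_le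
      omega
    rcases n with _ | n
    · exfalso
      rw [pow_zero] at hn
      exact hU ((Subgroup.card_eq_one).mp hn)
    · rw [hn]
      calc 3 ≤ p := hp3
        _ = p ^ 1 := (pow_one p).symm
        _ ≤ p ^ (n + 1) := Nat.pow_le_pow_right (by omega) (by omega)
  refine ⟨hU, hq3, ?_, ?_, ?_⟩
  · obtain ⟨k, hk⟩ := h.card_sylow_modEq U
    refine ⟨k, ?_, ?_⟩
    · rcases k with _ | k
      · rw [mul_zero] at hk; omega
      · omega
    · rw [mul_comm]; omega
  · have hle : Z ⊔ (U : Subgroup G) ≤ Subgroup.normalizer ((U : Subgroup G) : Set G) := by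
      apply sup_le
      · intro z hz
        rw [Subgroup.mem_normalizer_iff]
        intro w
        have hc := Subgroup.mem_center_iff.mp (h.central hz)
        have e : z * w * z⁻¹ = w := by rw [← hc w]; group
        rw [e]
      · exact Subgroup.le_normalizer
    obtain ⟨e, he⟩ := Subgroup.card_dvd_of_le hle
    rw [(h.cent_sylow U hU).1] at he
    refine ⟨e, ?_, by rw [he]; ring⟩
    rcases e with _ | e
    · rw [mul_zero] at he
      have : 0 < Nat.card (Subgroup.normalizer ((U : Subgroup G) : Set G)) := Nat.card_pos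
      omega
    · omega
  · rw [Sylow.card_eq_index_normalizer U]
    exact (Subgroup.index_mul_card _).symm

/-- exponent of elements in a torus -/
theorem Hyp.pow_mem_of_card_cent (h : Hyp p Z) {y : G} {m : ℕ}
    (hm : Nat.card (cent y) = Nat.card Z * m) : y ^ m ∈ Z :=
  h.pow_mem_Z (h.Z_le_cent y) hm (self_mem_cent y)

end Cfsg.Agent.Helper51.CT
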