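import Cfsg.Agent.Lib.Helper51.CTCount11
import Cfsg.Agent.Lib.Helper59.SL2Sub

/-!
# The counting theorem for subgroups of `SL₂(F)`

`F` a finite field of odd characteristic `p`, `L ≤ SL₂(F)` with more than one Sylow
`p`-subgroup `U`.  Then the number of Sylow `p`-subgroups of `L` is `|U| + 1`, unless `p = 3`
and every element of `L` has its square, cube or fifth power in `L ∩ {±1}`.
-/

set_option autoImplicit false
set_option linter.unusedSectionVars false
set_option linter.unusedVariables false

namespace Cfsg.Agent.Helper51.CT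

open Cfsg.Agent.Helper59.SL2Sub

variable {F : Type*} [Field F] [Fintype F] (p : ℕ) [Fact p.Prime] [CharP F p]

theorem hyp_SL2 (hp : p ≠ 2) (L : Subgroup (Matrix.SpecialLinearGroup (Fin 2) F)) :
    Hyp p (ZL L) where
  central := ZL_le_center L
  coprimeZ := by
    rw [Nat.coprime_comm]
    exact (Nat.Prime.coprime_iff_not_dvd (Fact.out : p.Prime)).mpr (not_dvd_card_ZL p L hp)
  comm := fun x hx y w hy hw => subgroup_H1 L x hx y w hy hw
  normIdx := fun x hx hnd => subgroup_H2 p L hp x hx hnd
  pcent := fun x hx hd => subgroup_H3 p L hp x hx hd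

theorem hypB_SL2 (hp : p ≠ 2) (L : Subgroup (Matrix.SpecialLinearGroup (Fin 2) F))
    (U : Sylow p L) (hU : (U : Subgroup L) ≠ ⊥) : HypB p (ZL L) (U : Subgroup L) where
  centLe := fun c hc hc' => subgroup_H5 p L hp U c hc hc'
  commMem := fun a b ha hb => subgroup_H6 p L U hU a b ha hb

/-- **Counting theorem for subgroups of `SL₂(F)`**. -/
theorem card_sylow_SL2 (hp : p ≠ 2) (L : Subgroup (Matrix.SpecialLinearGroup (Fin 2) F))
    (U : Sylow p L) (hN : 1 < Nat.card (Sylow p L)) :
    Nat.card (Sylow p L) = Nat.card (U : Subgroup L) + 1 ∨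
      (p = 3 ∧ ∀ y : L, y ^ 2 ∈ ZL L ∨ y ^ 3 ∈ ZL L ∨ y ^ 5 ∈ ZL L) := by
  have hU : (U : Subgroup L) ≠ ⊥ := by
    intro hbot
    have hsub : Subsingleton (Sylow p L) := by
      refine ⟨fun P Q => ?_⟩
      have hP : (P : Subgroup L) = ⊥ := by
        have h1 : Nat.card (P : Subgroup L) = Nat.card (U : Subgroup L) :=
          Sylow.card_eq_multiplicity P ▸ (Sylow.card_eq_multiplicity U).symm ▸ rfl
        rw [hbot, Subgroup.card_bot] at h1
        exact Subgroup.card_eq_one.mp h1
      have hQ : (Q : Subgroup L) = ⊥ := by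
        have h1 : Nat.card (Q : Subgroup L) = Nat.card (U : Subgroup L) :=
          Sylow.card_eq_multiplicity Q ▸ (Sylow.card_eq_multiplicity U).symm ▸ rfl
        rw [hbot, Subgroup.card_bot] at h1
        exact Subgroup.card_eq_one.mp h1
      exact Sylow.ext (hP.trans hQ.symm)
    have := (Finite.card_le_one_iff_subsingleton (α := Sylow p L)).mpr hsub
    omega
  exact (hyp_SL2 p hp L).main hp U hN (hypB_SL2 p hp L U hU)

end Cfsg.Agent.Helper51.CT
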