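import Cfsg.Agent.Lib.Helper51.CTSL2
import Cfsg.Agent.Lib.Helper51.CTCount12
import Cfsg.Agent.Lib.Helper98.SL2CT

/-!
# The counting theorem for subgroups of `SL₂(F)` in characteristic `2`

`F` a finite field of characteristic `2`, `L ≤ SL₂(F)` with more than one Sylow `2`-subgroup `U`.
Then the number of Sylow `2`-subgroups of `L` is `|U| + 1`, unless `|U| = 2`.
-/

set_option autoImplicit false
set_option linter.unusedSectionVars false
set_option linter.unusedVariables false

namespace Cfsg.Agent.Helper51.CT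

open Cfsg.Agent.Helper59.SL2Sub Cfsg.Agent.Helper5

section general

variable {G : Type*} [Group G] [Finite G]

/-- if every element of `N(C(x))` conjugates `x` to `x` or `x⁻¹`, then `|N(C(x)) : C(x)| ≤ 2` -/
theorem card_normalizer_cent_le (x : G)
    (key : ∀ g ∈ Subgroup.normalizer ((Subgroup.centralizer {x} : Subgroup G) : Set G),
      g * x * g⁻¹ = x ∨ g * x * g⁻¹ = x⁻¹) :
    Nat.card (Subgroup.normalizer ((Subgroup.centralizer {x} : Subgroup G) : Set G)) ≤
      2 * Nat.card (Subgroup.centralizer {x}) := by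
  have hmemC : ∀ g : G, g ∈ Subgroup.centralizer {x} ↔ g * x * g⁻¹ = x := by
    intro g
    rw [Subgroup.mem_centralizer_singleton_iff, mul_inv_eq_iff_eq_mul]
  by_cases hNC : Subgroup.normalizer ((Subgroup.centralizer {x} : Subgroup G) : Set G) ≤
      Subgroup.centralizer {x}
  · calc Nat.card (Subgroup.normalizer ((Subgroup.centralizer {x} : Subgroup G) : Set G))
        ≤ Nat.card (Subgroup.centralizer {x}) := Subgroup.card_le_of_le hNC
      _ ≤ 2 * Nat.card (Subgroup.centralizer {x}) := by omega
  · obtain ⟨h, hhN, hhC⟩ := SetLike.not_le_iff_exists.mp hNC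
    have hh : h * x * h⁻¹ = x⁻¹ := (key h hhN).resolve_left (fun e => hhC ((hmemC h).mpr e))
    have hsub : ((Subgroup.normalizer ((Subgroup.centralizer {x} : Subgroup G) : Set G) :
        Subgroup G) : Set G) ⊆ ((Subgroup.centralizer {x} : Subgroup G) : Set G) ∪
          (fun c => h * c) '' ((Subgroup.centralizer {x} : Subgroup G) : Set G) := by
      intro g hg
      by_cases hgC : g ∈ Subgroup.centralizer {x}
      · left; exact hgC
      · right
        have hgx : g * x * g⁻¹ = x⁻¹ := (key g hg).resolve_left (fun e => hgC ((hmemC g).mpr e))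
        refine ⟨h⁻¹ * g, ?_, by group⟩
        rw [SetLike.mem_coe, hmemC]
        have : h⁻¹ * g * x * (h⁻¹ * g)⁻¹ = h⁻¹ * (g * x * g⁻¹) * h := by group
        rw [this, hgx, ← hh]
        group
    have hfin : ((Subgroup.centralizer {x} : Subgroup G) : Set G).Finite := Set.toFinite _
    have h1 := Set.ncard_le_ncard hsub (Set.toFinite _)
    have h2 := Set.ncard_union_le ((Subgroup.centralizer {x} : Subgroup G) : Set G)
      ((fun c => h * c) '' ((Subgroup.centralizer {x} : Subgroup G) : Set G))
    have h3 := Set.ncard_image_le (f := fun c => h * c) hfin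
    have e1 : Nat.card (Subgroup.normalizer ((Subgroup.centralizer {x} : Subgroup G) : Set G)) =
        Set.ncard ((Subgroup.normalizer ((Subgroup.centralizer {x} : Subgroup G) : Set G) :
          Subgroup G) : Set G) := (Nat.card_coe_set_eq _)
    have e2 : Nat.card (Subgroup.centralizer {x}) =
        Set.ncard ((Subgroup.centralizer {x} : Subgroup G) : Set G) := (Nat.card_coe_set_eq _)
    rw [e1, e2]
    omega

end general

section chartwo

variable {F : Type*} [Field F] [Fintype F] [CharP F 2]

theorem two_eq_zero' : (2 : F) = 0 := by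
  have := CharP.cast_eq_zero F 2
  exact_mod_cast this

theorem four_eq_zero' : (4 : F) = 0 := by
  have h := two_eq_zero' (F := F)
  linear_combination 2 * h

/-- in characteristic `2` the only scalar matrix in `SL₂` is `1` -/
theorem eq_one_of_isSc (g : SL2 F) (h : IsSc g.1) : g = 1 := by
  obtain ⟨h01, h10, h00⟩ := h
  have hdet := g.det_coe
  rw [Matrix.det_fin_two, h01, h10, mul_zero, sub_zero, ← h00] at hdet
  have h2 := two_eq_zero' (F := F)
  have ha : (g.1 0 0 - 1) ^ 2 = 0 := by linear_combination hdet + (1 - g.1 0 0) * h2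
  have ha1 : g.1 0 0 = 1 := by
    have := pow_eq_zero_iff (two_ne_zero) |>.mp ha
    linear_combination this
  ext i j
  fin_cases i <;> fin_cases j <;> simp [h01, h10, ← h00, ha1]

variable (L : Subgroup (SL2 F))

theorem ZL_eq_bot : ZL L = ⊥ := by
  rw [eq_bot_iff]
  intro g hg
  rw [Subgroup.mem_bot]
  apply Subtype.ext
  rw [Subgroup.coe_one]
  exact eq_one_of_isSc _ ((mem_Zsub_iff L.subtype g).mp hg)

theorem card_ZL : Nat.card (ZL L) = 1 := by
  rw [ZL_eq_bot, Subgroup.card_bot]

/-- an element whose trace squares to `4 = 0` is an involution or `1` -/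
theorem sq_eq_one_of_tr (g : SL2 F) (ht : tr g ^ 2 = 4) : g ^ 2 = 1 :=
  eq_one_of_isSc _ (pow_char_isSc 2 g ht)

theorem hyp_SL2_two : Hyp 2 (ZL L) where
  central := ZL_le_center L
  coprimeZ := by rw [card_ZL]; exact Nat.coprime_one_left 2
  comm := fun x hx y w hy hw => subgroup_H1 L x hx y w hy hw
  normIdx := by
    intro x hx hnd
    have hxsc : ¬ IsSc (x : SL2 F).1 := fun h => hx ((mem_Zsub_iff L.subtype x).mpr h)
    -- `tr x ≠ 0`
    have htx : tr (x : SL2 F) ^ 2 ≠ 4 := by
      intro ht
      apply hnd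
      have hx2 : x ^ 2 = 1 := by
        apply Subtype.ext
        rw [Subgroup.coe_pow, Subgroup.coe_one]
        exact sq_eq_one_of_tr _ ht
      have hx1 : x ≠ 1 := by
        intro h
        apply hxsc
        rw [h, Subgroup.coe_one]
        refine ⟨by simp, by simp, by simp⟩
      have hord : orderOf x = 2 := orderOf_eq_prime hx2 hx1
      have hmem : x ∈ Subgroup.centralizer ({x} : Set L) :=
        Subgroup.mem_centralizer_singleton_iff.mpr rfl
      have h5 : orderOf (⟨x, hmem⟩ : Subgroup.centralizer ({x} : Set L)) = orderOf x :=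
        Subgroup.orderOf_mk _ hmem
      have h6 := orderOf_dvd_natCard (⟨x, hmem⟩ : Subgroup.centralizer ({x} : Set L))
      rw [h5, hord] at h6
      exact h6
    apply card_normalizer_cent_le x
    intro g hg
    have hxC : x ∈ Subgroup.centralizer ({x} : Set L) :=
      Subgroup.mem_centralizer_singleton_iff.mpr rfl
    have h1 : g * x * g⁻¹ ∈ Subgroup.centralizer ({x} : Set L) :=
      (Subgroup.mem_normalizer_iff.mp hg x).mp hxC
    rw [Subgroup.mem_centralizer_singleton_iff] at h1
    have h1' : ((g * x * g⁻¹ : L) : SL2 F) * (x : SL2 F) = (x : SL2 F) * ((g * x * g⁻¹ : L) : SL2 F) := by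
      rw [← Subgroup.coe_mul, h1, Subgroup.coe_mul]
    have htr4 : ((x : SL2 F) : Matrix (Fin 2) (Fin 2) F).trace ^ 2 ≠ 4 := by
      rw [Matrix.trace_fin_two]; exact htx
    have htreq : (((g * x * g⁻¹ : L) : SL2 F) : Matrix (Fin 2) (Fin 2) F).trace =
        ((x : SL2 F) : Matrix (Fin 2) (Fin 2) F).trace := by
      rw [Matrix.trace_fin_two, Matrix.trace_fin_two]
      have := tr_conj (g : SL2 F) (x : SL2 F)
      unfold tr at this
      rw [Subgroup.coe_mul, Subgroup.coe_mul, Subgroup.coe_inv]
      exact this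
    rcases Cfsg.Agent.Helper98.SL2CT.eq_or_eq_inv_of_commute_trace' (x : SL2 F)
      ((g * x * g⁻¹ : L) : SL2 F) h1' htreq htr4 with h | h
    · left; exact Subtype.ext h
    · right; apply Subtype.ext; rw [h, Subgroup.coe_inv]
  pcent := by
    intro x hx hd
    have hxsc : ¬ IsSc (x : SL2 F).1 := fun h => hx ((mem_Zsub_iff L.subtype x).mpr h)
    obtain ⟨y, hy⟩ := exists_prime_orderOf_dvd_card' 2 hd
    have hy2 : ((y : L) : SL2 F) ^ 2 = 1 := by
      have := pow_orderOf_eq_one y
      rw [hy] at this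
      have h' := congrArg (fun t : Subgroup.centralizer ({x} : Set L) => ((t : L) : SL2 F)) this
      simpa using h'
    have hyne : ((y : L) : SL2 F) ≠ 1 := by
      intro h
      have : y = 1 := by
        apply Subtype.ext; apply Subtype.ext
        rw [h]; rfl
      rw [this, orderOf_one] at hy
      omega
    have hysc : ¬ IsSc ((y : L) : SL2 F).1 := fun h => hyne (eq_one_of_isSc _ h)
    have hty : tr ((y : L) : SL2 F) ^ 2 = 4 := tr_sq_of_pow_char_eq_one 2 _ hy2
    have hcomm : ((y : L) : SL2 F) * (x : SL2 F) = (x : SL2 F) * ((y : L) : SL2 F) := by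
      have := Subgroup.mem_centralizer_singleton_iff.mp y.2
      rw [← Subgroup.coe_mul, this, Subgroup.coe_mul]
    have htx : tr (x : SL2 F) ^ 2 = 4 := tr_sq_of_commute _ _ hysc hty hcomm
    have hpow : ∀ g : Subgroup.centralizer ({x} : Set L), g ^ 2 ^ 1 = 1 := by
      intro g
      apply Subtype.ext; apply Subtype.ext
      rw [pow_one]
      simp only [Subgroup.coe_pow, Subgroup.coe_one]
      apply sq_eq_one_of_tr
      apply tr_sq_of_commute (x : SL2 F) _ hxsc htx
      have := Subgroup.mem_centralizer_singleton_iff.mp g.2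
      rw [← Subgroup.coe_mul, ← this, Subgroup.coe_mul]
    have hP : IsPGroup 2 (Subgroup.centralizer ({x} : Set L)) := fun g => ⟨1, hpow g⟩
    obtain ⟨k, hk⟩ := hP.exists_card_eq
    exact ⟨k, by rw [card_ZL, one_mul, hk]⟩

/-- (H5) in characteristic `2`, upper triangular position -/
theorem H5_aux_two {G : Type*} [Group G] [Finite G] {ρ : G →* SL2 F}
    (hρ : Function.Injective ρ) (U : Sylow 2 G)
    (hU : ∀ u ∈ U, ρ u ∈ slU F) (c : G)
    (hc : c ∈ Subgroup.normalizer ((U : Subgroup G) : Set G))
    (hc' : c ∉ (U : Subgroup G)) :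
    Subgroup.centralizer {c} ≤ Subgroup.normalizer ((U : Subgroup G) : Set G) := by
  by_cases hne : (U : Subgroup G) = ⊥
  · intro g _
    rw [Subgroup.mem_normalizer_iff]
    intro n
    rw [hne, Subgroup.mem_bot, Subgroup.mem_bot, conj_eq_one_iff]
  · have hc10 := ut_of_mem_normalizer 2 hρ U hU hne c hc
    have hdiag := diag_mul_of_ut (ρ c) hc10
    have hne' : (ρ c).1 0 0 ≠ (ρ c).1 1 1 := by
      intro heq
      apply hc'
      have haa : (ρ c).1 0 0 * (ρ c).1 0 0 = 1 := by rw [heq] at hdiag ⊢; exact hdiag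
      have h2 := two_eq_zero' (F := F)
      have ha : ((ρ c).1 0 0 - 1) ^ 2 = 0 := by
        linear_combination haa + (1 - (ρ c).1 0 0) * h2
      have ha1 : (ρ c).1 0 0 = 1 := by
        have := pow_eq_zero_iff (two_ne_zero) |>.mp ha
        linear_combination this
      change c ∈ U
      rw [← mem_sylow_iff 2 hρ U hU, mem_slU_iff']
      exact ⟨ha1, hc10, by rw [← heq, ha1]⟩
    intro g hg
    rw [Subgroup.mem_centralizer_singleton_iff] at hg
    apply mem_normalizer_of_ut 2 hρ U hU
    apply ut_of_commute (ρ c) (ρ g) hc10 hne'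
    rw [← map_mul, ← map_mul, hg]

theorem hypB_SL2_two (U : Sylow 2 L) (hU : (U : Subgroup L) ≠ ⊥) :
    HypB 2 (ZL L) (U : Subgroup L) where
  centLe := by
    intro c hc hc'
    have hcU : c ∉ (U : Subgroup L) := fun h => hc' (Subgroup.mem_sup_right h)
    obtain ⟨h, hh⟩ := exists_conj 2 L.subtype U
    exact H5_aux_two (conjHom_injective h L.subtype_injective) U hh c hc hcU
  commMem := fun a b ha hb => subgroup_H6 2 L U hU a b ha hb

/-- **Counting theorem for subgroups of `SL₂(F)`, characteristic `2`**. -/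
theorem card_sylow_SL2_two (U : Sylow 2 L) (hN : 1 < Nat.card (Sylow 2 L)) :
    Nat.card (Sylow 2 L) = Nat.card (U : Subgroup L) + 1 ∨ Nat.card (U : Subgroup L) = 2 := by
  have hU : (U : Subgroup L) ≠ ⊥ := sylow_ne_bot_of_one_lt U hN
  obtain ⟨n, hn⟩ := IsPGroup.iff_card.mp U.isPGroup'
  rcases n with _ | _ | n
  · exfalso
    rw [pow_zero] at hn
    exact hU ((Subgroup.card_eq_one).mp hn)
  · right; rw [hn]; norm_num
  · left
    have hq3 : 3 ≤ Nat.card (U : Subgroup L) := by
      rw [hn]
      calc 3 ≤ 2 ^ 2 := by norm_num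
        _ ≤ 2 ^ (n + 1 + 1) := Nat.pow_le_pow_right (by norm_num) (by omega)
    rcases (hyp_SL2_two L).main' U hq3 hN (hypB_SL2_two L U hU) with h | ⟨h, _⟩
    · exact h
    · omega

end chartwo

end Cfsg.Agent.Helper51.CT
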