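import Mathlib
import Cfsg.Agent.Lib.Helper59.SL2Sub

/-!
# Dickson-lite reductions, I: conjugating subgroups of `SL₂(F)` by elements of `GL₂(F)`

The "rational pair" conclusion and its transport along conjugation.
-/

set_option autoImplicit false
set_option linter.unusedSectionVars false
set_option linter.unusedVariables false

namespace Cfsg.Agent.Helper51.DL

open Matrix

variable {F : Type*} [Field F]

/-- a rational pair in `L`: two elements acting as the standard transvections on a basis -/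
def RatPair (L : Subgroup (Matrix.SpecialLinearGroup (Fin 2) F)) : Prop :=
  ∃ x ∈ L, ∃ y ∈ L, ∃ v w : Fin 2 → F, v 0 * w 1 - v 1 * w 0 ≠ 0 ∧
    (x : Matrix (Fin 2) (Fin 2) F).mulVec v = v ∧
    (x : Matrix (Fin 2) (Fin 2) F).mulVec w = w + v ∧
    (y : Matrix (Fin 2) (Fin 2) F).mulVec v = v + w ∧
    (y : Matrix (Fin 2) (Fin 2) F).mulVec w = w

theorem gl_inv_mul (M : GL (Fin 2) F) :
    ((M⁻¹ : GL (Fin 2) F) : Matrix (Fin 2) (Fin 2) F) * (M : Matrix (Fin 2) (Fin 2) F) = 1 := by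
  rw [← Units.val_mul, inv_mul_cancel, Units.val_one]

theorem gl_mul_inv (M : GL (Fin 2) F) :
    (M : Matrix (Fin 2) (Fin 2) F) * ((M⁻¹ : GL (Fin 2) F) : Matrix (Fin 2) (Fin 2) F) = 1 := by
  rw [← Units.val_mul, mul_inv_cancel, Units.val_one]

/-- conjugation by an invertible matrix -/
def conjM (M : GL (Fin 2) F) :
    Matrix.SpecialLinearGroup (Fin 2) F →* Matrix.SpecialLinearGroup (Fin 2) F where
  toFun g := ⟨(M : Matrix (Fin 2) (Fin 2) F) * g.1 *
      ((M⁻¹ : GL (Fin 2) F) : Matrix (Fin 2) (Fin 2) F), by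
    rw [det_mul, det_mul, g.2, mul_one, ← det_mul, gl_mul_inv, det_one]⟩
  map_one' := by
    apply Subtype.ext
    change (M : Matrix (Fin 2) (Fin 2) F) * (1 : Matrix (Fin 2) (Fin 2) F) * _ = 1
    rw [mul_one, gl_mul_inv]
  map_mul' a b := by
    apply Subtype.ext
    change (M : Matrix (Fin 2) (Fin 2) F) * (a.1 * b.1) * _ =
      ((M : Matrix (Fin 2) (Fin 2) F) * a.1 * _) * ((M : Matrix (Fin 2) (Fin 2) F) * b.1 * _)
    have h := gl_inv_mul M
    calc (M : Matrix (Fin 2) (Fin 2) F) * (a.1 * b.1) *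
          ((M⁻¹ : GL (Fin 2) F) : Matrix (Fin 2) (Fin 2) F)
        = (M : Matrix (Fin 2) (Fin 2) F) * a.1 * (1 : Matrix (Fin 2) (Fin 2) F) * b.1 *
          ((M⁻¹ : GL (Fin 2) F) : Matrix (Fin 2) (Fin 2) F) := by
          rw [mul_one, mul_assoc (M : Matrix (Fin 2) (Fin 2) F) a.1 b.1]
      _ = _ := by
          rw [← h]; simp only [mul_assoc]

theorem conjM_coe (M : GL (Fin 2) F) (g : Matrix.SpecialLinearGroup (Fin 2) F) :
    ((conjM M g : Matrix.SpecialLinearGroup (Fin 2) F) : Matrix (Fin 2) (Fin 2) F) =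
      (M : Matrix (Fin 2) (Fin 2) F) * g.1 *
      ((M⁻¹ : GL (Fin 2) F) : Matrix (Fin 2) (Fin 2) F) := rfl

theorem conjM_inv_conjM (M : GL (Fin 2) F) (g : Matrix.SpecialLinearGroup (Fin 2) F) :
    conjM M⁻¹ (conjM M g) = g := by
  apply Subtype.ext
  rw [conjM_coe, conjM_coe, inv_inv]
  have h := gl_inv_mul M
  calc ((M⁻¹ : GL (Fin 2) F) : Matrix (Fin 2) (Fin 2) F) *
        ((M : Matrix (Fin 2) (Fin 2) F) * g.1 *
          ((M⁻¹ : GL (Fin 2) F) : Matrix (Fin 2) (Fin 2) F)) * (M : Matrix (Fin 2) (Fin 2) F)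
      = (((M⁻¹ : GL (Fin 2) F) : Matrix (Fin 2) (Fin 2) F) * (M : Matrix (Fin 2) (Fin 2) F)) *
        g.1 * (((M⁻¹ : GL (Fin 2) F) : Matrix (Fin 2) (Fin 2) F) *
          (M : Matrix (Fin 2) (Fin 2) F)) := by simp only [mul_assoc]
    _ = g.1 := by rw [h, one_mul, mul_one]

theorem conjM_conjM_inv (M : GL (Fin 2) F) (g : Matrix.SpecialLinearGroup (Fin 2) F) :
    conjM M (conjM M⁻¹ g) = g := by
  have := conjM_inv_conjM M⁻¹ g
  rwa [inv_inv] at this

theorem conjM_injective (M : GL (Fin 2) F) : Function.Injective (conjM M) := by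
  intro a b hab
  rw [← conjM_inv_conjM M a, hab, conjM_inv_conjM]

/-- the `2 × 2` determinant of two vectors is multiplied by `det N` under `N` -/
theorem det_mulVec (N : Matrix (Fin 2) (Fin 2) F) (v w : Fin 2 → F) :
    (N.mulVec v) 0 * (N.mulVec w) 1 - (N.mulVec v) 1 * (N.mulVec w) 0 =
      N.det * (v 0 * w 1 - v 1 * w 0) := by
  simp only [mulVec, dotProduct, Fin.sum_univ_two, det_fin_two]
  ring

/-- transport of a rational pair back along a conjugation -/
theorem RatPair.of_map (M : GL (Fin 2) F) (L : Subgroup (Matrix.SpecialLinearGroup (Fin 2) F))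
    (h : RatPair (L.map (conjM M))) : RatPair L := by
  obtain ⟨x', hx', y', hy', v', w', hdet, h1, h2, h3, h4⟩ := h
  obtain ⟨x, hx, rfl⟩ := Subgroup.mem_map.mp hx'
  obtain ⟨y, hy, rfl⟩ := Subgroup.mem_map.mp hy'
  obtain ⟨N, hN⟩ : ∃ N : Matrix (Fin 2) (Fin 2) F,
      N = ((M⁻¹ : GL (Fin 2) F) : Matrix (Fin 2) (Fin 2) F) := ⟨_, rfl⟩
  have hNM : N * (M : Matrix (Fin 2) (Fin 2) F) = 1 := by rw [hN]; exact gl_inv_mul M
  have key : ∀ (g : Matrix.SpecialLinearGroup (Fin 2) F) (u : Fin 2 → F),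
      g.1.mulVec (N.mulVec u) = N.mulVec ((conjM M g).1.mulVec u) := by
    intro g u
    rw [conjM_coe, ← hN, mulVec_mulVec, mulVec_mulVec]
    congr 1
    calc g.1 * N = (N * (M : Matrix (Fin 2) (Fin 2) F)) * g.1 * N := by rw [hNM, one_mul]
      _ = _ := by simp only [mul_assoc]
  refine ⟨x, hx, y, hy, N.mulVec v', N.mulVec w', ?_, ?_, ?_, ?_, ?_⟩
  · rw [det_mulVec]
    have hdN : N.det ≠ 0 := by
      intro h0
      have := congrArg Matrix.det hNM
      rw [det_mul, h0, zero_mul, det_one] at this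
      exact zero_ne_one this
    exact mul_ne_zero hdN hdet
  · rw [key, h1]
  · rw [key, h2, mulVec_add]
  · rw [key, h3, mulVec_add]
  · rw [key, h4]

end Cfsg.Agent.Helper51.DL
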