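import Cfsg.Agent.Lib.Helper51.CTSL2
import Cfsg.Agent.Lib.Helper51.DLReduce1
import Cfsg.Agent.Lib.Helper41.DicksonGen

/-!
# Dickson-lite: the core

`F` a finite field of odd characteristic `p`, `L ≤ SL₂(F)` containing `u(α)` and `l(β)` with
`α β ≠ 0`.  Then `L` contains a rational pair.
-/

set_option autoImplicit false
set_option linter.unusedSectionVars false
set_option linter.unusedVariables false

namespace Cfsg.Agent.Helper51.DL

open Matrix Cfsg.Agent.Helper41

section pairs

variable {F : Type*} [Field F]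

theorem lowerSL_pow' (ξ : F) (n : ℕ) : lowerSL ξ ^ n = lowerSL (n • ξ) := by
  induction n with
  | zero => rw [pow_zero, zero_smul, lowerSL_zero]
  | succ n ih => rw [pow_succ, ih, lowerSL_mul, succ_nsmul]

/-- `u(α)`, `l(β)` with `α β = 1` form a rational pair -/
theorem ratPair_of_mul_eq_one (L : Subgroup (SpecialLinearGroup (Fin 2) F)) (α β : F)
    (h : α * β = 1) (hu : upperSL α ∈ L) (hl : lowerSL β ∈ L) : RatPair L := by
  have hα : α ≠ 0 := left_ne_zero_of_mul_eq_one h
  have h' : β * α = 1 := by rw [mul_comm]; exact h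
  refine ⟨upperSL α, hu, lowerSL β, hl, ![α, 0], ![0, 1], ?_, ?_, ?_, ?_, ?_⟩
  · simpa using hα
  · ext i
    fin_cases i <;> simp [upperSL, mulVec, dotProduct, Fin.sum_univ_two]
  · ext i
    fin_cases i <;> simp [upperSL, mulVec, dotProduct, Fin.sum_univ_two]
  · ext i
    fin_cases i <;> simp [lowerSL, mulVec, dotProduct, Fin.sum_univ_two, h']
  · ext i
    fin_cases i <;> simp [lowerSL, mulVec, dotProduct, Fin.sum_univ_two]

theorem conj_coe (α β : F) :
    ((lowerSL β * upperSL α * lowerSL β * (lowerSL β * upperSL α)⁻¹ :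
      SpecialLinearGroup (Fin 2) F) : Matrix (Fin 2) (Fin 2) F) =
      !![1 + α * β + (α * β) ^ 2, -(α * (α * β)); β * (1 + α * β) ^ 2,
        1 - α * β - (α * β) ^ 2] := by
  have hu : ((upperSL α : SpecialLinearGroup (Fin 2) F) : Matrix (Fin 2) (Fin 2) F) =
      !![1, α; 0, 1] := rfl
  have hl : ((lowerSL β : SpecialLinearGroup (Fin 2) F) : Matrix (Fin 2) (Fin 2) F) =
      !![1, 0; β, 1] := rfl
  rw [Matrix.SpecialLinearGroup.coe_mul, Matrix.SpecialLinearGroup.coe_mul,
    Matrix.SpecialLinearGroup.coe_mul, Matrix.SpecialLinearGroup.coe_inv,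
    Matrix.SpecialLinearGroup.coe_mul, hu, hl]
  simp only [Matrix.mul_fin_two, Matrix.adjugate_fin_two_of]
  ext i j
  fin_cases i <;> fin_cases j <;> simp <;> ring

/-- in characteristic `3`, `u(α)`, `l(β)` with `(α β)² = -1` generate a group containing a rational
pair -/
theorem ratPair_of_sq (L : Subgroup (SpecialLinearGroup (Fin 2) F)) (α β : F)
    (h3 : (3 : F) = 0) (ht : (α * β) ^ 2 = -1) (hu : upperSL α ∈ L) (hl : lowerSL β ∈ L) :
    RatPair L := by
  have hα : α ≠ 0 := by
    rintro rfl
    rw [zero_mul] at ht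
    have : (1 : F) = 0 := by
      have h0 : (0 : F) ^ 2 = 0 := by norm_num
      rw [h0] at ht
      linear_combination ht
    exact one_ne_zero this
  have h1t : 1 + α * β ≠ 0 := by
    intro h
    have e : α * β = -1 := by linear_combination h
    rw [e] at ht
    have : (1 : F) = 0 := by linear_combination -ht + h3
    exact one_ne_zero this
  have hyL : lowerSL β * upperSL α * lowerSL β * (lowerSL β * upperSL α)⁻¹ ∈ L :=
    L.mul_mem (L.mul_mem (L.mul_mem hl hu) hl) (L.inv_mem (L.mul_mem hl hu))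
  refine ⟨upperSL α, hu, _, hyL, ![α * (1 + α * β), 0], ![α, 1 + α * β], ?_, ?_, ?_, ?_, ?_⟩
  · simp only [cons_val_zero, cons_val_one]
    rw [zero_mul, sub_zero]
    exact mul_ne_zero (mul_ne_zero hα h1t) h1t
  · ext i
    fin_cases i <;> simp [upperSL, mulVec, dotProduct, Fin.sum_univ_two]
  · ext i
    fin_cases i <;> simp [upperSL, mulVec, dotProduct, Fin.sum_univ_two]
  · rw [conj_coe]
    ext i
    fin_cases i <;> simp [mulVec, dotProduct, Fin.sum_univ_two]
    · linear_combination (α * (α * β + 2)) * ht - α * h3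
    · linear_combination ((1 + α * β) * (α * β + 2)) * ht - (1 + α * β) * h3
  · rw [conj_coe]
    ext i
    fin_cases i <;> simp [mulVec, dotProduct, Fin.sum_univ_two] <;> ring

end pairs

end Cfsg.Agent.Helper51.DL
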