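import Cfsg.Agent.Lib.Helper51.DLCore

/-!
# Dickson-lite: the core theorem
-/

set_option autoImplicit false
set_option linter.unusedSectionVars false
set_option linter.unusedVariables false

namespace Cfsg.Agent.Helper51.DL

open Matrix Cfsg.Agent.Helper41

variable {F : Type*} [Field F] [Fintype F] (p : ℕ) [Fact p.Prime] [CharP F p]

theorem one_lt_card_sylow_of_root (L : Subgroup (SpecialLinearGroup (Fin 2) F)) (α β : F)
    (hα : α ≠ 0) (hβ : β ≠ 0) (hu : upperSL α ∈ L) (hl : lowerSL β ∈ L) :
    1 < Nat.card (Sylow p L) := by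
  by_contra hno
  have hsub : Subsingleton (Sylow p L) := by
    rw [← Finite.card_le_one_iff_subsingleton]; omega
  obtain ⟨P1, hP1⟩ := exists_sylow_eq_rootSub L p 1 α hα (by
    rw [one_mul, inv_one, mul_one]; exact hu)
  -- `l(β)` is a `p`-element
  have hbp : (⟨lowerSL β, hl⟩ : L) ^ p = 1 := by
    apply Subtype.ext
    rw [Subgroup.coe_pow, Subgroup.coe_one]
    change lowerSL β ^ p = 1
    rw [lowerSL_pow', nsmul_eq_mul, CharP.cast_eq_zero F p, zero_mul, lowerSL_zero]
  have hb : IsPGroup p (Subgroup.zpowers (⟨lowerSL β, hl⟩ : L)) := by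
    rintro ⟨g, hg⟩
    obtain ⟨n, rfl⟩ := Subgroup.mem_zpowers_iff.mp hg
    refine ⟨1, Subtype.ext ?_⟩
    rw [pow_one, Subgroup.coe_pow, Subgroup.coe_one, ← zpow_natCast, ← _root_.zpow_mul, mul_comm,
      _root_.zpow_mul, zpow_natCast, hbp, _root_.one_zpow]
  obtain ⟨P2, hP2⟩ := hb.exists_le_sylow
  have h12 : P2 = P1 := Subsingleton.elim _ _
  have hmem : (⟨lowerSL β, hl⟩ : L) ∈ (P1 : Subgroup L) := by
    rw [← h12]; exact hP2 (Subgroup.mem_zpowers _)
  rw [hP1, mem_rootSub, mem_rootConj_one, mem_upperUni] at hmem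
  apply hβ
  have := hmem.2.1
  simpa [lowerSL] using this

theorem trace_upper_lower (α β : F) :
    ((upperSL α * lowerSL β : SpecialLinearGroup (Fin 2) F) :
      Matrix (Fin 2) (Fin 2) F).trace = 2 + α * β := by
  have hu : ((upperSL α : SpecialLinearGroup (Fin 2) F) : Matrix (Fin 2) (Fin 2) F) =
      !![1, α; 0, 1] := rfl
  have hl : ((lowerSL β : SpecialLinearGroup (Fin 2) F) : Matrix (Fin 2) (Fin 2) F) =
      !![1, 0; β, 1] := rfl
  rw [Matrix.SpecialLinearGroup.coe_mul, hu, hl, Matrix.mul_fin_two, Matrix.trace_fin_two_of]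
  ring

/-- **Dickson-lite, core**: a subgroup of `SL₂(F)`, `F` finite of odd characteristic, containing
nontrivial upper and lower root elements contains a rational pair. -/
theorem dl_core (hp : p ≠ 2) (L : Subgroup (SpecialLinearGroup (Fin 2) F)) (α β : F)
    (hα : α ≠ 0) (hβ : β ≠ 0) (hu : upperSL α ∈ L) (hl : lowerSL β ∈ L) : RatPair L := by
  have hN := one_lt_card_sylow_of_root p L α β hα hβ hu hl
  have U : Sylow p L := default
  rcases Cfsg.Agent.Helper51.CT.card_sylow_SL2 p hp L U hN with hmain | ⟨hp3, hex⟩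
  · obtain ⟨K, a, ha, hA, hB⟩ := rootSets_eq_of_card_sylow p L α β hu hα hl hβ U hmain
    obtain ⟨k, hk, hαk⟩ := (hA α).mp hu
    have hinv : α⁻¹ ∈ rootSetL L := (hB α⁻¹).mpr ⟨k⁻¹, K.inv_mem hk, by rw [hαk, mul_inv]⟩
    exact ratPair_of_mul_eq_one L α α⁻¹ (mul_inv_cancel₀ hα) hu hinv
  · subst hp3
    have h3 : (3 : F) = 0 := by
      have := CharP.cast_eq_zero F 3
      exact_mod_cast this
    have hl' : lowerSL (-β) ∈ L := by rw [← lowerSL_inv]; exact L.inv_mem hl
    have e1 := trace_poly_of_pow_central h3 (upperSL α * lowerSL β)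
      (hex ⟨upperSL α * lowerSL β, L.mul_mem hu hl⟩)
    have e2 := trace_poly_of_pow_central h3 (upperSL α * lowerSL (-β))
      (hex ⟨upperSL α * lowerSL (-β), L.mul_mem hu hl'⟩)
    rw [trace_upper_lower] at e1 e2
    obtain ⟨t, ht⟩ : ∃ t, t = α * β := ⟨_, rfl⟩
    have ht0 : t ≠ 0 := by rw [ht]; exact mul_ne_zero hα hβ
    have e2' : (2 - t) * ((2 - t) ^ 2 - 1) * ((2 - t) ^ 4 + 1) = 0 := by
      rw [ht]; linear_combination e2
    rw [← ht] at e1
    -- the trichotomy
    have htri : t = 1 ∨ t = -1 ∨ t ^ 2 = -1 := by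
      rcases mul_eq_zero.mp e1 with h | h
      · rcases mul_eq_zero.mp h with h | h
        · left; linear_combination h - h3
        · -- (2+t)^2 = 1
          have : (1 + t) * t = 0 := by linear_combination h - (1 + t) * h3
          rcases mul_eq_zero.mp this with h' | h'
          · right; left; linear_combination h'
          · exact absurd h' ht0
      · rcases mul_eq_zero.mp e2' with h' | h'
        · rcases mul_eq_zero.mp h' with h' | h'
          · right; left; linear_combination -h' + h3
          · have : (1 - t) * t = 0 := by linear_combination -h' + (1 - t) * h3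
            rcases mul_eq_zero.mp this with h'' | h''
            · left; linear_combination -h''
            · exact absurd h'' ht0
        · right; right
          have : t * (t ^ 2 + 1) = 0 := by
            linear_combination h - h' - (5 * t ^ 3 + 21 * t) * h3
          rcases mul_eq_zero.mp this with h'' | h''
          · exact absurd h'' ht0
          · linear_combination h''
    rcases htri with h | h | h
    · exact ratPair_of_mul_eq_one L α β (by rw [← ht]; exact h) hu hl
    · exact ratPair_of_mul_eq_one L α (-β) (by rw [mul_neg, ← ht, h, neg_neg]) hu hl'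
    · exact ratPair_of_sq L α β h3 (by rw [← ht]; exact h) hu hl

end Cfsg.Agent.Helper51.DL
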