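import Cfsg.Agent.Lib.Helper51.DLReduce3
import Cfsg.Agent.Lib.Helper31.QdRecog

/-!
# Dickson-lite reductions, IV: a rational pair generates a copy of `SL₂(p)`
-/

set_option autoImplicit false
set_option linter.unusedSectionVars false
set_option linter.unusedVariables false

namespace Cfsg.Agent.Helper51.DL

open Matrix

variable {F : Type*} [Field F] (p : ℕ) [Fact p.Prime] [CharP F p]

theorem slMap_injective {R S : Type*} [CommRing R] [CommRing S] (f : R →+* S)
    (hf : Function.Injective f) :
    Function.Injective (Matrix.SpecialLinearGroup.map (n := Fin 2) f) := by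
  intro a b hab
  apply Subtype.ext
  have := congrArg (fun g : Matrix.SpecialLinearGroup (Fin 2) S => g.1) hab
  simp only [Matrix.SpecialLinearGroup.map_apply_coe, RingHom.mapMatrix_apply] at this
  exact Matrix.map_injective hf this

theorem slMap_unip (f : ZMod p →+* F) :
    ((Matrix.SpecialLinearGroup.map f (Cfsg.Agent.Helper46.unip (1 : ZMod p)) :
    Matrix.SpecialLinearGroup (Fin 2) F) : Matrix (Fin 2) (Fin 2) F) = !![1, 1; 0, 1] := by
  rw [Matrix.SpecialLinearGroup.map_apply_coe, RingHom.mapMatrix_apply]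
  ext i j
  fin_cases i <;> fin_cases j <;> simp [Cfsg.Agent.Helper46.unip]

theorem slMap_lowU (f : ZMod p →+* F) :
    ((Matrix.SpecialLinearGroup.map f (Cfsg.Agent.Helper31.QdR.lowU (1 : ZMod p)) :
    Matrix.SpecialLinearGroup (Fin 2) F) : Matrix (Fin 2) (Fin 2) F) = !![1, 0; 1, 1] := by
  rw [Matrix.SpecialLinearGroup.map_apply_coe, RingHom.mapMatrix_apply]
  ext i j
  fin_cases i <;> fin_cases j <;> simp [Cfsg.Agent.Helper31.QdR.lowU]

/-- a rational pair generates a copy of `SL₂(p)` -/
theorem exists_SL2_of_ratPair (L : Subgroup (Matrix.SpecialLinearGroup (Fin 2) F))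
    (h : RatPair L) :
    ∃ K : Subgroup (Matrix.SpecialLinearGroup (Fin 2) F), K ≤ L ∧
      Nonempty (K ≃* Matrix.SpecialLinearGroup (Fin 2) (ZMod p)) := by
  obtain ⟨x, hx, y, hy, v, w, hdet, h1, h2, h3, h4⟩ := h
  have hBdet : (!![v 0, w 0; v 1, w 1] : Matrix (Fin 2) (Fin 2) F).det ≠ 0 := by
    rw [det_fin_two_of, mul_comm (w 0)]; exact hdet
  obtain ⟨B, hB⟩ : ∃ B : GL (Fin 2) F,
      (B : Matrix (Fin 2) (Fin 2) F) = !![v 0, w 0; v 1, w 1] :=
    ⟨Matrix.GeneralLinearGroup.mkOfDetNeZero _ hBdet, rfl⟩
  set f : ZMod p →+* F := ZMod.castHom (dvd_refl p) F with hf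
  have hfinj : Function.Injective f := RingHom.injective f
  set φ : Matrix.SpecialLinearGroup (Fin 2) (ZMod p) →* Matrix.SpecialLinearGroup (Fin 2) F :=
    (conjM B).comp (Matrix.SpecialLinearGroup.map f) with hφ
  have hφinj : Function.Injective φ := by
    rw [hφ, MonoidHom.coe_comp]
    exact (conjM_injective B).comp (slMap_injective f hfinj)
  refine ⟨φ.range, ?_, ⟨(MonoidHom.ofInjective hφinj).symm⟩⟩
  rw [MonoidHom.range_eq_map, ← Cfsg.Agent.Helper31.QdR.closure_unip_lowU p, MonoidHom.map_closure,
    Subgroup.closure_le]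
  have e1 := congrFun h1 0
  have e2 := congrFun h1 1
  have e3 := congrFun h2 0
  have e4 := congrFun h2 1
  have e5 := congrFun h3 0
  have e6 := congrFun h3 1
  have e7 := congrFun h4 0
  have e8 := congrFun h4 1
  simp only [mulVec, dotProduct, Fin.sum_univ_two, Pi.add_apply] at e1 e2 e3 e4 e5 e6 e7 e8
  rintro _ ⟨g, hg, rfl⟩
  rcases hg with rfl | hg
  · have : φ (Cfsg.Agent.Helper46.unip (1 : ZMod p)) = x := by
      rw [hφ, MonoidHom.comp_apply, conjM_eq_iff, hB, slMap_unip]
      ext i j
      fin_cases i <;> fin_cases j <;>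
        simp [Matrix.mul_apply, Fin.sum_univ_two]
      · linear_combination -e1
      · linear_combination -e3
      · linear_combination -e2
      · linear_combination -e4
    rw [this]; exact hx
  · rw [Set.mem_singleton_iff] at hg
    subst hg
    have : φ (Cfsg.Agent.Helper31.QdR.lowU (1 : ZMod p)) = y := by
      rw [hφ, MonoidHom.comp_apply, conjM_eq_iff, hB, slMap_lowU]
      ext i j
      fin_cases i <;> fin_cases j <;>
        simp [Matrix.mul_apply, Fin.sum_univ_two]
      · linear_combination -e5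
      · linear_combination -e7
      · linear_combination -e6
      · linear_combination -e8
    rw [this]; exact hy

end Cfsg.Agent.Helper51.DL
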