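import Cfsg.Agent.Lib.Helper51.DLCore2
import Cfsg.Agent.Lib.Helper51.DLReduce4

/-!
# Dickson-lite: main statements

* `ratPair_of_card_sylow`: a subgroup of `SL₂(F)` (`F` finite of odd characteristic `p`) with more
  than one Sylow `p`-subgroup contains a rational pair;
* `exists_SL2_of_card_sylow`: and hence a copy of `SL₂(p)`.
-/

set_option autoImplicit false
set_option linter.unusedSectionVars false
set_option linter.unusedVariables false

namespace Cfsg.Agent.Helper51.DL

open Matrix Cfsg.Agent.Helper41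

variable {F : Type*} [Field F] [Fintype F] (p : ℕ) [Fact p.Prime] [CharP F p]

theorem ratPair_of_card_sylow (hp : p ≠ 2) (L : Subgroup (SpecialLinearGroup (Fin 2) F))
    (hN : 1 < Nat.card (Sylow p L)) : RatPair L := by
  obtain ⟨M, lam, hlam, ⟨a, ha, hca⟩, ⟨b, hb, hcb⟩⟩ := exists_std_position p L hN
  have hu : upperSL lam ∈ L.map (conjM M) := by
    refine Subgroup.mem_map.mpr ⟨a, ha, Subtype.ext ?_⟩
    rw [hca]; rfl
  have hl : lowerSL 1 ∈ L.map (conjM M) := by
    refine Subgroup.mem_map.mpr ⟨b, hb, Subtype.ext ?_⟩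
    rw [hcb]; rfl
  exact RatPair.of_map M L (dl_core p hp (L.map (conjM M)) lam 1 hlam one_ne_zero hu hl)

theorem exists_SL2_of_card_sylow (hp : p ≠ 2) (L : Subgroup (SpecialLinearGroup (Fin 2) F))
    (hN : 1 < Nat.card (Sylow p L)) :
    ∃ K : Subgroup (Matrix.SpecialLinearGroup (Fin 2) F), K ≤ L ∧
      Nonempty (K ≃* Matrix.SpecialLinearGroup (Fin 2) (ZMod p)) :=
  exists_SL2_of_ratPair p L (ratPair_of_card_sylow p hp L hN)

end Cfsg.Agent.Helper51.DL
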