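import Cfsg.Agent.Lib.Helper51.DLReduce1

/-!
# Dickson-lite reductions, II: standard position

A subgroup `L ≤ SL₂(F)` (`F` finite of characteristic `p`) with more than one Sylow `p`-subgroup has
a `GL₂(F)`-conjugate containing `u(λ)` (`λ ≠ 0`) and `l(1)`.
-/

set_option autoImplicit false
set_option linter.unusedSectionVars false
set_option linter.unusedVariables false

namespace Cfsg.Agent.Helper51.DL

open Matrix Cfsg.Agent.Helper59.SL2Sub Cfsg.Agent.Helper5

variable {F : Type*} [Field F]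

theorem conjM_eq_iff (M : GL (Fin 2) F) (g g' : Matrix.SpecialLinearGroup (Fin 2) F) :
    conjM M g = g' ↔ (M : Matrix (Fin 2) (Fin 2) F) * g.1 = g'.1 * (M : Matrix (Fin 2) (Fin 2) F) := by
  constructor
  · rintro rfl
    rw [conjM_coe, mul_assoc _ _ (M : Matrix (Fin 2) (Fin 2) F), gl_inv_mul, mul_one]
  · intro h
    apply Subtype.ext
    rw [conjM_coe, h, mul_assoc, gl_mul_inv, mul_one]

theorem conjM_coe_eq_iff (M : GL (Fin 2) F) (g : Matrix.SpecialLinearGroup (Fin 2) F)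
    (X : Matrix (Fin 2) (Fin 2) F) :
    (conjM M g).1 = X ↔ (M : Matrix (Fin 2) (Fin 2) F) * g.1 = X * (M : Matrix (Fin 2) (Fin 2) F) := by
  constructor
  · rintro rfl
    rw [conjM_coe, mul_assoc _ _ (M : Matrix (Fin 2) (Fin 2) F), gl_inv_mul, mul_one]
  · intro h
    rw [conjM_coe, h, mul_assoc, gl_mul_inv, mul_one]

theorem conjM_mul (A B : GL (Fin 2) F) (g : Matrix.SpecialLinearGroup (Fin 2) F) :
    conjM (A * B) g = conjM A (conjM B g) := by
  rw [conjM_eq_iff, conjM_coe, conjM_coe, Units.val_mul]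
  have h := gl_inv_mul B
  have h' := gl_inv_mul A
  calc (A : Matrix (Fin 2) (Fin 2) F) * (B : Matrix (Fin 2) (Fin 2) F) * g.1
      = (A : Matrix (Fin 2) (Fin 2) F) * ((B : Matrix (Fin 2) (Fin 2) F) * g.1 *
          (((B⁻¹ : GL (Fin 2) F) : Matrix (Fin 2) (Fin 2) F) * (B : Matrix (Fin 2) (Fin 2) F))) := by
        rw [h, mul_one, mul_assoc]
    _ = (A : Matrix (Fin 2) (Fin 2) F) * ((B : Matrix (Fin 2) (Fin 2) F) * g.1 *
          ((B⁻¹ : GL (Fin 2) F) : Matrix (Fin 2) (Fin 2) F)) *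
          (((A⁻¹ : GL (Fin 2) F) : Matrix (Fin 2) (Fin 2) F) * (A : Matrix (Fin 2) (Fin 2) F)) *
          (B : Matrix (Fin 2) (Fin 2) F) := by
        rw [h', mul_one]; simp only [mul_assoc]
    _ = _ := by simp only [mul_assoc]

/-- an element of `SL₂` fixing the first basis vector is upper unitriangular -/
theorem eq_upper_of_fix (g : Matrix.SpecialLinearGroup (Fin 2) F)
    (h : g.1.mulVec ![1, 0] = ![1, 0]) : g.1 = !![1, g.1 0 1; 0, 1] := by
  have h0 : g.1 0 0 = 1 := by
    have := congrFun h 0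
    simpa [mulVec, dotProduct, Fin.sum_univ_two] using this
  have h1 : g.1 1 0 = 0 := by
    have := congrFun h 1
    simpa [mulVec, dotProduct, Fin.sum_univ_two] using this
  have hd := g.2
  rw [det_fin_two, h0, h1, mul_zero, sub_zero, one_mul] at hd
  ext i j
  fin_cases i <;> fin_cases j <;> simp [h0, h1, hd]

/-- an element of `SL₂` fixing the second basis vector is lower unitriangular -/
theorem eq_lower_of_fix (g : Matrix.SpecialLinearGroup (Fin 2) F)
    (h : g.1.mulVec ![0, 1] = ![0, 1]) : g.1 = !![1, 0; g.1 1 0, 1] := by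
  have h0 : g.1 0 1 = 0 := by
    have := congrFun h 0
    simpa [mulVec, dotProduct, Fin.sum_univ_two] using this
  have h1 : g.1 1 1 = 1 := by
    have := congrFun h 1
    simpa [mulVec, dotProduct, Fin.sum_univ_two] using this
  have hd := g.2
  rw [det_fin_two, h0, h1, zero_mul, sub_zero, mul_one] at hd
  ext i j
  fin_cases i <;> fin_cases j <;> simp [h0, h1, hd]

/-- if `h⁻¹ u h` is upper unitriangular then `u` fixes the first column of `h` -/
theorem fix_of_conj_mem_slU (h u : Matrix.SpecialLinearGroup (Fin 2) F)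
    (hu : h⁻¹ * u * h ∈ slU F) : u.1.mulVec (h.1.mulVec ![1, 0]) = h.1.mulVec ![1, 0] := by
  obtain ⟨s, hs⟩ : ∃ s, s = h⁻¹ * u * h := ⟨_, rfl⟩
  rw [← hs] at hu
  have e : u * h = h * s := by rw [hs]; group
  have e' : u.1 * h.1 = h.1 * s.1 := by
    rw [← Matrix.SpecialLinearGroup.coe_mul, ← Matrix.SpecialLinearGroup.coe_mul, e]
  obtain ⟨s00, s10, _⟩ := (mem_slU_iff' s).mp hu
  have hs1 : s.1.mulVec ![1, 0] = ![1, 0] := by
    ext i
    fin_cases i <;> simp [mulVec, dotProduct, Fin.sum_univ_two, s00, s10]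
  rw [mulVec_mulVec, e', ← mulVec_mulVec, hs1]

/-- conjugating by the inverse of a matrix with first column `e` an element fixing `e` -/
theorem conjM_inv_fix_fst (B : GL (Fin 2) F) (g : Matrix.SpecialLinearGroup (Fin 2) F)
    (hg : g.1.mulVec ((B : Matrix (Fin 2) (Fin 2) F).mulVec ![1, 0]) =
      (B : Matrix (Fin 2) (Fin 2) F).mulVec ![1, 0]) :
    (conjM B⁻¹ g).1.mulVec ![1, 0] = ![1, 0] := by
  rw [conjM_coe, inv_inv, ← mulVec_mulVec, ← mulVec_mulVec, hg, mulVec_mulVec, gl_inv_mul,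
    one_mulVec]

theorem conjM_inv_fix_snd (B : GL (Fin 2) F) (g : Matrix.SpecialLinearGroup (Fin 2) F)
    (hg : g.1.mulVec ((B : Matrix (Fin 2) (Fin 2) F).mulVec ![0, 1]) =
      (B : Matrix (Fin 2) (Fin 2) F).mulVec ![0, 1]) :
    (conjM B⁻¹ g).1.mulVec ![0, 1] = ![0, 1] := by
  rw [conjM_coe, inv_inv, ← mulVec_mulVec, ← mulVec_mulVec, hg, mulVec_mulVec, gl_inv_mul,
    one_mulVec]

end Cfsg.Agent.Helper51.DL
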