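import Cfsg.Agent.Lib.Helper51.DLReduce2

/-!
# Dickson-lite reductions, III: reaching standard position
-/

set_option autoImplicit false
set_option linter.unusedSectionVars false
set_option linter.unusedVariables false

namespace Cfsg.Agent.Helper51.DL

open Matrix Cfsg.Agent.Helper59.SL2Sub Cfsg.Agent.Helper5

variable {F : Type*} [Field F] [Fintype F] (p : ℕ) [Fact p.Prime] [CharP F p]

/-- two distinct Sylow `p`-subgroups of `L ≤ SL₂(F)` fix independent vectors -/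
theorem exists_fixed_vectors (L : Subgroup (Matrix.SpecialLinearGroup (Fin 2) F))
    (P Q : Sylow p L) (hPQ : P ≠ Q) :
    ∃ e f : Fin 2 → F, e 0 * f 1 - e 1 * f 0 ≠ 0 ∧
      (∀ u ∈ P, (u : Matrix.SpecialLinearGroup (Fin 2) F).1.mulVec e = e) ∧
      (∀ u ∈ Q, (u : Matrix.SpecialLinearGroup (Fin 2) F).1.mulVec f = f) := by
  obtain ⟨h, hh⟩ := exists_conj p L.subtype P
  obtain ⟨k, hk⟩ := exists_conj p L.subtype Q
  simp only [conjHom_apply, Subgroup.coe_subtype] at hh hk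
  refine ⟨h.1.mulVec ![1, 0], k.1.mulVec ![1, 0], ?_,
    fun u hu => fix_of_conj_mem_slU h _ (hh u hu), fun u hu => fix_of_conj_mem_slU k _ (hk u hu)⟩
  intro hdet
  apply hPQ
  -- `g = h⁻¹ k` is upper triangular
  have hg : (h⁻¹ * k).1 1 0 = 0 := by
    rw [Matrix.SpecialLinearGroup.coe_mul, Matrix.mul_apply, Fin.sum_univ_two, inv_10, inv_11]
    simp only [mulVec, dotProduct, Fin.sum_univ_two] at hdet
    simp at hdet
    linear_combination hdet
  have hle : (Q : Subgroup L) ≤ (P : Subgroup L) := by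
    intro u hu
    have h1 := hk u hu
    have h2 := (conj_mem_slU_iff (h⁻¹ * k) _ hg).mpr h1
    have e : h⁻¹ * k * (k⁻¹ * (u : Matrix.SpecialLinearGroup (Fin 2) F) * k) * (h⁻¹ * k)⁻¹ =
        h⁻¹ * (u : Matrix.SpecialLinearGroup (Fin 2) F) * h := by group
    rw [e] at h2
    have hU : ∀ u ∈ P, conjHom h L.subtype u ∈ slU F := by
      intro u hu
      rw [conjHom_apply]; exact hh u hu
    refine (mem_sylow_iff p (conjHom_injective h L.subtype_injective) P hU u).mp ?_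
    rw [conjHom_apply]; exact h2
  exact Sylow.ext (Q.is_maximal' P.isPGroup' hle)

/-- **Standard position**: a subgroup of `SL₂(F)` with more than one Sylow `p`-subgroup has a
`GL₂(F)`-conjugate containing `u(λ)`, `λ ≠ 0`, and `l(1)`. -/
theorem exists_std_position (L : Subgroup (Matrix.SpecialLinearGroup (Fin 2) F))
    (hN : 1 < Nat.card (Sylow p L)) :
    ∃ (M : GL (Fin 2) F) (lam : F), lam ≠ 0 ∧
      (∃ a ∈ L, (conjM M a).1 = !![1, lam; 0, 1]) ∧ (∃ b ∈ L, (conjM M b).1 = !![1, 0; 1, 1]) := by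
  have hfin : Finite (Sylow p L) := inferInstance
  obtain ⟨P, Q, hPQ⟩ := (Finite.one_lt_card_iff_nontrivial.mp hN).exists_pair_ne
  obtain ⟨e, f, hdet, hP, hQ⟩ := exists_fixed_vectors p L P Q hPQ
  -- nontrivial elements
  obtain ⟨u0, hu0P, hu0Q⟩ : ∃ u ∈ P, u ∉ Q := by
    by_contra hno
    push Not at hno
    exact hPQ (Sylow.ext (P.is_maximal' Q.isPGroup' hno)).symm
  obtain ⟨u1, hu1Q, hu1P⟩ : ∃ u ∈ Q, u ∉ P := by
    by_contra hno
    push Not at hno
    exact hPQ (Sylow.ext (Q.is_maximal' P.isPGroup' hno))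
  have hu0 : (u0 : Matrix.SpecialLinearGroup (Fin 2) F) ≠ 1 := by
    intro h1
    apply hu0Q
    have : u0 = 1 := Subtype.ext h1
    rw [this]; exact Subgroup.one_mem _
  have hu1 : (u1 : Matrix.SpecialLinearGroup (Fin 2) F) ≠ 1 := by
    intro h1
    apply hu1P
    have : u1 = 1 := Subtype.ext h1
    rw [this]; exact Subgroup.one_mem _
  -- the basis matrix
  have hBdet : (!![e 0, f 0; e 1, f 1] : Matrix (Fin 2) (Fin 2) F).det ≠ 0 := by
    rw [det_fin_two_of, mul_comm (f 0)]; exact hdet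
  set B : GL (Fin 2) F := Matrix.GeneralLinearGroup.mkOfDetNeZero _ hBdet with hB
  have hBe : (B : Matrix (Fin 2) (Fin 2) F).mulVec ![1, 0] = e := by
    ext i
    fin_cases i <;> simp [hB, Matrix.GeneralLinearGroup.mkOfDetNeZero, mulVec, dotProduct,
      Fin.sum_univ_two]
  have hBf : (B : Matrix (Fin 2) (Fin 2) F).mulVec ![0, 1] = f := by
    ext i
    fin_cases i <;> simp [hB, Matrix.GeneralLinearGroup.mkOfDetNeZero, mulVec, dotProduct,
      Fin.sum_univ_two]
  have h0 := eq_upper_of_fix _ (conjM_inv_fix_fst B (u0 : Matrix.SpecialLinearGroup (Fin 2) F)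
    (by rw [hBe]; exact hP u0 hu0P))
  have h1 := eq_lower_of_fix _ (conjM_inv_fix_snd B (u1 : Matrix.SpecialLinearGroup (Fin 2) F)
    (by rw [hBf]; exact hQ u1 hu1Q))
  obtain ⟨t, ht⟩ : ∃ t, t = (conjM B⁻¹ (u0 : Matrix.SpecialLinearGroup (Fin 2) F)).1 0 1 :=
    ⟨_, rfl⟩
  obtain ⟨μ, hμ⟩ : ∃ μ, μ = (conjM B⁻¹ (u1 : Matrix.SpecialLinearGroup (Fin 2) F)).1 1 0 :=
    ⟨_, rfl⟩
  rw [← ht] at h0
  rw [← hμ] at h1
  have ht0 : t ≠ 0 := by
    intro h
    apply hu0
    apply conjM_injective B⁻¹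
    rw [map_one]
    apply Subtype.ext
    rw [h0, h]
    ext i j
    fin_cases i <;> fin_cases j <;> simp
  have hμ0 : μ ≠ 0 := by
    intro h
    apply hu1
    apply conjM_injective B⁻¹
    rw [map_one]
    apply Subtype.ext
    rw [h1, h]
    ext i j
    fin_cases i <;> fin_cases j <;> simp
  -- rescale
  have hDdet : (!![μ, 0; 0, 1] : Matrix (Fin 2) (Fin 2) F).det ≠ 0 := by
    rw [det_fin_two_of]; simpa using hμ0
  set D : GL (Fin 2) F := Matrix.GeneralLinearGroup.mkOfDetNeZero _ hDdet with hD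
  have hDcoe : (D : Matrix (Fin 2) (Fin 2) F) = !![μ, 0; 0, 1] := rfl
  refine ⟨D * B⁻¹, μ * t, mul_ne_zero hμ0 ht0, ⟨u0, u0.2, ?_⟩, ⟨u1, u1.2, ?_⟩⟩
  · rw [conjM_mul, conjM_coe_eq_iff, h0, hDcoe]
    ext i j
    fin_cases i <;> fin_cases j <;> simp [Matrix.mul_apply, Fin.sum_univ_two]
  · rw [conjM_mul, conjM_coe_eq_iff, h1, hDcoe]
    ext i j
    fin_cases i <;> fin_cases j <;> simp [Matrix.mul_apply, Fin.sum_univ_two]

end Cfsg.Agent.Helper51.DL
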