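import Mathlib
import Cfsg.Prelude.Def_DStar
import Cfsg.Agent.Lib.Helper51.DStarZJ

set_option autoImplicit false

namespace Cfsg.Agent.Helper51

open Subgroup
open scoped commutatorElement

variable {G : Type*} [Group G]

theorem dStarOf_le (S : Subgroup G) : Cfsg.dStarOf S ≤ S := Subgroup.map_subtype_le _

theorem mem_dStarOf {S : Subgroup G} {d : G} :
    d ∈ Cfsg.dStarOf S ↔ ∃ d' : ↥S, d' ∈ Cfsg.dStar ↥S ∧ (d' : G) = d := by
  unfold Cfsg.dStarOf
  rw [Subgroup.mem_map]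
  rfl

theorem dStarOf_comm (S : Subgroup G) [Finite S] [Group.IsNilpotent S] :
    ∀ d ∈ Cfsg.dStarOf S, ∀ d' ∈ Cfsg.dStarOf S, d * d' = d' * d := by
  intro d hd d' hd'
  obtain ⟨a, ha, rfl⟩ := mem_dStarOf.mp hd
  obtain ⟨a', ha', rfl⟩ := mem_dStarOf.mp hd'
  have hc : IsMulCommutative (Cfsg.dStar ↥S) := (dStar_mem_family (S := ↥S)).1
  have := setLike_mul_comm ha ha'
  exact congrArg Subtype.val this

theorem dStarOf_conj_mem (S : Subgroup G) :
    ∀ s ∈ S, ∀ d ∈ Cfsg.dStarOf S, s * d * s⁻¹ ∈ Cfsg.dStarOf S := by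
  intro s hs d hd
  obtain ⟨a, ha, rfl⟩ := mem_dStarOf.mp hd
  have hn : (Cfsg.dStar ↥S).Normal := dStar_normal ↥S
  have := hn.conj_mem a ha ⟨s, hs⟩
  exact mem_dStarOf.mpr ⟨_, this, rfl⟩

/-- Ambient form of the defining property of `D*`: an element of `S` whose commutators with
`D*(S)` are central in `⟨D*(S), x⟩` centralizes `D*(S)`. -/
theorem dStarOf_centralized (S : Subgroup G) [Finite S] [Group.IsNilpotent S] {x : G} (hx : x ∈ S)
    (h : ∀ d ∈ Cfsg.dStarOf S, (∀ d' ∈ Cfsg.dStarOf S, d' * ⁅d, x⁆ = ⁅d, x⁆ * d') ∧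
      x * ⁅d, x⁆ = ⁅d, x⁆ * x) :
    ∀ d ∈ Cfsg.dStarOf S, d * x = x * d := by
  have hfam := dStar_mem_family (S := ↥S)
  have h3 := triple_comm_eq_bot_of_central (Cfsg.dStar ↥S) hfam.1 (⟨x, hx⟩ : ↥S) (by
    intro a ha
    have haD : (a : G) ∈ Cfsg.dStarOf S := mem_dStarOf.mpr ⟨a, ha, rfl⟩
    obtain ⟨h1, h2⟩ := h (a : G) haD
    constructor
    · intro a' ha'
      have ha'D : (a' : G) ∈ Cfsg.dStarOf S := mem_dStarOf.mpr ⟨a', ha', rfl⟩
      apply Subtype.ext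
      have := h1 (a' : G) ha'D
      simpa [commutatorElement_def] using this
    · apply Subtype.ext
      simpa [commutatorElement_def] using h2)
  intro d hd
  obtain ⟨a, ha, rfl⟩ := mem_dStarOf.mp hd
  have := hfam.2 ⟨x, hx⟩ h3 a ha
  exact congrArg Subtype.val this

/-- Ambient criterion for being contained in `D*(S)`. -/
theorem le_dStarOf (S : Subgroup G) {A : Subgroup G} (hAS : A ≤ S)
    (hAc : ∀ a ∈ A, ∀ a' ∈ A, a * a' = a' * a)
    (h : ∀ x ∈ S, ⁅⁅A, zpowers x⁆, zpowers x⁆ = ⊥ → ∀ a ∈ A, a * x = x * a) :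
    A ≤ Cfsg.dStarOf S := by
  have hmem : A.subgroupOf S ∈ Cfsg.dStarFamily ↥S := by
    refine ⟨⟨⟨?_⟩⟩, ?_⟩
    · rintro ⟨a, ha⟩ ⟨a', ha'⟩
      apply Subtype.ext
      apply Subtype.ext
      exact hAc a (mem_subgroupOf.mp ha) a' (mem_subgroupOf.mp ha')
    · intro x hx a ha
      have hquad : ⁅⁅A, zpowers (x : G)⁆, zpowers (x : G)⁆ = ⊥ := by
        have h1 : ⁅⁅A.subgroupOf S, zpowers x⁆, zpowers x⁆ = ⊥ := by
          rw [eq_bot_iff, ← hx]
          exact Subgroup.commutator_mono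
            (Subgroup.commutator_mono le_sup_left le_sup_right) le_sup_right
        have h2 := congrArg (Subgroup.map S.subtype) h1
        rw [Subgroup.map_commutator, Subgroup.map_commutator, Subgroup.map_bot,
          MonoidHom.map_zpowers, Subgroup.subgroupOf_map_subtype, inf_eq_left.mpr hAS] at h2
        exact h2
      apply Subtype.ext
      exact h (x : G) x.2 hquad (a : G) (mem_subgroupOf.mp ha)
  have hle : A.subgroupOf S ≤ Cfsg.dStar ↥S := le_sSup hmem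
  intro a ha
  exact mem_dStarOf.mpr ⟨⟨a, hAS ha⟩, hle (mem_subgroupOf.mpr ha), rfl⟩

end Cfsg.Agent.Helper51
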