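import Mathlib
import Cfsg.Agent.Lib.Helper51.ExtraP3

set_option autoImplicit false

namespace Cfsg.Agent.Helper51

open scoped commutatorElement
open Cfsg.Agent.Helper63

variable {G : Type*} [Group G]

theorem conj_pow' (g x : G) (n : ℕ) : (g * x * g⁻¹) ^ n = g * x ^ n * g⁻¹ :=
  conj_pow

/-- The subgroup of elements stabilising the chain `1 < Z < E` (trivially on the factors). -/
def chainStab (Z E : Subgroup G) : Subgroup G where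
  carrier := {h | (∀ e ∈ E, ⁅h, e⁆ ∈ Z) ∧ ∀ c ∈ Z, h * c * h⁻¹ = c}
  one_mem' := ⟨fun e _ => by rw [commutatorElement_one_left]; exact one_mem _, fun c _ => by group⟩
  mul_mem' := by
    rintro a b ⟨ha1, ha2⟩ ⟨hb1, hb2⟩
    refine ⟨fun e he => ?_, fun c hc => ?_⟩
    · have e1 : ⁅a * b, e⁆ = a * ⁅b, e⁆ * a⁻¹ * ⁅a, e⁆ := by
        simp only [commutatorElement_def]; group
      rw [e1, ha2 _ (hb1 e he)]
      exact Z.mul_mem (hb1 e he) (ha1 e he)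
    · calc a * b * c * (a * b)⁻¹ = a * (b * c * b⁻¹) * a⁻¹ := by group
        _ = c := by rw [hb2 c hc, ha2 c hc]
  inv_mem' := by
    rintro a ⟨ha1, ha2⟩
    have hinv : ∀ c ∈ Z, a⁻¹ * c * a⁻¹⁻¹ = c := by
      intro c hc
      have := ha2 c hc
      calc a⁻¹ * c * a⁻¹⁻¹ = a⁻¹ * (a * c * a⁻¹) * a := by rw [this]; group
        _ = c := by group
    refine ⟨fun e he => ?_, hinv⟩
    have e1 : ⁅a⁻¹, e⁆ = a⁻¹ * (⁅a, e⁆)⁻¹ * a⁻¹⁻¹ := by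
      simp only [commutatorElement_def]; group
    rw [e1, hinv _ (Z.inv_mem (ha1 e he))]
    exact Z.inv_mem (ha1 e he)

theorem mem_chainStab {Z E : Subgroup G} {h : G} :
    h ∈ chainStab Z E ↔ (∀ e ∈ E, ⁅h, e⁆ ∈ Z) ∧ ∀ c ∈ Z, h * c * h⁻¹ = c := Iff.rfl

/-- If `c² = 1` and `c ^ p = 1` with `p` odd then `c = 1`. -/
theorem eq_one_of_sq_of_pow_odd {c : G} {p : ℕ} (hp : p.Prime) (hp2 : p ≠ 2) (h2 : c ^ 2 = 1)
    (hpow : c ^ p = 1) : c = 1 := by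
  rcases hp.eq_two_or_odd' with h | ⟨m, hm⟩
  · exact absurd h hp2
  · rw [hm, pow_succ, pow_mul, h2, one_pow, one_mul] at hpow
    exact hpow

section Main

variable [Finite G] {p : ℕ} [hpF : Fact p.Prime]

/-- The key case: `g` conjugates `E` into `P`. -/
theorem center_closed_aux (hp : p ≠ 2) (P : Sylow p G) {E : Subgroup G}
    (h : OmegaData p (P : Subgroup G) E) (hexp : ∃ x ∈ (P : Subgroup G), x ^ p ≠ 1)
    {z g : G} (hz : z ∈ zOf (P : Subgroup G)) (hy : g * z * g⁻¹ ∈ (P : Subgroup G))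
    (hgE : ∀ e ∈ E, g⁻¹ * e * g ∈ (P : Subgroup G)) :
    g * z * g⁻¹ ∈ zOf (P : Subgroup G) := by
  by_contra hyz
  have hzQ : z ∈ (P : Subgroup G) := zOf_le _ hz
  have hzp : z ^ p = 1 := pow_p_eq_one_of_mem_zOf h.hZ hz
  have hz1 : z ≠ 1 := by
    rintro rfl
    apply hyz
    rw [mul_one, mul_inv_cancel]; exact one_mem _
  have hzE : z ∈ E := h.zOf_le_E hz
  have hyE : g * z * g⁻¹ ∈ E := (h.hE _).mpr ⟨hy, by rw [conj_pow', hzp]; group⟩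
  have hgE' : ∀ e ∈ E, g⁻¹ * e * g ∈ E := by
    intro e he
    refine (h.hE _).mpr ⟨hgE e he, ?_⟩
    have := conj_pow' g⁻¹ e p
    rw [inv_inv] at this
    rw [this, ((h.hE e).mp he).2]; group
  -- e₀ = g⁻¹ z g is a noncentral element of E
  have he₀E : g⁻¹ * z * g ∈ E := hgE' z hzE
  have he₀z : g⁻¹ * z * g ∉ zOf (P : Subgroup G) := by
    intro hcon
    obtain ⟨n, hn⟩ := exists_pow_eq_of_mem_zOf h.hZ hz hz1 hcon
    have hyn : (g * z * g⁻¹) ^ n = z := by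
      rw [conj_pow', hn]; group
    have hyp : (g * z * g⁻¹) ^ p = 1 := ((h.hE _).mp hyE).2
    have hnp : ¬ p ∣ n := by
      rintro ⟨k, rfl⟩
      rw [pow_mul, hyp, one_pow] at hyn
      exact hz1 hyn.symm
    have hcop : n.Coprime (orderOf (g * z * g⁻¹)) := by
      have hd : orderOf (g * z * g⁻¹) ∣ p := orderOf_dvd_of_pow_eq_one hyp
      have : p.Coprime n := (Nat.Prime.coprime_iff_not_dvd hpF.out).mpr hnp
      exact (this.symm).coprime_dvd_right hd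
    obtain ⟨m, hm⟩ := exists_pow_eq_self_of_coprime hcop
    rw [hyn] at hm
    apply hyz
    rw [← hm]
    exact Subgroup.pow_mem _ hz m
  -- the two transvections
  obtain ⟨u, hu, hucomm⟩ := h.exists_comm_eq hyE hyz hz
  obtain ⟨u', hu', hu'comm⟩ := h.exists_comm_eq he₀E he₀z (Subgroup.inv_mem _ hz)
  have f1 : u * z * u⁻¹ = z := conj_zOf hz hu
  have f2 : u * (g * z * g⁻¹) * u⁻¹ = z * (g * z * g⁻¹) := by
    have e : u * (g * z * g⁻¹) * u⁻¹ = ⁅u, g * z * g⁻¹⁆ * (g * z * g⁻¹) := by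
      rw [commutatorElement_def]; group
    rw [e, hucomm]
  have f3 : (g * u' * g⁻¹) * (g * z * g⁻¹) * (g * u' * g⁻¹)⁻¹ = g * z * g⁻¹ := by
    calc (g * u' * g⁻¹) * (g * z * g⁻¹) * (g * u' * g⁻¹)⁻¹ = g * (u' * z * u'⁻¹) * g⁻¹ := by group
      _ = g * z * g⁻¹ := by rw [conj_zOf hz hu']
  have f4 : (g * u' * g⁻¹) * z * (g * u' * g⁻¹)⁻¹ = (g * z * g⁻¹)⁻¹ * z := by
    have e1 : (g * u' * g⁻¹) * z * (g * u' * g⁻¹)⁻¹ = g * ⁅u', g⁻¹ * z * g⁆ * g⁻¹ * z := by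
      rw [commutatorElement_def]; group
    rw [e1, hu'comm]; group
  have f5 : z * (g * z * g⁻¹) = (g * z * g⁻¹) * z := (zOf_comm hz hy).symm
  obtain ⟨ht_z, ht_y⟩ := invert_of_transvections f1 f2 f3 f4 f5
  set t := u * (g * u' * g⁻¹) * u * (u * (g * u' * g⁻¹) * u) with ht
  -- t inverts E
  have hEcomm : ∀ a ∈ E, ∀ b ∈ E, a * b = b * a := fun a ha b hb => h.comm ha hb
  let I : Subgroup G :=
    { carrier := {e | e ∈ E ∧ t * e * t⁻¹ = e⁻¹}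
      one_mem' := ⟨one_mem _, by group⟩
      mul_mem' := by
        rintro a b ⟨ha, ha'⟩ ⟨hb, hb'⟩
        refine ⟨E.mul_mem ha hb, ?_⟩
        calc t * (a * b) * t⁻¹ = (t * a * t⁻¹) * (t * b * t⁻¹) := by group
          _ = a⁻¹ * b⁻¹ := by rw [ha', hb']
          _ = (b * a)⁻¹ := by group
          _ = (a * b)⁻¹ := by rw [hEcomm a ha b hb]
      inv_mem' := by
        rintro a ⟨ha, ha'⟩
        refine ⟨E.inv_mem ha, ?_⟩
        calc t * a⁻¹ * t⁻¹ = (t * a * t⁻¹)⁻¹ := by group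
          _ = a⁻¹⁻¹ := by rw [ha'] }
  have hIE : I ≤ E := fun e he => he.1
  have hIeq : I = E := h.eq_of_mem hIE hz hz1 ⟨hzE, ht_z⟩ ⟨hyE, ht_y⟩ hyz
  have htE : ∀ e ∈ E, t * e * t⁻¹ = e⁻¹ := by
    intro e he
    have : e ∈ I := by rw [hIeq]; exact he
    exact this.2
  have htE' : ∀ e ∈ E, t⁻¹ * e * t = e⁻¹ := by
    intro e he
    have := htE e⁻¹ (E.inv_mem he)
    rw [inv_inv] at this
    calc t⁻¹ * e * t = t⁻¹ * (t * e⁻¹ * t⁻¹) * t := by rw [this]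
      _ = e⁻¹ := by group
  -- the chain stabiliser
  have hQH : (P : Subgroup G) ≤ chainStab (zOf (P : Subgroup G)) E := by
    intro x hx
    rw [mem_chainStab]
    exact ⟨fun e he => comm_mem_zOf h.hPc hx (h.le he), fun c hc => conj_zOf hc hx⟩
  have htZ : ∀ c ∈ zOf (P : Subgroup G), t * c * t⁻¹ ∈ zOf (P : Subgroup G) := by
    intro c hc
    rw [htE c (h.zOf_le_E hc)]
    exact Subgroup.inv_mem _ hc
  have hKH : (P : Subgroup G).map (MulAut.conj t).toMonoidHom ≤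
      chainStab (zOf (P : Subgroup G)) E := by
    rintro _ ⟨x, hx, rfl⟩
    have hx' : x ∈ (P : Subgroup G) := hx
    rw [mem_chainStab]
    simp only [MulEquiv.coe_toMonoidHom, MulAut.conj_apply]
    refine ⟨fun e he => ?_, fun c hc => ?_⟩
    · have e1 : ⁅t * x * t⁻¹, e⁆ = t * ⁅x, t⁻¹ * e * t⁆ * t⁻¹ := by
        simp only [commutatorElement_def]; group
      rw [e1, htE' e he]
      exact htZ _ (comm_mem_zOf h.hPc hx' (h.le (E.inv_mem he)))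
    · have hcE := h.zOf_le_E hc
      calc t * x * t⁻¹ * c * (t * x * t⁻¹)⁻¹ = t * (x * (t⁻¹ * c * t) * x⁻¹) * t⁻¹ := by group
        _ = t * (x * c⁻¹ * x⁻¹) * t⁻¹ := by rw [htE' c hcE]
        _ = t * c⁻¹ * t⁻¹ := by rw [conj_zOf (Subgroup.inv_mem _ hc) hx']
        _ = c⁻¹⁻¹ := htE _ (E.inv_mem hcE)
        _ = c := inv_inv c
  have hKp : IsPGroup p ((P : Subgroup G).map (MulAut.conj t).toMonoidHom) := P.2.map _
  obtain ⟨k, hkH, hk⟩ := sylow_conj_in_subgroup P _ _ hQH hKH hKp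
  have hk'H : k⁻¹ ∈ chainStab (zOf (P : Subgroup G)) E := Subgroup.inv_mem _ hkH
  rw [mem_chainStab] at hk'H
  obtain ⟨hk1, hk2⟩ := hk'H
  -- t' = k⁻¹ t normalises P
  have ht'Q : ∀ x ∈ (P : Subgroup G), (k⁻¹ * t) * x * (k⁻¹ * t)⁻¹ ∈ (P : Subgroup G) := by
    intro x hx
    have := hk (t * x * t⁻¹) ⟨x, hx, by simp [MulAut.conj_apply]⟩
    have e : (k⁻¹ * t) * x * (k⁻¹ * t)⁻¹ = k⁻¹ * (t * x * t⁻¹) * k := by group
    rw [e]; exact this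
  have ht'Z : ∀ c ∈ zOf (P : Subgroup G), (k⁻¹ * t) * c * (k⁻¹ * t)⁻¹ = c⁻¹ := by
    intro c hc
    calc (k⁻¹ * t) * c * (k⁻¹ * t)⁻¹ = k⁻¹ * (t * c * t⁻¹) * k⁻¹⁻¹ := by group
      _ = k⁻¹ * c⁻¹ * k⁻¹⁻¹ := by rw [htE c (h.zOf_le_E hc)]
      _ = c⁻¹ := hk2 _ (Subgroup.inv_mem _ hc)
  -- the final contradiction
  obtain ⟨x₀, hx₀, hx₀p⟩ := hexp
  have hc₀ : x₀ ^ p ∈ zOf (P : Subgroup G) := pow_p_mem_zOf _ h.hZ h.hPc hx₀
  have hx'Q := ht'Q x₀ hx₀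
  have hx'p : ((k⁻¹ * t) * x₀ * (k⁻¹ * t)⁻¹) ^ p = (x₀ ^ p)⁻¹ := by
    rw [conj_pow', ht'Z _ hc₀]
  have he₁p : ((k⁻¹ * t) * x₀ * (k⁻¹ * t)⁻¹ * x₀) ^ p = 1 := by
    rw [mul_pow_p_c2 hp h.hZ h.hPc hx'Q hx₀, hx'p, inv_mul_cancel]
  have he₁E : (k⁻¹ * t) * x₀ * (k⁻¹ * t)⁻¹ * x₀ ∈ E :=
    (h.hE _).mpr ⟨Subgroup.mul_mem _ hx'Q hx₀, he₁p⟩
  have hyiE : (g * z * g⁻¹)⁻¹ ∈ E := E.inv_mem hyE
  have hz₁ : ⁅k⁻¹, (g * z * g⁻¹)⁻¹⁆ ∈ zOf (P : Subgroup G) := hk1 _ hyiE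
  have he' : (k⁻¹ * t) * (g * z * g⁻¹) * (k⁻¹ * t)⁻¹ =
      ⁅k⁻¹, (g * z * g⁻¹)⁻¹⁆ * (g * z * g⁻¹)⁻¹ := by
    calc (k⁻¹ * t) * (g * z * g⁻¹) * (k⁻¹ * t)⁻¹
        = k⁻¹ * (t * (g * z * g⁻¹) * t⁻¹) * k⁻¹⁻¹ := by group
      _ = k⁻¹ * (g * z * g⁻¹)⁻¹ * k⁻¹⁻¹ := by rw [htE _ hyE]
      _ = ⁅k⁻¹, (g * z * g⁻¹)⁻¹⁆ * (g * z * g⁻¹)⁻¹ := by rw [commutatorElement_def]; group
  have hcZ : ⁅x₀, g * z * g⁻¹⁆ ∈ zOf (P : Subgroup G) := comm_mem_zOf h.hPc hx₀ hy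
  have hconj : (k⁻¹ * t) * ⁅x₀, g * z * g⁻¹⁆ * (k⁻¹ * t)⁻¹ =
      ⁅(k⁻¹ * t) * x₀ * (k⁻¹ * t)⁻¹, (k⁻¹ * t) * (g * z * g⁻¹) * (k⁻¹ * t)⁻¹⁆ := by
    simp only [commutatorElement_def]; group
  have hx'eq : (k⁻¹ * t) * x₀ * (k⁻¹ * t)⁻¹ = ((k⁻¹ * t) * x₀ * (k⁻¹ * t)⁻¹ * x₀) * x₀⁻¹ := by
    group
  have hwE : ⁅k⁻¹, (g * z * g⁻¹)⁻¹⁆ * (g * z * g⁻¹)⁻¹ ∈ E :=
    E.mul_mem (h.zOf_le_E hz₁) hyiE
  have hx₀i : x₀⁻¹ ∈ (P : Subgroup G) := Subgroup.inv_mem _ hx₀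
  have hyiQ : (g * z * g⁻¹)⁻¹ ∈ (P : Subgroup G) := Subgroup.inv_mem _ hy
  have hcomp : ⁅(k⁻¹ * t) * x₀ * (k⁻¹ * t)⁻¹, (k⁻¹ * t) * (g * z * g⁻¹) * (k⁻¹ * t)⁻¹⁆ =
      ⁅x₀, g * z * g⁻¹⁆ := by
    rw [he', hx'eq, comm_mul_left_c2 h.hPc (h.le he₁E) hx₀i (h.le hwE)]
    have e1 : ⁅(k⁻¹ * t) * x₀ * (k⁻¹ * t)⁻¹ * x₀,
        ⁅k⁻¹, (g * z * g⁻¹)⁻¹⁆ * (g * z * g⁻¹)⁻¹⁆ = 1 := by
      rw [commutatorElement_eq_one_iff_mul_comm]
      exact h.comm he₁E hwE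
    rw [e1, one_mul, comm_mul_right h.hPc hx₀i (zOf_le _ hz₁) hyiQ,
      comm_zOf_right hx₀i hz₁, one_mul, comm_inv_left_c2 h.hPc hx₀ hyiQ,
      comm_inv_right_c2 h.hPc hx₀ hy, inv_inv]
  have hinv : (⁅x₀, g * z * g⁻¹⁆)⁻¹ = ⁅x₀, g * z * g⁻¹⁆ := by
    rw [← ht'Z _ hcZ, hconj, hcomp]
  have hsq : ⁅x₀, g * z * g⁻¹⁆ ^ 2 = 1 := by
    rw [pow_two]
    nth_rewrite 1 [← hinv]
    exact inv_mul_cancel _
  have hc1 : ⁅x₀, g * z * g⁻¹⁆ = 1 :=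
    eq_one_of_sq_of_pow_odd hpF.out hp hsq (pow_p_eq_one_of_mem_zOf h.hZ hcZ)
  rw [commutatorElement_eq_one_iff_mul_comm] at hc1
  have hx₀E : x₀ ∈ E := h.mem_of_commute hyE hyz hx₀ hc1
  exact hx₀p ((h.hE _).mp hx₀E).2

/-- The centre of an extraspecial Sylow `p`-subgroup of order `p ^ 3` and exponent `p ^ 2`
(`p` odd) is strongly closed. -/
theorem center_closed (hp : p ≠ 2) (P : Sylow p G) {E : Subgroup G}
    (h : OmegaData p (P : Subgroup G) E) (hexp : ∃ x ∈ (P : Subgroup G), x ^ p ≠ 1)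
    {z g : G} (hz : z ∈ zOf (P : Subgroup G)) (hy : g * z * g⁻¹ ∈ (P : Subgroup G)) :
    g * z * g⁻¹ ∈ zOf (P : Subgroup G) := by
  have hzp : z ^ p = 1 := pow_p_eq_one_of_mem_zOf h.hZ hz
  have hyE : g * z * g⁻¹ ∈ E := (h.hE _).mpr ⟨hy, by rw [conj_pow', hzp]; group⟩
  have hPH : (P : Subgroup G) ≤ Subgroup.centralizer {z} := fun x hx =>
    Subgroup.mem_centralizer_singleton_iff.mpr (zOf_comm hz hx)
  have hKH : E.map (MulAut.conj g⁻¹).toMonoidHom ≤ Subgroup.centralizer {z} := by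
    rintro _ ⟨e, he, rfl⟩
    simp only [MulEquiv.coe_toMonoidHom, MulAut.conj_apply, inv_inv]
    rw [Subgroup.mem_centralizer_singleton_iff]
    have := h.comm he hyE
    calc g⁻¹ * e * g * z = g⁻¹ * (e * (g * z * g⁻¹)) * g := by group
      _ = g⁻¹ * ((g * z * g⁻¹) * e) * g := by rw [this]
      _ = z * (g⁻¹ * e * g) := by group
  have hKp : IsPGroup p (E.map (MulAut.conj g⁻¹).toMonoidHom) := (P.2.to_le h.le).map _
  obtain ⟨c, hcH, hc⟩ := sylow_conj_in_subgroup P _ _ hPH hKH hKp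
  have hcz : c * z = z * c := Subgroup.mem_centralizer_singleton_iff.mp hcH
  have hg' : (g * c) * z * (g * c)⁻¹ = g * z * g⁻¹ := by
    calc (g * c) * z * (g * c)⁻¹ = g * (c * z) * c⁻¹ * g⁻¹ := by group
      _ = g * (z * c) * c⁻¹ * g⁻¹ := by rw [hcz]
      _ = g * z * g⁻¹ := by group
  have hmain := center_closed_aux hp P h hexp (g := g * c) hz (by rw [hg']; exact hy)
    (fun e he => by
      have := hc (g⁻¹ * e * g) ⟨e, he, by simp [MulAut.conj_apply]⟩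
      have e1 : (g * c)⁻¹ * e * (g * c) = c⁻¹ * (g⁻¹ * e * g) * c := by group
      rw [e1]; exact this)
  rwa [hg'] at hmain

end Main

end Cfsg.Agent.Helper51
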