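import Mathlib
import Cfsg.Agent.Lib.Helper52.FLDefs

/-!
# FL server (S3822, helper52), piece (BND) `card_S1_sq_lt`: core, with (LIN) as a hypothesis.

`U := ↥V ⧸ D.subgroupOf V`, `φ : ↥A →* MulAut U` induced by conjugation,
`S1 P V D` = preimage of the fixed points of `φ x` (`x` a generator of `P`).
-/

set_option autoImplicit false

namespace Cfsg.Agent.Helper51.FL

open Cfsg.Agent.Helper52.FL
open scoped commutatorElement

universe u

section
variable {G : Type u} [Group G]

/-- conjugation by an element of the normaliser, as an automorphism of `↥V` -/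
def h51_conjV (V : Subgroup G) (g : G) (hg : g ∈ Subgroup.normalizer (V : Set G)) : ↥V ≃* ↥V where
  toFun v := ⟨g * v * g⁻¹, (Subgroup.mem_normalizer_iff.mp hg v).mp v.2⟩
  invFun v := ⟨g⁻¹ * v * g, by
    have := (Subgroup.mem_normalizer_iff.mp (inv_mem hg) v).mp v.2
    simpa using this⟩
  left_inv v := by
    apply Subtype.ext
    simp [mul_assoc]
  right_inv v := by
    apply Subtype.ext
    simp [mul_assoc]
  map_mul' v w := by
    apply Subtype.ext
    simp [mul_assoc]

@[simp] theorem h51_conjV_coe (V : Subgroup G) (g : G) (hg : g ∈ Subgroup.normalizer (V : Set G))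
    (v : ↥V) : ((h51_conjV V g hg v : ↥V) : G) = g * v * g⁻¹ := rfl

theorem h51_conjV_map (V D : Subgroup G) (g : G) (hg : g ∈ Subgroup.normalizer (V : Set G))
    (hgD : g ∈ Subgroup.normalizer (D : Set G)) :
    (D.subgroupOf V).map ((h51_conjV V g hg : ↥V ≃* ↥V) : ↥V →* ↥V) = D.subgroupOf V := by
  ext v
  constructor
  · rintro ⟨w, hw, rfl⟩
    rw [SetLike.mem_coe, Subgroup.mem_subgroupOf] at hw
    rw [Subgroup.mem_subgroupOf]
    exact (Subgroup.mem_normalizer_iff.mp hgD w).mp hw
  · intro hv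
    refine ⟨(h51_conjV V g hg).symm v, ?_, ?_⟩
    · rw [Subgroup.mem_subgroupOf] at hv
      rw [SetLike.mem_coe, Subgroup.mem_subgroupOf]
      have h1 := (Subgroup.mem_normalizer_iff.mp (inv_mem hgD) v).mp hv
      simpa [h51_conjV] using h1
    · simp

/-- the action of `A` on `V/D` -/
noncomputable def h51_phi (A V D : Subgroup G) (hAV : A ≤ Subgroup.normalizer (V : Set G))
    (hAD : A ≤ Subgroup.normalizer (D : Set G)) [(D.subgroupOf V).Normal] :
    ↥A →* MulAut (↥V ⧸ D.subgroupOf V) where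
  toFun g := QuotientGroup.congr (D.subgroupOf V) (D.subgroupOf V) (h51_conjV V g (hAV g.2))
    (h51_conjV_map V D g (hAV g.2) (hAD g.2))
  map_one' := by
    ext u
    induction u using QuotientGroup.induction_on with
    | H v =>
      rw [QuotientGroup.congr_mk]
      congr 1
      apply Subtype.ext
      simp
  map_mul' g h := by
    ext u
    induction u using QuotientGroup.induction_on with
    | H v =>
      rw [MulAut.mul_apply, QuotientGroup.congr_mk, QuotientGroup.congr_mk, QuotientGroup.congr_mk]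
      congr 1
      apply Subtype.ext
      simp [mul_assoc]

theorem h51_phi_mk (A V D : Subgroup G) (hAV : A ≤ Subgroup.normalizer (V : Set G))
    (hAD : A ≤ Subgroup.normalizer (D : Set G)) [(D.subgroupOf V).Normal] (g : ↥A) (v : ↥V) :
    h51_phi A V D hAV hAD g (QuotientGroup.mk v) =
      QuotientGroup.mk (h51_conjV V g (hAV g.2) v) := by
  exact QuotientGroup.congr_mk (D.subgroupOf V) (D.subgroupOf V) (h51_conjV V g (hAV g.2))
    (h51_conjV_map V D g (hAV g.2) (hAD g.2)) v

/-- the (LIN) statement of the FL server, at the universe of `G` -/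
def h51_LinHyp : Prop :=
  ∀ {A : Type u} [Group A] [Finite A] [Group.IsSolvable A] {U : Type u} [CommGroup U]
    [Finite U] [Nontrivial U] {r p : ℕ} [Fact r.Prime] [Fact p.Prime] (_ : 5 ≤ p)
    (_ : ∀ u : U, u ^ r = 1) (φ : A →* MulAut U) (x : A) (_ : orderOf x = p)
    (_ : Subgroup.normalClosure ({x} : Set A) = ⊤) (_ : φ x ≠ 1)
    (_ : ∀ W : Subgroup U, (∀ g : A, ∀ u ∈ W, φ g u ∈ W) → W = ⊥ ∨ W = ⊤),
    Nat.card {u : U // φ x u = u} ^ 2 < Nat.card U

/-- a subgroup of prime order is generated by any of its nontrivial elements -/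
theorem h51_exists_gen [Finite G] {p : ℕ} [Fact p.Prime] (P : Subgroup G) (hP : Nat.card P = p) :
    ∃ x ∈ P, orderOf x = p ∧ ∀ y ∈ P, ∃ k : ℤ, x ^ k = y := by
  have hp : p.Prime := Fact.out
  have : Nontrivial ↥P := by
    rw [← Finite.one_lt_card_iff_nontrivial, hP]
    exact hp.one_lt
  obtain ⟨y, hy⟩ := exists_ne (1 : ↥P)
  have ho : orderOf y = p := by
    have hd : orderOf y ∣ p := hP ▸ orderOf_dvd_natCard y
    rcases (Nat.dvd_prime hp).mp hd with h1 | h1
    · exact absurd (orderOf_eq_one_iff.mp h1) hy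
    · exact h1
  have ho' : orderOf (y : G) = p := by rw [Subgroup.orderOf_coe]; exact ho
  refine ⟨y, y.2, ho', ?_⟩
  have hz : Subgroup.zpowers (y : G) = P := by
    apply Subgroup.eq_of_le_of_card_ge
    · rw [Subgroup.zpowers_le]; exact y.2
    · rw [Nat.card_zpowers, ho', hP]
  intro z hz'
  rw [← hz] at hz'
  exact Subgroup.mem_zpowers_iff.mp hz'

set_option maxHeartbeats 1600000 in
/-- (BND) with (LIN) as a hypothesis. -/
theorem h51_card_S1_sq_lt_of [Finite G] (hlin : h51_LinHyp.{u}) {p r : ℕ} [Fact p.Prime]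
    [Fact r.Prime] (hp : 5 ≤ p) (P A V D : Subgroup G)
    (hP : Nat.card P = p) (hsolv : Group.IsSolvable ↥A) (a : G) (ha : a ∈ A)
    (hgen : A = P ⊔ cj a P)
    (hDV : D ≤ V) (hDne : D ≠ V) (hAV : A ≤ Subgroup.normalizer (V : Set G))
    (hAD : A ≤ Subgroup.normalizer (D : Set G)) (hVD : V ≤ Subgroup.normalizer (D : Set G))
    (hder : ⁅V, V⁆ ≤ D) (hpow : ∀ v ∈ V, v ^ r ∈ D)
    (hirr : ∀ E : Subgroup G, D ≤ E → E ≤ V → A ≤ Subgroup.normalizer (E : Set G) →
      E = D ∨ E = V)
    (hnt : ∃ y ∈ P, ∃ v ∈ V, y * v * y⁻¹ * v⁻¹ ∉ D) :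
    Nat.card (S1 P V D) ^ 2 < Nat.card V * Nat.card D := by
  classical
  haveI hn : (D.subgroupOf V).Normal :=
    (Subgroup.normal_subgroupOf_iff_le_normalizer hDV).mpr hVD
  haveI := hsolv
  have hPA : P ≤ A := by rw [hgen]; exact le_sup_left
  -- the quotient and the action
  let φ := h51_phi A V D hAV hAD
  have hφ : ∀ (g : ↥A) (v : ↥V), φ g (QuotientGroup.mk v) =
      QuotientGroup.mk (h51_conjV V g (hAV g.2) v) := fun g v => h51_phi_mk A V D hAV hAD g v
  have hπ1 : ∀ v : ↥V, (QuotientGroup.mk v : ↥V ⧸ D.subgroupOf V) = 1 ↔ (v : G) ∈ D :=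
    fun v => (QuotientGroup.eq_one_iff v).trans Subgroup.mem_subgroupOf
  have hπeq : ∀ v w : ↥V, (QuotientGroup.mk v : ↥V ⧸ D.subgroupOf V) = QuotientGroup.mk w ↔
      (v : G) * (w : G)⁻¹ ∈ D := by
    intro v w
    rw [QuotientGroup.eq_iff_div_mem, Subgroup.mem_subgroupOf, div_eq_mul_inv]
    simp
  -- generator of P
  obtain ⟨x, hxP, hxo, hxgen⟩ := h51_exists_gen P hP
  let xA : ↥A := ⟨x, hPA hxP⟩
  have hxAo : orderOf xA = p := by
    rw [← Subgroup.orderOf_coe]; exact hxo
  have hK : ∀ K : Subgroup ↥A, xA ∈ K → ∀ y (hy : y ∈ P), (⟨y, hPA hy⟩ : ↥A) ∈ K := by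
    intro K hxK y hy
    obtain ⟨k, hk⟩ := hxgen y hy
    have : (⟨y, hPA hy⟩ : ↥A) = xA ^ k := by
      apply Subtype.ext
      rw [Subgroup.coe_zpow]
      exact hk.symm
    rw [this]
    exact K.zpow_mem hxK k
  -- stabilisers
  have hstab : ∀ u : ↥V ⧸ D.subgroupOf V, φ xA u = u → ∀ y (hy : y ∈ P),
      φ ⟨y, hPA hy⟩ u = u := by
    intro u hu
    let K : Subgroup ↥A :=
      { carrier := {g | φ g u = u}
        mul_mem' := by
          intro g h hg hh
          simp only [Set.mem_ofPred_eq] at *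
          rw [map_mul, MulAut.mul_apply, hh, hg]
        one_mem' := by simp
        inv_mem' := by
          intro g hg
          simp only [Set.mem_ofPred_eq] at *
          rw [map_inv]
          conv_lhs => rw [← hg]
          simp }
    exact hK K hu
  -- commutativity
  have hcomm : ∀ u₁ u₂ : ↥V ⧸ D.subgroupOf V, u₁ * u₂ = u₂ * u₁ := by
    intro u₁ u₂
    induction u₁ using QuotientGroup.induction_on with
    | H v =>
      induction u₂ using QuotientGroup.induction_on with
      | H w =>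
        rw [← QuotientGroup.mk_mul, ← QuotientGroup.mk_mul, hπeq]
        have h1 : ⁅(v : G), (w : G)⁆ ∈ ⁅V, V⁆ := Subgroup.commutator_mem_commutator v.2 w.2
        have h2 := hder h1
        rw [commutatorElement_def] at h2
        simpa [mul_assoc] using h2
  letI cg : CommGroup (↥V ⧸ D.subgroupOf V) :=
    { (inferInstance : Group (↥V ⧸ D.subgroupOf V)) with mul_comm := hcomm }
  -- nontrivial
  haveI hnt' : Nontrivial (↥V ⧸ D.subgroupOf V) := by
    have : ∃ v ∈ V, v ∉ D := by
      by_contra hcon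
      push Not at hcon
      exact hDne (le_antisymm hDV hcon)
    obtain ⟨v, hvV, hvD⟩ := this
    refine ⟨⟨QuotientGroup.mk ⟨v, hvV⟩, 1, ?_⟩⟩
    intro h
    exact hvD ((hπ1 ⟨v, hvV⟩).mp h)
  -- exponent r
  have hU : ∀ u : ↥V ⧸ D.subgroupOf V, u ^ r = 1 := by
    intro u
    induction u using QuotientGroup.induction_on with
    | H v =>
      rw [← QuotientGroup.mk_pow, hπ1, Subgroup.coe_pow]
      exact hpow v v.2
  -- normal closure
  have hncl : Subgroup.normalClosure ({xA} : Set ↥A) = ⊤ := by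
    have hxN : xA ∈ Subgroup.normalClosure ({xA} : Set ↥A) :=
      Subgroup.subset_normalClosure (Set.mem_singleton _)
    have h1 : P ≤ (Subgroup.normalClosure ({xA} : Set ↥A)).map A.subtype := by
      intro y hy
      exact ⟨⟨y, hPA hy⟩, hK _ hxN y hy, rfl⟩
    have h2 : cj a P ≤ (Subgroup.normalClosure ({xA} : Set ↥A)).map A.subtype := by
      intro y hy
      rw [mem_cj] at hy
      have h3 := hK _ hxN _ hy
      have h4 := (Subgroup.normalClosure_normal (s := ({xA} : Set ↥A))).conj_mem _ h3 ⟨a, ha⟩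
      refine ⟨_, h4, ?_⟩
      simp [mul_assoc]
    rw [eq_top_iff]
    intro g _
    have hg : (g : G) ∈ P ⊔ cj a P := hgen ▸ g.2
    obtain ⟨g', hg', hgg⟩ := (sup_le h1 h2) hg
    have : g' = g := Subtype.ext hgg
    rw [← this]
    exact hg'
  -- nontrivial action of x
  have hx1 : φ xA ≠ 1 := by
    intro hx1
    obtain ⟨y, hy, v, hv, hyv⟩ := hnt
    apply hyv
    have h1 : φ ⟨y, hPA hy⟩ (QuotientGroup.mk ⟨v, hv⟩) = QuotientGroup.mk ⟨v, hv⟩ := by
      apply hstab _ _ y hy
      rw [hx1]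
      rfl
    rw [hφ, hπeq] at h1
    simpa using h1
  -- irreducibility
  have hirr' : ∀ W : Subgroup (↥V ⧸ D.subgroupOf V), (∀ g : ↥A, ∀ u ∈ W, φ g u ∈ W) →
      W = ⊥ ∨ W = ⊤ := by
    intro W hW
    let E : Subgroup G := (W.comap (QuotientGroup.mk' (D.subgroupOf V))).map V.subtype
    have hEmem : ∀ g : G, g ∈ E ↔ ∃ hg : g ∈ V,
        (QuotientGroup.mk ⟨g, hg⟩ : ↥V ⧸ D.subgroupOf V) ∈ W := by
      intro g
      constructor
      · rintro ⟨v, hv, rfl⟩
        exact ⟨v.2, hv⟩
      · rintro ⟨hg, hgW⟩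
        exact ⟨⟨g, hg⟩, hgW, rfl⟩
    have hDE : D ≤ E := by
      intro d hd
      rw [hEmem]
      refine ⟨hDV hd, ?_⟩
      have : (QuotientGroup.mk ⟨d, hDV hd⟩ : ↥V ⧸ D.subgroupOf V) = 1 := (hπ1 _).mpr hd
      rw [this]
      exact W.one_mem
    have hEV : E ≤ V := fun g hg => ((hEmem g).mp hg).1
    have hconj : ∀ g ∈ A, ∀ n ∈ E, g * n * g⁻¹ ∈ E := by
      intro g hg n hn
      obtain ⟨hnV, hnW⟩ := (hEmem n).mp hn
      rw [hEmem]
      have h1 := hW ⟨g, hg⟩ _ hnW
      rw [hφ] at h1
      exact ⟨(h51_conjV V g (hAV hg) ⟨n, hnV⟩).2, h1⟩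
    have hAE : A ≤ Subgroup.normalizer (E : Set G) := by
      intro g hg
      rw [Subgroup.mem_normalizer_iff]
      intro n
      constructor
      · exact hconj g hg n
      · intro h
        have := hconj g⁻¹ (inv_mem hg) _ h
        simpa [mul_assoc] using this
    rcases hirr E hDE hEV hAE with h | h
    · left
      rw [eq_bot_iff]
      intro u hu
      induction u using QuotientGroup.induction_on with
      | H v =>
        have : (v : G) ∈ E := (hEmem _).mpr ⟨v.2, hu⟩
        rw [h] at this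
        rw [Subgroup.mem_bot]
        exact (hπ1 v).mpr this
    · right
      rw [eq_top_iff]
      rintro u -
      induction u using QuotientGroup.induction_on with
      | H v =>
        have : (v : G) ∈ E := by rw [h]; exact v.2
        obtain ⟨_, hvW⟩ := (hEmem _).mp this
        exact hvW
  -- apply (LIN)
  have hfix := @hlin ↥A _ _ _ (↥V ⧸ D.subgroupOf V) cg _ _ r p _ _ hp hU φ xA hxAo hncl hx1 hirr'
  -- fixed points
  let Fx : Subgroup (↥V ⧸ D.subgroupOf V) :=
    { carrier := {u | φ xA u = u}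
      mul_mem' := by
        intro u w hu hw
        simp only [Set.mem_ofPred_eq] at *
        rw [map_mul, hu, hw]
      one_mem' := by simp
      inv_mem' := by
        intro u hu
        simp only [Set.mem_ofPred_eq] at *
        rw [map_inv, hu] }
  have hFxcard : Nat.card {u : ↥V ⧸ D.subgroupOf V // φ xA u = u} = Nat.card Fx := rfl
  let F : Subgroup ↥V := Fx.comap (QuotientGroup.mk' (D.subgroupOf V))
  have hS1 : ∀ v : ↥V, (v : G) ∈ S1 P V D ↔ v ∈ F := by
    intro v
    constructor
    · rintro ⟨_, h⟩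
      have h1 := h x hxP
      show φ xA (QuotientGroup.mk v) = QuotientGroup.mk v
      rw [hφ, hπeq]
      simpa using h1
    · intro h
      refine ⟨v.2, fun y hy => ?_⟩
      have h0 : φ xA (QuotientGroup.mk v) = QuotientGroup.mk v := h
      have h1 := hstab _ h0 y hy
      rw [hφ, hπeq] at h1
      simpa using h1
  have hcardS1 : Nat.card (S1 P V D) = Nat.card F := by
    apply Nat.card_congr
    exact
      { toFun := fun w => ⟨⟨w.1, w.2.1⟩, (hS1 ⟨w.1, w.2.1⟩).mp w.2⟩
        invFun := fun v => ⟨v.1.1, (hS1 v.1).mpr v.2⟩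
        left_inv := fun w => rfl
        right_inv := fun v => rfl }
  -- counting
  have hsurj : Function.Surjective (QuotientGroup.mk' (D.subgroupOf V)) :=
    QuotientGroup.mk'_surjective _
  have h1 : F.index = Fx.index := Subgroup.index_comap_of_surjective Fx hsurj
  have h2 : Nat.card F * F.index = Nat.card V := Subgroup.card_mul_index F
  have h3 : Nat.card Fx * Fx.index = Nat.card (↥V ⧸ D.subgroupOf V) := Subgroup.card_mul_index Fx
  have h4 : Nat.card V = Nat.card (↥V ⧸ D.subgroupOf V) * Nat.card (D.subgroupOf V) :=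
    Subgroup.card_eq_card_quotient_mul_card_subgroup _
  have h5 : Nat.card (D.subgroupOf V) = Nat.card D :=
    Nat.card_congr (Subgroup.subgroupOfEquivOfLe hDV).toEquiv
  have hidx : 0 < Fx.index := Nat.pos_of_ne_zero Subgroup.index_ne_zero_of_finite
  have h6 : Nat.card F = Nat.card Fx * Nat.card D := by
    have : Nat.card F * Fx.index = (Nat.card Fx * Nat.card D) * Fx.index := by
      calc Nat.card F * Fx.index = Nat.card F * F.index := by rw [h1]
        _ = Nat.card V := h2
        _ = Nat.card (↥V ⧸ D.subgroupOf V) * Nat.card D := by rw [h4, h5]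
        _ = (Nat.card Fx * Fx.index) * Nat.card D := by rw [h3]
        _ = _ := by ring
    exact Nat.eq_of_mul_eq_mul_right hidx this
  rw [hcardS1, h6, h4, h5]
  rw [hFxcard] at hfix
  have hd : 0 < Nat.card D := Nat.card_pos
  calc (Nat.card Fx * Nat.card D) ^ 2 = Nat.card Fx ^ 2 * (Nat.card D * Nat.card D) := by ring
    _ < Nat.card (↥V ⧸ D.subgroupOf V) * (Nat.card D * Nat.card D) :=
        Nat.mul_lt_mul_of_pos_right hfix (Nat.mul_pos hd hd)
    _ = _ := by ring

end

end Cfsg.Agent.Helper51.FL
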