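import Mathlib
import Cfsg.Agent.Lib.Helper97.FXDefs
import Cfsg.Agent.Lib.Helper48.SympRep
import Cfsg.Agent.Lib.Helper86.ESREC
import Cfsg.Agent.Lib.Helper24.FXTRANSV
import Cfsg.Agent.Lib.Helper51.FXTRCCore

/-!
# FX server (S3818), piece (TRC) `transv_case`, verbatim: core (`FXTRCCore`) + helper24's (TRANSV).
-/

set_option autoImplicit false

namespace Cfsg.Agent.Helper51.FX

open Cfsg.Agent.Helper97.FX Cfsg.Agent.Helper48.SympRep

universe u

section SY
variable {K : Type*} [Field K] {M : Type u} [AddCommGroup M] [Module K M] [FiniteDimensional K M]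
variable {Q : Type*} [Group Q] [Fintype Q]
variable {ρ : Q →* Module.End K M} {a : Q ≃* Q} {g g' : Module.End K M}

theorem transv_case [IsAlgClosed K] (hρ : Symp ρ) (hQ : (Fintype.card Q : K) ≠ 0)
    (h : Normalises ρ a g g') {p : ℕ} (hp : p.Prime) (hp2 : p ≠ 2) (hgp : g ^ p = 1)
    (hidx : Nat.card (Q ⧸ scalarSubgroup ρ) =
      p * Nat.card {w : Q ⧸ scalarSubgroup ρ // sigma h w = w})
    (hσ : ∃ u : Q, a u * u⁻¹ ∉ scalarSubgroup ρ)
    (hns : ∀ m : Q, a m * m⁻¹ ∈ scalarSubgroup ρ → ρ (a m * m⁻¹) = 1) :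
    p * fixDim g ≤ 2 * Module.finrank K M :=
  h51_transv_case_of hρ hQ h hp hgp hidx hσ hns
    (fun hpK T A P P' h1 h2 κ hk1 hkp hT hTA hPT hPA =>
      Cfsg.Agent.Helper24.FX.transv_bound T A P P' h1 h2 κ hp hp2 hpK hk1 hkp hT hTA hPT hPA)

end SY

end Cfsg.Agent.Helper51.FX
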