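import Mathlib
import Cfsg.Agent.Lib.Helper31.G2Defs
import Cfsg.Agent.Lib.Helper31.SGAll

/-!
# Piece (BLOCK) of helper31's G2 server (S3795): an `S`-irreducible block with its counting.
Part A: statements, transfer lemmas, sub/quotient step.
-/

set_option autoImplicit false

namespace Cfsg.Agent.Helper51.G2

open Module Subgroup Cfsg.Agent.Helper31.SG Cfsg.Agent.Helper31.G2 Cfsg.Agent.Helper31.HH

universe u uG uK uV

/-- the conclusion of `g2_block`. -/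
def BlockConcl {G : Type*} [Group G] (S : Subgroup G) (x : G) (n : ℕ) : Prop :=
  ∃ j : ℕ, j ≤ n ∧ ∃ R T : Subgroup G, R ≤ S ∧ T ≤ S ∧
      (∀ a ∈ S, (a ∈ R ↔ ∀ b ∈ S, a * b * a⁻¹ * b⁻¹ ∈ T)) ∧
      (∃ a ∈ S, ∃ b ∈ S, a * b * a⁻¹ * b⁻¹ ∉ T) ∧
      (∀ a ∈ R, x ^ 2 ^ j * a * (x ^ 2 ^ j)⁻¹ ∈ R) ∧
      Nat.card {a : G // a ∈ S ∧ x ^ 2 ^ n * a * (x ^ 2 ^ n)⁻¹ * a ∈ R} ≤
        (2 ^ (n + 1 - j) - 1) ^ 2 * Nat.card R ∧
      (Nat.card {a : G // a ∈ S ∧ x ^ 2 ^ n * a * (x ^ 2 ^ n)⁻¹ * a ∈ R} =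
          (2 ^ (n + 1 - j) - 1) ^ 2 * Nat.card R →
        ∀ a ∈ S, x ^ 2 ^ n * a * (x ^ 2 ^ n)⁻¹ * a⁻¹ ∈ R →
          x ^ 2 ^ j * a * (x ^ 2 ^ j)⁻¹ * a⁻¹ ∈ R)

/-- the statement of piece (BLKCOUNT), at fixed universes. -/
def BlkCountStmt.{vK, vM, vΓ} : Prop :=
  ∀ {K : Type vK} [Field K] [IsAlgClosed K] {M : Type vM} [AddCommGroup M]
    [Module K M] [FiniteDimensional K M] [Nontrivial M] {Γ : Type vΓ} [Group Γ]
    (ψ : Γ →* Module.End K M) (Ss : Subgroup Γ) [Finite Ss] (y : Γ) {c : ℕ} (_hc : 1 ≤ c)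
    (_hodd : Odd (Nat.card Ss)) (_hSK : (Nat.card Ss : K) ≠ 0) (_h2K : (2 : K) ≠ 0)
    (_hy : y ^ 2 ^ c = 1) (_hyS : ∀ u ∈ Ss, y * u * y⁻¹ ∈ Ss)
    (_hirr : ∀ N : Submodule K M, (∀ u ∈ Ss, ∀ v ∈ N, ψ u v ∈ N) → N = ⊥ ∨ N = ⊤)
    (_hcs : ∀ u ∈ Ss, ∀ w ∈ Ss, ∃ l : K, ψ (u * w * u⁻¹ * w⁻¹) = l • 1)
    (_hfix : ∀ m : M, ψ y m = m → m = 0)
    (R : Subgroup Γ) (_hRS : R ≤ Ss) (_hR : ∀ u ∈ Ss, u ∈ R ↔ ∃ l : K, ψ u = l • 1),
    Nat.card {a : Γ // a ∈ Ss ∧ y ^ 2 ^ (c - 1) * a * (y ^ 2 ^ (c - 1))⁻¹ * a ∈ R} ≤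
      (2 ^ c - 1) ^ 2 * Nat.card R ∧
    (Nat.card {a : Γ // a ∈ Ss ∧ y ^ 2 ^ (c - 1) * a * (y ^ 2 ^ (c - 1))⁻¹ * a ∈ R} =
        (2 ^ c - 1) ^ 2 * Nat.card R →
      ∀ a ∈ Ss, y ^ 2 ^ (c - 1) * a * (y ^ 2 ^ (c - 1))⁻¹ * a⁻¹ ∈ R →
        y * a * y⁻¹ * a⁻¹ ∈ R)

theorem mem_map_subtype_iff {G : Type*} [Group G] {H : Subgroup G} (R' : Subgroup H) (g : G)
    (hg : g ∈ H) : g ∈ R'.map H.subtype ↔ (⟨g, hg⟩ : H) ∈ R' := by
  constructor
  · rintro ⟨r, hr, rfl⟩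
    exact hr
  · intro h
    exact ⟨⟨g, hg⟩, h, rfl⟩

/-- transfer of the counted set from a subgroup `H` to the group. -/
theorem card_transfer {G : Type*} [Group G] (H S R : Subgroup G) (hSH : S ≤ H) (t : G)
    (ht : t ∈ H) :
    Nat.card {a : H // a ∈ S.subgroupOf H ∧
        (⟨t, ht⟩ : H) * a * (⟨t, ht⟩ : H)⁻¹ * a ∈ R.subgroupOf H} =
      Nat.card {a : G // a ∈ S ∧ t * a * t⁻¹ * a ∈ R} := by
  apply Nat.card_congr
  refine ⟨fun a => ⟨a.1.1, mem_subgroupOf.mp a.2.1, ?_⟩,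
    fun a => ⟨⟨a.1, hSH a.2.1⟩, mem_subgroupOf.mpr a.2.1, ?_⟩, ?_, ?_⟩
  · have := a.2.2
    rw [mem_subgroupOf] at this
    simpa using this
  · rw [mem_subgroupOf]
    simpa using a.2.2
  · intro a
    rfl
  · intro a
    rfl

/-- conjugation by powers of `x` preserves `S`. -/
theorem conj_pow_mem {G : Type*} [Group G] (S : Subgroup G) (x : G)
    (hxS : ∀ a ∈ S, x * a * x⁻¹ ∈ S) (k : ℕ) : ∀ a ∈ S, x ^ k * a * (x ^ k)⁻¹ ∈ S := by
  induction k with
  | zero => intro a ha; simpa using ha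
  | succ k ih =>
    intro a ha
    have e : x ^ (k + 1) * a * (x ^ (k + 1))⁻¹ = x * (x ^ k * a * (x ^ k)⁻¹) * x⁻¹ := by
      rw [pow_succ']
      group
    rw [e]
    exact hxS _ (ih a ha)

/-- conjugation by inverse powers of `x` preserves `S` when `x` has finite order. -/
theorem conj_inv_pow_mem {G : Type*} [Group G] (S : Subgroup G) (x : G) (N : ℕ) (hx : x ^ N = 1)
    (hN : 0 < N) (hxS : ∀ a ∈ S, x * a * x⁻¹ ∈ S) (k : ℕ) :
    ∀ a ∈ S, (x ^ k)⁻¹ * a * x ^ k ∈ S := by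
  intro a ha
  have h1 : (x ^ k)⁻¹ = x ^ (k * (N - 1)) := by
    rw [inv_eq_iff_mul_eq_one, ← pow_add]
    have : k + k * (N - 1) = N * k := by
      obtain ⟨N', rfl⟩ : ∃ N', N = N' + 1 := ⟨N - 1, by omega⟩
      simp only [Nat.add_sub_cancel]
      ring
    rw [this, pow_mul, hx, one_pow]
  have h2 := conj_pow_mem S x hxS (k * (N - 1)) a ha
  rw [← h1, inv_inv] at h2
  exact h2

section linear

variable {K : Type*} [Field K] {V : Type*} [AddCommGroup V] [Module K V]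

/-- an `s`-element acting trivially on `U` and on `V ⧸ U` acts trivially (characteristic `r ≠ s`). -/
theorem sub_or_quot_ne_one (r s : ℕ) [hr : Fact r.Prime] [hs : Fact s.Prime] (hrs : r ≠ s)
    [CharP K r] {G : Type*} [Group G] (ρ : Representation K G V) (U : Submodule K V)
    (hU : Inv ρ U) (c : G) (k : ℕ) (hck : c ^ s ^ k = 1) (hc : ρ c ≠ 1) :
    subRep ρ U hU c ≠ 1 ∨ quotRep ρ U hU c ≠ 1 := by
  by_contra hcon
  push Not at hcon
  obtain ⟨h1, h2⟩ := hcon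
  apply hc
  apply eq_one_of_sq_zero r s hrs (ρ c) k
  · rw [← map_pow, hck, map_one]
  · have hDV : ∀ v, (ρ c - 1) v ∈ U := by
      intro v
      have := congrArg (fun f : End K (V ⧸ U) => f (Submodule.Quotient.mk v)) h2
      simp only [quotRep_mk, Module.End.one_apply] at this
      rw [LinearMap.sub_apply, Module.End.one_apply]
      exact (Submodule.Quotient.eq U).mp this
    have hDU : ∀ u ∈ U, (ρ c - 1) u = 0 := by
      intro u hu
      have := congrArg (fun f : End K U => ((f ⟨u, hu⟩ : U) : V)) h1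
      simp only [subRep_apply, Module.End.one_apply] at this
      rw [LinearMap.sub_apply, Module.End.one_apply, this, sub_self]
    ext v
    rw [pow_two, Module.End.mul_apply, LinearMap.zero_apply]
    exact hDU _ (hDV v)

/-- no fixed vectors on an invariant subspace. -/
theorem fix_sub {G : Type*} [Group G] (ρ : Representation K G V) (U : Submodule K V)
    (hU : Inv ρ U) (x : G) (hfix : ∀ v : V, ρ x v = v → v = 0) :
    ∀ u : U, subRep ρ U hU x u = u → u = 0 := by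
  intro u hu
  apply Subtype.ext
  apply hfix
  have := congrArg (fun z : U => (z : V)) hu
  simpa [subRep_apply] using this

/-- no fixed vectors on the quotient by an invariant subspace. -/
theorem fix_quot [FiniteDimensional K V] {G : Type*} [Group G] (ρ : Representation K G V)
    (U : Submodule K V) (hU : Inv ρ U) (x : G) (hfix : ∀ v : V, ρ x v = v → v = 0) :
    ∀ w : V ⧸ U, quotRep ρ U hU x w = w → w = 0 := by
  intro w hw
  obtain ⟨v, rfl⟩ := Submodule.Quotient.mk_surjective U w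
  rw [quotRep_mk, Submodule.Quotient.eq] at hw
  -- `ρ x - 1` restricted to `U` is injective, hence surjective
  have hres : ∀ u ∈ U, (ρ x - 1) u ∈ U := by
    intro u hu
    rw [LinearMap.sub_apply, Module.End.one_apply]
    exact U.sub_mem (hU x u hu) hu
  set f : U →ₗ[K] U := (ρ x - 1).restrict hres with hf
  have hinj : Function.Injective f := by
    rw [← LinearMap.ker_eq_bot, LinearMap.ker_eq_bot']
    intro u hu
    apply Subtype.ext
    apply hfix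
    have := congrArg (fun z : U => (z : V)) hu
    simp only [hf, LinearMap.coe_restrict_apply, LinearMap.sub_apply, Module.End.one_apply,
      ZeroMemClass.coe_zero] at this
    exact sub_eq_zero.mp this
  have hsurj : Function.Surjective f := LinearMap.injective_iff_surjective.mp hinj
  obtain ⟨u, hu⟩ := hsurj ⟨ρ x v - v, hw⟩
  have h1 : ρ x (u : V) - u = ρ x v - v := by
    have := congrArg (fun z : U => (z : V)) hu
    simpa [hf, LinearMap.coe_restrict_apply, LinearMap.sub_apply] using this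
  have h2 : ρ x (v - u) = v - u := by
    rw [map_sub]
    have : ρ x v - ρ x u - (v - u) = (ρ x v - v) - (ρ x (u : V) - u) := by abel
    rw [← sub_eq_zero, this, h1, sub_self]
  have h3 := hfix _ h2
  have h4 : v = u := sub_eq_zero.mp h3
  rw [Submodule.Quotient.mk_eq_zero, h4]
  exact u.2

end linear

end Cfsg.Agent.Helper51.G2
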