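import Mathlib
import Cfsg.Agent.Lib.Helper51.G2BlockA

/-!
# Piece (BLOCK) of helper31's G2 server (S3795). Part B: the irreducible case.
-/

set_option autoImplicit false
set_option maxHeartbeats 1600000

namespace Cfsg.Agent.Helper51.G2

open Module Subgroup Finset Cfsg.Agent.Helper31.SG Cfsg.Agent.Helper31.G2 Cfsg.Agent.Helper31.HH
open Cfsg.Agent.Helper31
open Cfsg.Agent.Helper48.SympRep (IsScalar schur)

universe u uG uK uV

theorem block_irr (BC : BlkCountStmt.{uK, uV, uG})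
    {K : Type uK} [Field K] [IsAlgClosed K] {r s : ℕ} [hr : Fact r.Prime]
    [CharP K r] (hs : s.Prime) (hs2 : s ≠ 2) (hr2 : r ≠ 2) (hrs : r ≠ s)
    {V : Type uV} [AddCommGroup V] [Module K V] [FiniteDimensional K V]
    {G : Type uG} [Group G] [Finite G] (ρ : Representation K G V) (S : Subgroup G)
    [hSn : S.Normal] (x : G) (n : ℕ) (hgen : S ⊔ zpowers x = ⊤)
    (hS : IsPGroup s S) (hx : x ^ 2 ^ (n + 1) = 1)
    (hfix : ∀ v : V, ρ x v = v → v = 0)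
    (hcl : ∀ a ∈ S, ∀ b ∈ S, ∀ c ∈ S, (a * b * a⁻¹ * b⁻¹) * c = c * (a * b * a⁻¹ * b⁻¹))
    (hnab : ∃ a ∈ S, ∃ b ∈ S, ρ (a * b * a⁻¹ * b⁻¹) ≠ 1)
    (hirrG : ∀ U : Submodule K V, Inv ρ U → U = ⊥ ∨ U = ⊤) :
    BlockConcl S x n := by
  classical
  haveI : Fact s.Prime := ⟨hs⟩
  obtain ⟨a₀, ha₀, b₀, hb₀, hab₀⟩ := hnab
  have : Nontrivial V := by
    by_contra hnt
    rw [not_nontrivial_iff_subsingleton] at hnt
    apply hab₀
    ext v
    exact Subsingleton.elim _ _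
  have h2K : (2 : K) ≠ 0 := by
    intro h0
    have h0' : ((2 : ℕ) : K) = 0 := by exact_mod_cast h0
    have h1 := (CharP.cast_eq_zero_iff K r 2).mp h0'
    exact hr2 ((Nat.prime_dvd_prime_iff_eq hr.out Nat.prime_two).mp h1)
  have hsK : (s : K) ≠ 0 := by
    intro h0
    have h1 := (CharP.cast_eq_zero_iff K r s).mp h0
    exact hrs ((Nat.prime_dvd_prime_iff_eq hr.out hs).mp h1)
  -- the Clifford tower
  set τ : Representation K S V := ρ.comp S.subtype with hτ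
  set A : End K V := ρ x with hA
  set Ai : End K V := ρ x⁻¹ with hAi
  set α : Equiv.Perm S := (MulAut.conjNormal x : MulAut S).toEquiv with hα
  have hTw : Twist τ A Ai α := by
    refine ⟨?_, ?_, ?_⟩
    · rw [hA, hAi, ← map_mul, mul_inv_cancel, map_one]
    · rw [hA, hAi, ← map_mul, inv_mul_cancel, map_one]
    · intro g
      show ρ x * ρ (g : G) = ρ ((α g : S) : G) * ρ x
      rw [← map_mul, ← map_mul]
      congr 1
      have : ((α g : S) : G) = x * g * x⁻¹ := MulAut.conjNormal_apply x g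
      rw [this]
      group
  have hAP : A ^ (2 ^ (n + 1)) = 1 := by rw [hA, ← map_pow, hx, map_one]
  have hirr' : ∀ U : Submodule K V, Inv τ U → (∀ u ∈ U, A u ∈ U) → U = ⊥ ∨ U = ⊤ := by
    intro U hU hAU
    apply hirrG
    exact inv_of_gen ρ S x hgen U (fun g hg u hu => hU ⟨g, hg⟩ u hu) hAU
  obtain ⟨j, hj, V₀, hV₀, hV₀A, hsup, hdim⟩ :=
    SGP.sg_clifford_tower 2 Nat.prime_two (n + 1) V S τ A Ai α hTw hAP hirr'
  set J := 2 ^ j with hJ
  have hJpos : 0 < J := pow_pos (by norm_num) j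
  have hinj := block_inj A V₀ J hJpos hsup hdim
  have hfixV₀ : ∀ v ∈ V₀, (A ^ J) v = v → v = 0 := by
    intro v hv hfix'
    apply hinj v hv
    apply hfix
    exact sum_pow_fixed A J v hfix'
  have hjn : j ≤ n := by
    by_contra hcon
    have hj' : j = n + 1 := by omega
    obtain ⟨v, hv, hvne⟩ := (Submodule.ne_bot_iff V₀).mp hV₀.2.1
    apply hvne
    apply hfixV₀ v hv
    rw [hJ, hj', hAP]
    rfl
  set y' := x ^ J with hy'
  have hρy' : ρ y' = A ^ J := by rw [hy', map_pow]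
  have hV₀y' : ∀ v ∈ V₀, ρ y' v ∈ V₀ := by
    intro v hv
    rw [hρy']
    exact hV₀A v hv
  have : Nontrivial V₀ := Submodule.nontrivial_iff_ne_bot.mpr hV₀.2.1
  -- the stabiliser of the block and its representation on the block
  set Γ₀ : Subgroup G := stab ρ V₀ with hΓ₀
  have hSΓ : S ≤ Γ₀ := fun g hg => (mem_stab ρ V₀).mpr (fun u hu => hV₀.1 ⟨g, hg⟩ u hu)
  have hyΓ : y' ∈ Γ₀ := (mem_stab ρ V₀).mpr hV₀y'
  set φ : Representation K Γ₀ V := ρ.comp Γ₀.subtype with hφ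
  have hInv : Inv φ V₀ := inv_comp_stab ρ V₀
  set ψ : Representation K Γ₀ V₀ := subRep φ V₀ hInv with hψ
  have hψapp : ∀ (a : Γ₀) (u : V₀), ((ψ a u : V₀) : V) = ρ (a : G) (u : V) := fun a u => rfl
  set Ss : Subgroup Γ₀ := S.subgroupOf Γ₀ with hSs
  set y₀ : Γ₀ := ⟨y', hyΓ⟩ with hy₀
  set c := n + 1 - j with hcdef
  have hc : 1 ≤ c := by omega
  have hcardSs : Nat.card Ss = Nat.card S := Nat.card_congr (subgroupOfEquivOfLe hSΓ).toEquiv
  obtain ⟨k, hk⟩ := IsPGroup.iff_card.mp hS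
  have hodd : Odd (Nat.card Ss) := by
    rw [hcardSs, hk]
    exact (hs.odd_of_ne_two hs2).pow
  have hSK : (Nat.card Ss : K) ≠ 0 := by
    rw [hcardSs, hk, Nat.cast_pow]
    exact pow_ne_zero _ hsK
  have hpowJ : ∀ m : ℕ, y' ^ 2 ^ m = x ^ 2 ^ (j + m) := by
    intro m
    rw [hy', hJ, ← pow_mul, ← pow_add]
  have hy : y₀ ^ 2 ^ c = 1 := by
    apply Subtype.ext
    rw [Subgroup.coe_pow, Subgroup.coe_one]
    show y' ^ 2 ^ c = 1
    rw [hpowJ, hcdef]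
    have : j + (n + 1 - j) = n + 1 := by omega
    rw [this, hx]
  have hyS : ∀ u ∈ Ss, y₀ * u * y₀⁻¹ ∈ Ss := by
    intro u hu
    rw [hSs, mem_subgroupOf] at hu ⊢
    have := hSn.conj_mem _ hu y'
    simpa [hy₀] using this
  have hirrψ : ∀ N : Submodule K V₀, (∀ u ∈ Ss, ∀ v ∈ N, ψ u v ∈ N) → N = ⊥ ∨ N = ⊤ := by
    intro N hN
    have h1 : N.map V₀.subtype ≤ V₀ := by
      rintro _ ⟨v, _, rfl⟩
      exact v.2
    have h2 : Inv τ (N.map V₀.subtype) := by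
      rintro g _ ⟨v, hv, rfl⟩
      exact ⟨ψ ⟨g.1, hSΓ g.2⟩ v, hN ⟨g.1, hSΓ g.2⟩ (mem_subgroupOf.mpr g.2) v hv, rfl⟩
    rcases hV₀.2.2 _ h2 h1 with h | h
    · left
      apply Submodule.map_injective_of_injective V₀.injective_subtype
      rw [h, Submodule.map_bot]
    · right
      apply Submodule.map_injective_of_injective V₀.injective_subtype
      rw [h, Submodule.map_subtype_top]
  -- Schur's lemma on the block
  have hschur : ∀ C : End K V₀, (∀ u ∈ Ss, C * ψ u = ψ u * C) → IsScalar C := by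
    intro C hC
    have hirr2 : Cfsg.Agent.Helper48.SympRep.Irr (ψ.comp Ss.subtype) := by
      intro N hN
      exact hirrψ N (fun u hu v hv => hN ⟨u, hu⟩ v hv)
    exact schur hirr2 C (fun γ => hC γ.1 γ.2)
  have hcs : ∀ u ∈ Ss, ∀ w ∈ Ss, ∃ l : K, ψ (u * w * u⁻¹ * w⁻¹) = l • 1 := by
    intro u hu w hw
    apply hschur
    intro γ hγ
    rw [← map_mul, ← map_mul]
    congr 1
    apply Subtype.ext
    have := hcl u.1 (mem_subgroupOf.mp hu) w.1 (mem_subgroupOf.mp hw) γ.1 (mem_subgroupOf.mp hγ)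
    simpa using this
  have hfixψ : ∀ m : V₀, ψ y₀ m = m → m = 0 := by
    intro m hm
    apply Subtype.ext
    apply hfixV₀ m m.2
    have := congrArg (fun z : V₀ => (z : V)) hm
    simp only [hψapp] at this
    rw [← hρy']
    exact this
  set R₀ : Subgroup Γ₀ := Ss ⊓ scalarSubgroup ψ with hR₀
  have hR₀S : R₀ ≤ Ss := inf_le_left
  have hR₀iff : ∀ u ∈ Ss, u ∈ R₀ ↔ ∃ l : K, ψ u = l • 1 :=
    fun u hu => ⟨fun h => h.2, fun h => ⟨hu, h⟩⟩
  obtain ⟨hcnt, heq⟩ := BC ψ Ss y₀ hc hodd hSK h2K hy hyS hirrψ hcs hfixψ R₀ hR₀S hR₀iff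
  set T₀ : Subgroup Γ₀ := Ss ⊓ MonoidHom.ker ψ with hT₀
  set R : Subgroup G := R₀.map Γ₀.subtype with hR
  set T : Subgroup G := T₀.map Γ₀.subtype with hT
  have hRS : R ≤ S := by
    rintro _ ⟨r, hr, rfl⟩
    exact mem_subgroupOf.mp hr.1
  have hTS : T ≤ S := by
    rintro _ ⟨r, hr, rfl⟩
    exact mem_subgroupOf.mp hr.1
  have hRmem : ∀ a (ha : a ∈ S), a ∈ R ↔ IsScalar (ψ ⟨a, hSΓ ha⟩) := by
    intro a ha
    rw [hR, mem_map_subtype_iff R₀ a (hSΓ ha)]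
    exact hR₀iff _ (mem_subgroupOf.mpr ha)
  have hTmem : ∀ a (ha : a ∈ S), a ∈ T ↔ ψ ⟨a, hSΓ ha⟩ = 1 := by
    intro a ha
    rw [hT, mem_map_subtype_iff T₀ a (hSΓ ha)]
    constructor
    · intro h
      exact MonoidHom.mem_ker.mp h.2
    · intro h
      exact ⟨mem_subgroupOf.mpr ha, MonoidHom.mem_ker.mpr h⟩
  have hψinv : ∀ g : Γ₀, ψ g * ψ g⁻¹ = 1 := by
    intro g
    rw [← map_mul, mul_inv_cancel, map_one]
  have hcommS : ∀ a ∈ S, ∀ b ∈ S, a * b * a⁻¹ * b⁻¹ ∈ S := fun a ha b hb =>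
    S.mul_mem (S.mul_mem (S.mul_mem ha hb) (S.inv_mem ha)) (S.inv_mem hb)
  have hR₀eq : R₀ = R.subgroupOf Γ₀ := by
    rw [hR]
    exact (Subgroup.comap_map_eq_self_of_injective Γ₀.subtype_injective R₀).symm
  have hcardR : Nat.card R = Nat.card R₀ := by
    rw [hR]
    exact Subgroup.card_map_of_injective Γ₀.subtype_injective
  have htΓ : x ^ 2 ^ n ∈ Γ₀ := by
    have : x ^ 2 ^ n = y' ^ 2 ^ (c - 1) := by
      rw [hpowJ, hcdef]
      congr 2
      omega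
    rw [this]
    exact Γ₀.pow_mem hyΓ _
  have hy₀pow : y₀ ^ 2 ^ (c - 1) = ⟨x ^ 2 ^ n, htΓ⟩ := by
    apply Subtype.ext
    rw [Subgroup.coe_pow]
    show y' ^ 2 ^ (c - 1) = x ^ 2 ^ n
    rw [hpowJ, hcdef]
    congr 2
    omega
  refine ⟨j, hjn, R, T, hRS, hTS, ?_, ?_, ?_, ?_, ?_⟩
  · -- `R` is the centraliser of `S` modulo `T`
    intro a ha
    rw [hRmem a ha]
    constructor
    · intro hsc b hb
      rw [hTmem _ (hcommS a ha b hb)]
      have e : (⟨a * b * a⁻¹ * b⁻¹, hSΓ (hcommS a ha b hb)⟩ : Γ₀) =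
          ⟨a, hSΓ ha⟩ * ⟨b, hSΓ hb⟩ * (⟨a, hSΓ ha⟩ : Γ₀)⁻¹ * (⟨b, hSΓ hb⟩ : Γ₀)⁻¹ := rfl
      rw [e, map_mul, map_mul, map_mul, hsc.comm, mul_assoc (ψ _) (ψ _) (ψ _), hψinv,
        mul_one, hψinv]
    · intro hall
      apply hschur
      intro u hu
      have hb : (u : G) ∈ S := mem_subgroupOf.mp hu
      have h1 := (hTmem _ (hcommS a ha u.1 hb)).mp (hall u.1 hb)
      have e : (⟨a, hSΓ ha⟩ : Γ₀) * u =
          (⟨a * u.1 * a⁻¹ * u.1⁻¹, hSΓ (hcommS a ha u.1 hb)⟩ : Γ₀) * (u * ⟨a, hSΓ ha⟩) := by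
        apply Subtype.ext
        simp only [Subgroup.coe_mul]
        group
      rw [← map_mul, e, map_mul, h1, one_mul, map_mul]
  · -- some commutator acts nontrivially on the block
    by_contra hcon
    push Not at hcon
    apply hab₀
    apply ext_of_blocks A V₀ J hsup
    intro i _ v hv
    obtain ⟨v', hv', rfl⟩ := hv
    rw [Module.End.one_apply]
    have ha' : (x ^ i)⁻¹ * a₀ * x ^ i ∈ S := by
      have := hSn.conj_mem a₀ ha₀ (x ^ i)⁻¹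
      simpa using this
    have hb' : (x ^ i)⁻¹ * b₀ * x ^ i ∈ S := by
      have := hSn.conj_mem b₀ hb₀ (x ^ i)⁻¹
      simpa using this
    have h1 := (hTmem _ (hcommS _ ha' _ hb')).mp (hcon _ ha' _ hb')
    have h2 : ρ ((x ^ i)⁻¹ * a₀ * x ^ i * ((x ^ i)⁻¹ * b₀ * x ^ i) * ((x ^ i)⁻¹ * a₀ * x ^ i)⁻¹ *
        ((x ^ i)⁻¹ * b₀ * x ^ i)⁻¹) v' = v' := by
      have := congrArg (fun f : End K V₀ => ((f ⟨v', hv'⟩ : V₀) : V)) h1
      simpa [hψapp] using this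
    have e : a₀ * b₀ * a₀⁻¹ * b₀⁻¹ * x ^ i = x ^ i *
        ((x ^ i)⁻¹ * a₀ * x ^ i * ((x ^ i)⁻¹ * b₀ * x ^ i) * ((x ^ i)⁻¹ * a₀ * x ^ i)⁻¹ *
        ((x ^ i)⁻¹ * b₀ * x ^ i)⁻¹) := by group
    rw [hA, ← map_pow, ← Module.End.mul_apply, ← map_mul, e, map_mul, Module.End.mul_apply, h2]
  · -- `R` is invariant under `x ^ 2 ^ j`
    intro a haR
    have ha : a ∈ S := hRS haR
    have hya : y' * a * y'⁻¹ ∈ S := hSn.conj_mem a ha y'
    show y' * a * y'⁻¹ ∈ R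
    rw [hRmem _ hya]
    obtain ⟨l, hl⟩ := (hRmem a ha).mp haR
    refine ⟨l, ?_⟩
    have e : (⟨y' * a * y'⁻¹, hSΓ hya⟩ : Γ₀) = y₀ * ⟨a, hSΓ ha⟩ * y₀⁻¹ := rfl
    rw [e, map_mul, map_mul, hl, mul_smul_comm, smul_mul_assoc, mul_one, hψinv]
  · -- the count
    rw [hcardR]
    have h1 := card_transfer Γ₀ S R hSΓ (x ^ 2 ^ n) htΓ
    rw [← h1, ← hR₀eq, ← hSs, ← hy₀pow]
    exact hcnt
  · -- the case of equality
    intro hcard a ha haR
    have h1 := card_transfer Γ₀ S R hSΓ (x ^ 2 ^ n) htΓ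
    rw [hcardR, ← h1, ← hR₀eq, ← hSs, ← hy₀pow] at hcard
    have h2 := heq hcard ⟨a, hSΓ ha⟩ (mem_subgroupOf.mpr ha) (by
      rw [hR₀eq, mem_subgroupOf, hy₀pow]
      simpa using haR)
    rw [hR₀eq, mem_subgroupOf] at h2
    simpa [hy₀] using h2

end Cfsg.Agent.Helper51.G2
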