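import Mathlib
import Cfsg.Agent.Lib.Helper51.G2BlockB

/-!
# Piece (BLOCK) of helper31's G2 server (S3795). Part C: induction on the dimension and transfer
from `S ⊔ zpowers x` to the ambient group.
-/

set_option autoImplicit false
set_option maxHeartbeats 800000

namespace Cfsg.Agent.Helper51.G2

open Module Subgroup Cfsg.Agent.Helper31.SG Cfsg.Agent.Helper31.G2 Cfsg.Agent.Helper31.HH

universe u uG uK uV

/-- the general case when `S ⊔ zpowers x = ⊤`, by induction on the dimension. -/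
theorem block_gen (BC : BlkCountStmt.{uK, uV, uG})
    {K : Type uK} [Field K] [IsAlgClosed K] {r s : ℕ} [hr : Fact r.Prime]
    [CharP K r] (hs : s.Prime) (hs2 : s ≠ 2) (hr2 : r ≠ 2) (hrs : r ≠ s)
    {G : Type uG} [Group G] [Finite G] (S : Subgroup G) [hSn : S.Normal] (x : G) (n : ℕ)
    (hgen : S ⊔ zpowers x = ⊤) (hS : IsPGroup s S) (hx : x ^ 2 ^ (n + 1) = 1)
    (hcl : ∀ a ∈ S, ∀ b ∈ S, ∀ c ∈ S, (a * b * a⁻¹ * b⁻¹) * c = c * (a * b * a⁻¹ * b⁻¹)) :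
    ∀ (d : ℕ) (V : Type uV) [AddCommGroup V] [Module K V] [FiniteDimensional K V]
      (ρ : Representation K G V), finrank K V ≤ d → (∀ v : V, ρ x v = v → v = 0) →
      (∃ a ∈ S, ∃ b ∈ S, ρ (a * b * a⁻¹ * b⁻¹) ≠ 1) → BlockConcl S x n := by
  intro d
  induction d with
  | zero =>
    intro V _ _ _ ρ hd _ hnab
    exfalso
    obtain ⟨a, _, b, _, hab⟩ := hnab
    apply hab
    have h0 : finrank K V = 0 := by omega
    have : Subsingleton V := (Module.finrank_zero_iff (R := K) (M := V)).mp h0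
    ext v
    exact Subsingleton.elim _ _
  | succ d ih =>
    intro V _ _ _ ρ hd hfix hnab
    by_cases hirr : ∀ U : Submodule K V, Inv ρ U → U = ⊥ ∨ U = ⊤
    · exact block_irr BC hs hs2 hr2 hrs ρ S x n hgen hS hx hfix hcl hnab hirr
    · push Not at hirr
      obtain ⟨U, hU, hUbot, hUtop⟩ := hirr
      obtain ⟨a, ha, b, hb, hab⟩ := hnab
      haveI : Fact s.Prime := ⟨hs⟩
      have hcS : a * b * a⁻¹ * b⁻¹ ∈ S :=
        S.mul_mem (S.mul_mem (S.mul_mem ha hb) (S.inv_mem ha)) (S.inv_mem hb)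
      obtain ⟨k, hk⟩ := hS ⟨_, hcS⟩
      have hk' : (a * b * a⁻¹ * b⁻¹) ^ s ^ k = 1 := by
        have := congrArg Subtype.val hk
        simpa using this
      rcases sub_or_quot_ne_one r s hrs ρ U hU _ k hk' hab with h | h
      · refine ih U (subRep ρ U hU) ?_ (fix_sub ρ U hU x hfix) ⟨a, ha, b, hb, h⟩
        have := Submodule.finrank_lt hUtop
        omega
      · refine ih (V ⧸ U) (quotRep ρ U hU) ?_ (fix_quot ρ U hU x hfix) ⟨a, ha, b, hb, h⟩
        have h1 := Submodule.finrank_quotient_add_finrank U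
        have h2 : 0 < finrank K U := by
          rw [Module.finrank_pos_iff]
          exact (Submodule.nontrivial_iff_ne_bot).mpr hUbot
        omega

/-- transfer of the conclusion from a subgroup `Γ ≥ S` containing `x` to the group. -/
theorem blockConcl_of_subgroup {G : Type*} [Group G] (Γ S : Subgroup G) (hSΓ : S ≤ Γ) (x : G)
    (hxΓ : x ∈ Γ) (n : ℕ) (h : BlockConcl (S.subgroupOf Γ) (⟨x, hxΓ⟩ : Γ) n) :
    BlockConcl S x n := by
  obtain ⟨j, hj, R', T', hR'S, hT'S, hiff, hex, hinv, hcnt, heq⟩ := h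
  set R : Subgroup G := R'.map Γ.subtype with hR
  set T : Subgroup G := T'.map Γ.subtype with hT
  have hR'eq : R' = R.subgroupOf Γ := by
    rw [hR]
    exact (Subgroup.comap_map_eq_self_of_injective Γ.subtype_injective R').symm
  have hcardR : Nat.card R = Nat.card R' := by
    rw [hR]
    exact Subgroup.card_map_of_injective Γ.subtype_injective
  have hxp : ∀ m : ℕ, (⟨x, hxΓ⟩ : Γ) ^ m = ⟨x ^ m, Γ.pow_mem hxΓ m⟩ :=
    fun m => Subtype.ext (Subgroup.coe_pow (H := Γ) ⟨x, hxΓ⟩ m)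
  have hcommS : ∀ a ∈ S, ∀ b ∈ S, a * b * a⁻¹ * b⁻¹ ∈ S := fun a ha b hb =>
    S.mul_mem (S.mul_mem (S.mul_mem ha hb) (S.inv_mem ha)) (S.inv_mem hb)
  refine ⟨j, hj, R, T, ?_, ?_, ?_, ?_, ?_, ?_, ?_⟩
  · rintro _ ⟨r, hr, rfl⟩
    exact mem_subgroupOf.mp (hR'S hr)
  · rintro _ ⟨r, hr, rfl⟩
    exact mem_subgroupOf.mp (hT'S hr)
  · intro a ha
    rw [hR, mem_map_subtype_iff R' a (hSΓ ha), hiff _ (mem_subgroupOf.mpr ha)]
    constructor
    · intro h b hb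
      exact ⟨_, h ⟨b, hSΓ hb⟩ (mem_subgroupOf.mpr hb), rfl⟩
    · intro h b hb
      have hb' : (b : G) ∈ S := mem_subgroupOf.mp hb
      have h1 := h b.1 hb'
      rw [hT, mem_map_subtype_iff T' _ (hSΓ (hcommS a ha b.1 hb'))] at h1
      exact h1
  · obtain ⟨a, ha, b, hb, hab⟩ := hex
    have ha' : (a : G) ∈ S := mem_subgroupOf.mp ha
    have hb' : (b : G) ∈ S := mem_subgroupOf.mp hb
    refine ⟨a.1, ha', b.1, hb', ?_⟩
    intro h1
    rw [hT, mem_map_subtype_iff T' _ (hSΓ (hcommS a.1 ha' b.1 hb'))] at h1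
    exact hab h1
  · rintro _ ⟨r, hr, rfl⟩
    exact ⟨_, hinv r hr, by simp [hxp]⟩
  · have h1 := card_transfer Γ S R hSΓ (x ^ 2 ^ n) (Γ.pow_mem hxΓ _)
    rw [hcardR, ← h1, ← hR'eq, ← hxp]
    exact hcnt
  · intro hcard a ha haR
    have h1 := card_transfer Γ S R hSΓ (x ^ 2 ^ n) (Γ.pow_mem hxΓ _)
    rw [hcardR, ← h1, ← hR'eq, ← hxp] at hcard
    have h2 := heq hcard ⟨a, hSΓ ha⟩ (mem_subgroupOf.mpr ha) (by
      rw [hR'eq, mem_subgroupOf, hxp]
      simpa using haR)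
    rw [hR'eq, mem_subgroupOf, hxp] at h2
    simpa using h2

/-- piece (BLOCK), modulo piece (BLKCOUNT). -/
theorem g2_block_of (BC : BlkCountStmt.{uK, uV, uG})
    {K : Type uK} [Field K] [IsAlgClosed K] {r s : ℕ} [hr : Fact r.Prime]
    [CharP K r] (hs : s.Prime) (hs2 : s ≠ 2) (hr2 : r ≠ 2) (hrs : r ≠ s)
    {V : Type uV} [AddCommGroup V] [Module K V] [FiniteDimensional K V]
    {G : Type uG} [Group G] [Finite G] (ρ : Representation K G V) (S : Subgroup G) (x : G) (n : ℕ)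
    (hS : IsPGroup s S) (hxS : ∀ a ∈ S, x * a * x⁻¹ ∈ S) (hx : x ^ 2 ^ (n + 1) = 1)
    (hfix : ∀ v : V, ρ x v = v → v = 0)
    (hcl : ∀ a ∈ S, ∀ b ∈ S, ∀ c ∈ S, (a * b * a⁻¹ * b⁻¹) * c = c * (a * b * a⁻¹ * b⁻¹))
    (hnab : ∃ a ∈ S, ∃ b ∈ S, ρ (a * b * a⁻¹ * b⁻¹) ≠ 1) :
    BlockConcl S x n := by
  classical
  set Γ : Subgroup G := S ⊔ zpowers x with hΓ
  have hSΓ : S ≤ Γ := le_sup_left
  have hxΓ : x ∈ Γ := (le_sup_right : zpowers x ≤ Γ) (mem_zpowers x)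
  apply blockConcl_of_subgroup Γ S hSΓ x hxΓ n
  have hxN : x ∈ normalizer (S : Set G) := by
    rw [mem_normalizer_iff]
    intro h
    constructor
    · exact hxS h
    · intro hh
      have := conj_inv_pow_mem S x (2 ^ (n + 1)) hx (by positivity) hxS 1 _ hh
      have e : (x ^ 1)⁻¹ * (x * h * x⁻¹) * x ^ 1 = h := by group
      rwa [e] at this
  have hΓN : Γ ≤ normalizer (S : Set G) := sup_le le_normalizer (zpowers_le.mpr hxN)
  haveI hSn' : (S.subgroupOf Γ).Normal := (normal_subgroupOf_iff_le_normalizer hSΓ).mpr hΓN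
  have hgen' : S.subgroupOf Γ ⊔ zpowers (⟨x, hxΓ⟩ : Γ) = ⊤ := by
    apply Subgroup.map_injective Γ.subtype_injective
    rw [Subgroup.map_sup, Subgroup.map_subgroupOf_eq_of_le hSΓ, MonoidHom.map_zpowers,
      ← MonoidHom.range_eq_map, Subgroup.range_subtype]
    rfl
  have hS' : IsPGroup s (S.subgroupOf Γ) := hS.comap_subtype
  have hx' : (⟨x, hxΓ⟩ : Γ) ^ 2 ^ (n + 1) = 1 := by
    apply Subtype.ext
    rw [Subgroup.coe_pow]
    exact hx
  have hcl' : ∀ a ∈ S.subgroupOf Γ, ∀ b ∈ S.subgroupOf Γ, ∀ c ∈ S.subgroupOf Γ,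
      (a * b * a⁻¹ * b⁻¹) * c = c * (a * b * a⁻¹ * b⁻¹) := by
    intro a ha b hb c hc
    apply Subtype.ext
    have := hcl a.1 (mem_subgroupOf.mp ha) b.1 (mem_subgroupOf.mp hb) c.1 (mem_subgroupOf.mp hc)
    simpa using this
  refine block_gen BC hs hs2 hr2 hrs (S.subgroupOf Γ) (⟨x, hxΓ⟩ : Γ) n hgen' hS' hx' hcl'
    (finrank K V) V (ρ.comp Γ.subtype) le_rfl hfix ?_
  obtain ⟨a, ha, b, hb, hab⟩ := hnab
  exact ⟨⟨a, hSΓ ha⟩, mem_subgroupOf.mpr ha, ⟨b, hSΓ hb⟩, mem_subgroupOf.mpr hb, hab⟩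

end Cfsg.Agent.Helper51.G2
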