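import Mathlib
import Cfsg.Agent.Lib.Helper51.G2BlockC
import Cfsg.Agent.Lib.Helper85.G2BLKCOUNT

/-!
# Piece (BLOCK) of helper31's G2 server (S3795): `g2_block`, statement verbatim.
-/

set_option autoImplicit false

namespace Cfsg.Agent.Helper51.G2

open Module Subgroup Cfsg.Agent.Helper31.SG Cfsg.Agent.Helper31.G2

universe u uG uK uV

theorem g2_block {K : Type uK} [Field K] [IsAlgClosed K] {r s : ℕ} [hr : Fact r.Prime]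
    [CharP K r] (hs : s.Prime) (hs2 : s ≠ 2) (hr2 : r ≠ 2) (hrs : r ≠ s)
    {V : Type uV} [AddCommGroup V] [Module K V] [FiniteDimensional K V]
    {G : Type uG} [Group G] [Finite G] (ρ : Representation K G V) (S : Subgroup G) (x : G) (n : ℕ)
    (hS : IsPGroup s S) (hxS : ∀ a ∈ S, x * a * x⁻¹ ∈ S) (hx : x ^ 2 ^ (n + 1) = 1)
    (hfix : ∀ v : V, ρ x v = v → v = 0)
    (hcl : ∀ a ∈ S, ∀ b ∈ S, ∀ c ∈ S, (a * b * a⁻¹ * b⁻¹) * c = c * (a * b * a⁻¹ * b⁻¹))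
    (hnab : ∃ a ∈ S, ∃ b ∈ S, ρ (a * b * a⁻¹ * b⁻¹) ≠ 1) :
    ∃ j : ℕ, j ≤ n ∧ ∃ R T : Subgroup G, R ≤ S ∧ T ≤ S ∧
      (∀ a ∈ S, (a ∈ R ↔ ∀ b ∈ S, a * b * a⁻¹ * b⁻¹ ∈ T)) ∧
      (∃ a ∈ S, ∃ b ∈ S, a * b * a⁻¹ * b⁻¹ ∉ T) ∧
      (∀ a ∈ R, x ^ 2 ^ j * a * (x ^ 2 ^ j)⁻¹ ∈ R) ∧
      Nat.card {a : G // a ∈ S ∧ x ^ 2 ^ n * a * (x ^ 2 ^ n)⁻¹ * a ∈ R} ≤
        (2 ^ (n + 1 - j) - 1) ^ 2 * Nat.card R ∧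
      (Nat.card {a : G // a ∈ S ∧ x ^ 2 ^ n * a * (x ^ 2 ^ n)⁻¹ * a ∈ R} =
          (2 ^ (n + 1 - j) - 1) ^ 2 * Nat.card R →
        ∀ a ∈ S, x ^ 2 ^ n * a * (x ^ 2 ^ n)⁻¹ * a⁻¹ ∈ R →
          x ^ 2 ^ j * a * (x ^ 2 ^ j)⁻¹ * a⁻¹ ∈ R) :=
  g2_block_of
    (fun ψ Ss _ y _ hc hodd hSK h2K hy hyS hirr hcs hfix R hRS hR =>
      Cfsg.Agent.Helper85.G2.g2_blk_count ψ Ss y hc hodd hSK h2K hy hyS hirr hcs hfix R hRS hR)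
    hs hs2 hr2 hrs ρ S x n hS hxS hx hfix hcl hnab

end Cfsg.Agent.Helper51.G2
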