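import Mathlib
import Cfsg.Agent.Lib.Helper51.PSLDihFinal

/-!
# Existence of the maximal dihedral subgroups of `PSL₂(q)`, given Dickson's list
-/

set_option autoImplicit false
set_option linter.unusedSectionVars false
set_option linter.unusedVariables false
set_option linter.style.haveILetI false

namespace Cfsg.Agent.Helper51.PSLDih

open Matrix Cfsg.Agent.Helper41

variable {F : Type*} [Field F] [Fintype F]

theorem not_dvd_char {q n d : ℕ} (hF : Fintype.card F = q) (p : ℕ) [Fact p.Prime] [CharP F p]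
    (hn3 : 3 ≤ n) (hnd : n * d = q + 1 ∨ n * d = q - 1) : ¬ n ∣ p := by
  intro h
  have hq1 : 1 ≤ q := by rw [← hF]; exact Fintype.card_pos
  obtain ⟨j, hpp, hj⟩ := FiniteField.card F p
  rw [hF] at hj
  rcases (Nat.dvd_prime hpp).mp h with h1 | h1
  · omega
  · subst h1
    have hnq : n ∣ q := by rw [hj]; exact dvd_pow_self n j.ne_zero
    have hn1 : n ∣ 1 := by
      rcases hnd with h2 | h2
      · have h3 : n ∣ q + 1 := by rw [← h2]; exact dvd_mul_right _ _
        have := Nat.dvd_sub h3 hnq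
        rwa [Nat.add_sub_cancel_left] at this
      · have h3 : n ∣ q - 1 := by rw [← h2]; exact dvd_mul_right _ _
        have := Nat.dvd_sub hnq h3
        have e : q - (q - 1) = 1 := by omega
        rwa [e] at this
    have := Nat.le_of_dvd (by norm_num) hn1
    omega

/-- the `q - 1` case -/
theorem exists_coatom_sub_one {q : ℕ} (hF : Fintype.card F = q) (p : ℕ) [Fact p.Prime] [CharP F p]
    (hq : q ∉ ({2, 3, 5, 7, 9, 11} : Finset ℕ))
    (hDickson : ∀ M : Subgroup (ProjectiveSpecialLinearGroup (Fin 2) F), DicksonConcl q p M) :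
    ∃ H : Subgroup (ProjectiveSpecialLinearGroup (Fin 2) F),
      IsCoatom H ∧ Nonempty (H ≃* DihedralGroup ((q - 1) / Nat.gcd 2 (q - 1))) := by
  have hq2 : 2 ≤ q := by rw [← hF]; exact Fintype.one_lt_card
  have hq' := hq
  simp only [Finset.mem_insert, Finset.mem_singleton, not_or] at hq'
  obtain ⟨h2, h3, h5, h7, h9, h11⟩ := hq'
  obtain ⟨hd12, hdq1, hdq⟩ := gcd_two_cases q (by omega)
  obtain ⟨g, hg⟩ := psl2_exists_orderOf_split (F := F) p
  rw [hF] at hg
  have hnd : (q - 1) / Nat.gcd 2 (q - 1) * Nat.gcd 2 (q - 1) = q - 1 := Nat.div_mul_cancel hdq1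
  have hn3 : 3 ≤ (q - 1) / Nat.gcd 2 (q - 1) := by
    rcases hd12 with h | h <;> rw [h] at hnd ⊢ <;> omega
  have hnp : ¬ orderOf g ∣ p := by
    rw [hg]
    exact not_dvd_char hF p hn3 (Or.inr hnd)
  obtain ⟨H0, ⟨e⟩⟩ := exists_dihedral p g hnp (by rw [hg]; exact hn3)
  rw [hg] at e
  exact ⟨H0, coatom_sub_one hF p hq hDickson H0 e, ⟨e⟩⟩

/-- the Klein four-group in `PSL₂(3)` -/
theorem exists_coatom_three (hF : Fintype.card F = 3) :
    ∃ H : Subgroup (ProjectiveSpecialLinearGroup (Fin 2) F),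
      IsCoatom H ∧ Nonempty (H ≃* DihedralGroup 2) := by
  classical
  obtain ⟨p, hpc⟩ := CharP.exists F
  haveI := hpc
  haveI : Fact p.Prime := ⟨CharP.char_is_prime F p⟩
  have hG : Nat.card (ProjectiveSpecialLinearGroup (Fin 2) F) = 12 := by
    have := Cfsg.Agent.Helper98.PSL2Card.card_psl2_odd hF (by decide)
    omega
  obtain ⟨K, hK⟩ := Sylow.exists_subgroup_card_pow_prime (G := ProjectiveSpecialLinearGroup (Fin 2) F)
    2 (n := 2) (by rw [hG]; decide)
  have hK4 : Nat.card K = 4 := by rw [hK]; norm_num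
  have hsq : ∀ x : K, x ^ 2 = 1 := by
    intro x
    have h4 : orderOf x ∣ 4 := by rw [← hK4]; exact orderOf_dvd_natCard x
    have h := psl2_orderOf_dvd p (x : ProjectiveSpecialLinearGroup (Fin 2) F)
    rw [Subgroup.orderOf_coe, hF] at h
    have hp3 : p = 3 := by
      obtain ⟨j, hpp, hj⟩ := FiniteField.card F p
      rw [hF] at hj
      have : p ∣ 3 := by rw [hj]; exact dvd_pow_self p j.ne_zero
      exact (Nat.prime_dvd_prime_iff_eq hpp Nat.prime_three).mp this
    have e1 : (3 - 1) / Nat.gcd 2 (3 - 1) = 1 := by decide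
    have e2 : (3 + 1) / Nat.gcd 2 (3 - 1) = 2 := by decide
    rw [e1, e2, hp3] at h
    have h2 : orderOf x ∣ 2 := by
      rcases h with h | h | h
      · have h12 : orderOf x ∣ Nat.gcd 3 4 := Nat.dvd_gcd h h4
        have e3 : Nat.gcd 3 4 = 1 := by decide
        rw [e3] at h12
        exact h12.trans (one_dvd 2)
      · exact h.trans (one_dvd 2)
      · exact h
    exact orderOf_dvd_iff_pow_eq_one.mp h2
  haveI : Finite K := Nat.finite_of_card_ne_zero (by omega)
  haveI : IsKleinFour K :=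
    { card_four := hK4
      exponent_two := by
        have hdvd : Monoid.exponent K ∣ 2 := Monoid.exponent_dvd_of_forall_pow_eq_one hsq
        rcases (Nat.dvd_prime Nat.prime_two).mp hdvd with h | h
        · exfalso
          have hsub : Subsingleton K := Monoid.exp_eq_one_iff.mp h
          have : Nat.card K = 1 := Nat.card_unique
          omega
        · exact h }
  refine ⟨K, ?_, IsKleinFour.nonempty_mulEquiv⟩
  constructor
  · intro htop
    rw [htop, Subgroup.card_top, hG] at hK4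
    omega
  · intro M hlt
    have h1 : Nat.card K ∣ Nat.card M := Subgroup.card_dvd_of_le hlt.le
    have h2 : Nat.card M ∣ 12 := by rw [← hG]; exact Subgroup.card_subgroup_dvd_card M
    have h3 : Nat.card M ≠ 4 := by
      intro h
      have := Subgroup.eq_of_le_of_card_ge hlt.le (by rw [h, hK4])
      exact (ne_of_lt hlt) this
    rw [hK4] at h1
    have h4 : Nat.card M ≤ 12 := Nat.le_of_dvd (by norm_num) h2
    have h5 : Nat.card M = 12 := by
      obtain ⟨a, ha⟩ := h1
      obtain ⟨b, hb⟩ := h2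
      have hpos : 0 < Nat.card M := Nat.card_pos
      have ha3 : a = 0 ∨ a = 1 ∨ a = 2 ∨ a = 3 := by omega
      rcases ha3 with rfl | rfl | rfl | rfl
      · omega
      · omega
      · rw [ha] at hb; omega
      · rw [ha]
    rw [← Subgroup.card_eq_iff_eq_top, h5, hG]

/-- the `q + 1` case -/
theorem exists_coatom_add_one {q : ℕ} (hF : Fintype.card F = q) (p : ℕ) [Fact p.Prime] [CharP F p]
    (hq : q ∉ ({2, 7, 9} : Finset ℕ))
    (hDickson : ∀ M : Subgroup (ProjectiveSpecialLinearGroup (Fin 2) F), DicksonConcl q p M) :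
    ∃ H : Subgroup (ProjectiveSpecialLinearGroup (Fin 2) F),
      IsCoatom H ∧ Nonempty (H ≃* DihedralGroup ((q + 1) / Nat.gcd 2 (q - 1))) := by
  have hq2 : 2 ≤ q := by rw [← hF]; exact Fintype.one_lt_card
  have hq' := hq
  simp only [Finset.mem_insert, Finset.mem_singleton, not_or] at hq'
  obtain ⟨h2, h7, h9⟩ := hq'
  by_cases h3 : q = 3
  · subst h3
    have e2 : (3 + 1) / Nat.gcd 2 (3 - 1) = 2 := by decide
    rw [e2]
    exact exists_coatom_three hF
  have hq4 : 4 ≤ q := by omega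
  obtain ⟨hd12, hdq1, hdq⟩ := gcd_two_cases q (by omega)
  obtain ⟨g, hg⟩ := psl2_exists_orderOf_nonsplit (F := F) p
  rw [hF] at hg
  have hnd : (q + 1) / Nat.gcd 2 (q - 1) * Nat.gcd 2 (q - 1) = q + 1 := Nat.div_mul_cancel hdq
  have hn3 : 3 ≤ (q + 1) / Nat.gcd 2 (q - 1) := by
    rcases hd12 with h | h <;> rw [h] at hnd ⊢ <;> omega
  have hnp : ¬ orderOf g ∣ p := by
    rw [hg]
    exact not_dvd_char hF p hn3 (Or.inl hnd)
  obtain ⟨H0, ⟨e⟩⟩ := exists_dihedral p g hnp (by rw [hg]; exact hn3)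
  rw [hg] at e
  exact ⟨H0, coatom_add_one hF p hq4 h7 h9 hDickson H0 e, ⟨e⟩⟩

end Cfsg.Agent.Helper51.PSLDih
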