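import Mathlib
import Cfsg.Agent.S0805
import Cfsg.Agent.Lib.Helper98.DicksonPrime
import Cfsg.Agent.Lib.Helper51.PSLDihMax

/-!
# Ruiz–Viruel type bound: the linear algebra and Dickson part

`bound_of_three_tori` : a `p'`-subgroup `Γ` of `GL₂(p)` containing, for three pairwise non-parallel
vectors `v i`, elements `g i` with `g i (v i) = t⁻¹ v i` and `det (g i) = t`, `t` a generator of `𝔽_p^×`,
forces `p ≤ 13`.
-/

set_option autoImplicit false
set_option linter.unusedSectionVars false
set_option linter.unusedVariables false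
set_option linter.style.haveILetI false

namespace Cfsg.Agent.Helper51.RV

open Matrix

section linear

variable {K : Type*} [Field K]

/-- the determinant of two vectors -/
def cross (u v : Fin 2 → K) : K := u 0 * v 1 - u 1 * v 0

theorem cross_mulVec (M : Matrix (Fin 2) (Fin 2) K) (u v : Fin 2 → K) :
    cross (M.mulVec u) (M.mulVec v) = M.det * cross u v := by
  simp only [cross, Matrix.mulVec, dotProduct, Fin.sum_univ_two, det_fin_two]
  ring

theorem cross_smul_smul (a b : K) (u v : Fin 2 → K) :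
    cross (a • u) (b • v) = a * b * cross u v := by
  simp only [cross, Pi.smul_apply, smul_eq_mul]
  ring

theorem ne_zero_of_cross_left {u v : Fin 2 → K} (h : cross u v ≠ 0) : u ≠ 0 := by
  rintro rfl
  apply h
  simp [cross]

theorem ne_zero_of_cross_right {u v : Fin 2 → K} (h : cross u v ≠ 0) : v ≠ 0 := by
  rintro rfl
  apply h
  simp [cross]

/-- parallel vectors -/
theorem exists_smul_of_cross_eq_zero {u v : Fin 2 → K} (hv : v ≠ 0) (h : cross u v = 0) :
    ∃ c : K, u = c • v := by
  have hv' : v 0 ≠ 0 ∨ v 1 ≠ 0 := by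
    by_contra hcon
    push Not at hcon
    apply hv
    ext i
    fin_cases i
    · exact hcon.1
    · exact hcon.2
  unfold cross at h
  rcases hv' with h0 | h1
  · refine ⟨u 0 / v 0, ?_⟩
    ext i
    fin_cases i
    · simp only [Fin.zero_eta, Pi.smul_apply, smul_eq_mul]
      field_simp
    · simp only [Fin.mk_one, Pi.smul_apply, smul_eq_mul]
      field_simp
      linear_combination -h
  · refine ⟨u 1 / v 1, ?_⟩
    ext i
    fin_cases i
    · simp only [Fin.zero_eta, Pi.smul_apply, smul_eq_mul]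
      field_simp
      linear_combination h
    · simp only [Fin.mk_one, Pi.smul_apply, smul_eq_mul]
      field_simp

/-- two independent eigenvectors: the product of the eigenvalues is the determinant -/
theorem eigen_mul_eq_det (M : Matrix (Fin 2) (Fin 2) K) {u v : Fin 2 → K} {a b : K}
    (hu : M.mulVec u = a • u) (hv : M.mulVec v = b • v) (h : cross u v ≠ 0) :
    a * b = M.det := by
  have h1 := cross_mulVec M u v
  rw [hu, hv, cross_smul_smul] at h1
  exact mul_right_cancel₀ h h1

/-- a matrix killing two independent vectors is zero -/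
theorem eq_zero_of_mulVec_eq_zero (N : Matrix (Fin 2) (Fin 2) K) {u v : Fin 2 → K}
    (hu : N.mulVec u = 0) (hv : N.mulVec v = 0) (h : cross u v ≠ 0) : N = 0 := by
  have hu0 := congrFun hu 0
  have hu1 := congrFun hu 1
  have hv0 := congrFun hv 0
  have hv1 := congrFun hv 1
  simp only [Matrix.mulVec, dotProduct, Fin.sum_univ_two, Pi.zero_apply] at hu0 hu1 hv0 hv1
  unfold cross at h
  ext i j
  fin_cases i <;> fin_cases j
  · show N 0 0 = 0
    have : N 0 0 * (u 0 * v 1 - u 1 * v 0) = 0 := by linear_combination v 1 * hu0 - u 1 * hv0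
    exact (mul_eq_zero.mp this).resolve_right h
  · show N 0 1 = 0
    have : N 0 1 * (u 0 * v 1 - u 1 * v 0) = 0 := by linear_combination -v 0 * hu0 + u 0 * hv0
    exact (mul_eq_zero.mp this).resolve_right h
  · show N 1 0 = 0
    have : N 1 0 * (u 0 * v 1 - u 1 * v 0) = 0 := by linear_combination v 1 * hu1 - u 1 * hv1
    exact (mul_eq_zero.mp this).resolve_right h
  · show N 1 1 = 0
    have : N 1 1 * (u 0 * v 1 - u 1 * v 0) = 0 := by linear_combination -v 0 * hu1 + u 0 * hv1
    exact (mul_eq_zero.mp this).resolve_right h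

/-- three pairwise independent eigenvectors force a scalar matrix -/
theorem scalar_of_three_eigen (M : Matrix (Fin 2) (Fin 2) K) (hM : M.det ≠ 0)
    {v1 v2 v3 : Fin 2 → K} {a1 a2 a3 : K}
    (h1 : M.mulVec v1 = a1 • v1) (h2 : M.mulVec v2 = a2 • v2) (h3 : M.mulVec v3 = a3 • v3)
    (h12 : cross v1 v2 ≠ 0) (h13 : cross v1 v3 ≠ 0) (h23 : cross v2 v3 ≠ 0) :
    M = a1 • (1 : Matrix (Fin 2) (Fin 2) K) := by
  have e12 := eigen_mul_eq_det M h1 h2 h12
  have e13 := eigen_mul_eq_det M h1 h3 h13
  have e23 := eigen_mul_eq_det M h2 h3 h23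
  have ha1 : a1 ≠ 0 := by
    rintro rfl
    rw [zero_mul] at e12
    exact hM e12.symm
  have ha3 : a3 ≠ 0 := by
    rintro rfl
    rw [mul_zero] at e13
    exact hM e13.symm
  have e2 : a2 = a3 := mul_left_cancel₀ ha1 (e12.trans e13.symm)
  have e1 : a1 = a2 := mul_right_cancel₀ ha3 (e13.trans (by rw [← e23]))
  have hN : M - a1 • (1 : Matrix (Fin 2) (Fin 2) K) = 0 := by
    apply eq_zero_of_mulVec_eq_zero _ _ _ h12
    · rw [Matrix.sub_mulVec, h1, Matrix.smul_mulVec, Matrix.one_mulVec, sub_self]
    · rw [Matrix.sub_mulVec, h2, Matrix.smul_mulVec, Matrix.one_mulVec, ← e1, sub_self]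
  exact sub_eq_zero.mp hN

theorem pow_mulVec_eigen (M : Matrix (Fin 2) (Fin 2) K) {v : Fin 2 → K} {a : K}
    (h : M.mulVec v = a • v) (k : ℕ) : (M ^ k).mulVec v = a ^ k • v := by
  induction k with
  | zero => simp
  | succ k ih =>
    rw [pow_succ, ← Matrix.mulVec_mulVec, h, Matrix.mulVec_smul, ih, smul_smul, pow_succ, mul_comm]

/-- the key order computation: if `M ^ k` is scalar, with `M v = a v` and `det M = d`, then
`a ^ (2 k) = d ^ k` -/
theorem eigen_pow_of_scalar (M : Matrix (Fin 2) (Fin 2) K) {v : Fin 2 → K} (hv : v ≠ 0) {a c : K}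
    (h : M.mulVec v = a • v) (k : ℕ) (hk : M ^ k = c • (1 : Matrix (Fin 2) (Fin 2) K)) :
    a ^ k = c ∧ M.det ^ k = c ^ 2 := by
  constructor
  · have h1 := pow_mulVec_eigen M h k
    rw [hk, Matrix.smul_mulVec, Matrix.one_mulVec] at h1
    have h2 : (c - a ^ k) • v = 0 := by rw [sub_smul, h1, sub_self]
    rcases smul_eq_zero.mp h2 with h3 | h3
    · exact (sub_eq_zero.mp h3).symm
    · exact absurd h3 hv
  · rw [← Matrix.det_pow, hk, Matrix.det_smul, Matrix.det_one, mul_one, Fintype.card_fin]

end linear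

end Cfsg.Agent.Helper51.RV
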