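import Mathlib
import Cfsg.Agent.Lib.Helper51.RVLin

/-!
# Ruiz–Viruel type bound: `p'`-subgroups of `PGL₂(p)` with three tori
-/

set_option autoImplicit false
set_option linter.unusedSectionVars false
set_option linter.unusedVariables false
set_option linter.style.haveILetI false

namespace Cfsg.Agent.Helper51.RV

open Matrix

set_option maxRecDepth 100000 in
theorem a4_orders : ∀ x : alternatingGroup (Fin 4), x ^ 2 = 1 ∨ x ^ 3 = 1 := by
  decide

variable {p : ℕ} [Fact p.Prime]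

/-- a `p'`-subgroup of `PGL₂(p)`, `p` odd, is cyclic, dihedral, `A₄`, `S₄` or `A₅` -/
theorem pgl2_pprime (hp2 : p ≠ 2) (D : Subgroup (ProjGenLinGroup (Fin 2) (ZMod p)))
    (hD : ¬ p ∣ Nat.card D) :
    IsCyclic D ∨ (∃ n, 0 < n ∧ Nonempty (D ≃* DihedralGroup n)) ∨
      Nonempty (D ≃* alternatingGroup (Fin 4)) ∨ Nonempty (D ≃* Equiv.Perm (Fin 4)) ∨
      Nonempty (D ≃* alternatingGroup (Fin 5)) := by
  classical
  have hpp : p.Prime := Fact.out
  let F := GaloisField p 2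
  haveI : Fintype F := Fintype.ofFinite F
  have hF : Fintype.card F = p ^ 2 := by
    rw [← Nat.card_eq_fintype_card]; exact GaloisField.card p 2 (by norm_num)
  have hpodd : Odd p := hpp.odd_of_ne_two hp2
  have hodd : Odd (p ^ 2) := hpodd.pow
  have hK : Fintype.card (ZMod p) ^ 2 = p ^ 2 := by rw [ZMod.card]
  obtain ⟨H, ⟨e⟩⟩ := ((Cfsg.Agent.S0805.result (F := F) (K := ZMod p) hF hodd 2 (by norm_num) hK).2).mpr
    (by decide)
  let j : ProjGenLinGroup (Fin 2) (ZMod p) →* ProjectiveSpecialLinearGroup (Fin 2) F :=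
    H.subtype.comp e.symm.toMonoidHom
  have hj : Function.Injective j := by
    intro a b hab
    exact e.symm.injective (Subtype.ext hab)
  let ε : D ≃* D.map j := D.equivMapOfInjective j hj
  have hcard : Nat.card (D.map j) = Nat.card D := (Nat.card_congr ε.toEquiv).symm
  have hΔ : ¬ p ∣ Nat.card (D.map j) := by rw [hcard]; exact hD
  rcases Cfsg.Agent.Helper98.Dickson.dickson_pprime (F := F) p (D.map j) hΔ with
    h | ⟨n, hn, ⟨f⟩⟩ | ⟨⟨f⟩⟩ | ⟨⟨f⟩⟩ | ⟨⟨f⟩⟩
  · left
    exact isCyclic_of_surjective ε.symm ε.symm.surjective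
  · right; left; exact ⟨n, hn, ⟨ε.trans f⟩⟩
  · right; right; left; exact ⟨ε.trans f⟩
  · right; right; right; left; exact ⟨ε.trans f⟩
  · right; right; right; right; exact ⟨ε.trans f⟩

set_option maxRecDepth 100000 in
theorem s4_comm_aux : ∀ σ τ : Equiv.Perm (Fin 4), (σ ^ 4 = 1 ∧ τ ^ 4 = 1 ∧ ¬ (σ ^ 2 = 1) ∧
    ¬ (τ ^ 2 = 1) ∧ (σ ^ 2) (0 : Fin 4) = (τ ^ 2) (0 : Fin 4)) → σ * τ = τ * σ := by
  decide

theorem s4_comm (σ τ : Equiv.Perm (Fin 4)) (h1 : σ ^ 4 = 1) (h2 : τ ^ 4 = 1) (h3 : σ ^ 2 ≠ 1)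
    (h4 : τ ^ 2 ≠ 1) (h5 : (σ ^ 2) 0 = (τ ^ 2) 0) : σ * τ = τ * σ :=
  s4_comm_aux σ τ ⟨h1, h2, h3, h4, h5⟩

/-- **the bound**: tori in a `p'`-subgroup of `GL₂(p)` attached to at least three pairwise
independent vectors force `p ≤ 7`, or `p = 13` and at most eight vectors -/
theorem bound_of_tori {ι : Type*} [Fintype ι] (h3ι : 3 ≤ Fintype.card ι)
    (hp2 : p ≠ 2) (Γ : Subgroup (GL (Fin 2) (ZMod p)))
    (hΓ : ¬ p ∣ Nat.card Γ) (t : ZMod p) (ht0 : t ≠ 0) (ht : ∀ k : ℕ, t ^ k = 1 → (p - 1) ∣ k)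
    (g : ι → GL (Fin 2) (ZMod p)) (hg : ∀ i, g i ∈ Γ) (v : ι → (Fin 2 → ZMod p))
    (hv : ∀ i, (g i : Matrix (Fin 2) (Fin 2) (ZMod p)).mulVec (v i) = t⁻¹ • v i)
    (hdet : ∀ i, (g i : Matrix (Fin 2) (Fin 2) (ZMod p)).det = t)
    (hind : ∀ i j, i ≠ j → cross (v i) (v j) ≠ 0) :
    p ≤ 7 ∨ (p = 13 ∧ Fintype.card ι ≤ 8) := by
  classical
  have hpp : p.Prime := Fact.out
  by_contra hcon
  push Not at hcon
  obtain ⟨hp7, hp13⟩ := hcon
  have hp10 : 10 ≤ p - 1 := by
    have h8 : p ≠ 8 := by rintro rfl; revert hpp; decide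
    have h9 : p ≠ 9 := by rintro rfl; revert hpp; decide
    have h10 : p ≠ 10 := by rintro rfl; revert hpp; decide
    omega
  -- three distinct indices
  obtain ⟨emb⟩ : Nonempty (Fin 3 ↪ ι) := Function.Embedding.nonempty_of_card_le (by simpa using h3ι)
  have hvne : ∀ i, v i ≠ 0 := by
    intro i
    by_cases h : i = emb 0
    · rw [h]; exact ne_zero_of_cross_left (hind (emb 0) (emb 1) (by simp))
    · exact ne_zero_of_cross_left (hind i (emb 0) h)
  -- small powers of `t`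
  have hsmall : ∀ k : ℕ, 1 ≤ k → k ≤ 9 → t ^ k ≠ 1 := by
    intro k hk1 hk15 h
    have := Nat.le_of_dvd (by omega) (ht k h)
    omega
  have h15 : t ^ 15 ≠ 1 := by
    intro h
    obtain ⟨c, hc⟩ := ht 15 h
    have hc1 : c = 1 := by
      rcases Nat.lt_or_ge c 2 with h2 | h2
      · have : c ≠ 0 := by rintro rfl; omega
        omega
      · have : 10 * 2 ≤ (p - 1) * c := Nat.mul_le_mul hp10 h2
        omega
    rw [hc1, mul_one] at hc
    have : p = 16 := by omega
    rw [this] at hpp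
    revert hpp; decide
  have h12 : t ^ 12 = 1 → p = 13 := by
    intro h
    obtain ⟨c, hc⟩ := ht 12 h
    have hc1 : c = 1 := by
      rcases Nat.lt_or_ge c 2 with h2 | h2
      · have : c ≠ 0 := by rintro rfl; omega
        omega
      · have : 10 * 2 ≤ (p - 1) * c := Nat.mul_le_mul hp10 h2
        omega
    rw [hc1, mul_one] at hc
    omega
  -- (K1)
  have K1 : ∀ (i : ι) (k : ℕ) (c : ZMod p),
      (g i : Matrix (Fin 2) (Fin 2) (ZMod p)) ^ k = c • (1 : Matrix (Fin 2) (Fin 2) (ZMod p)) →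
      t ^ (3 * k) = 1 := by
    intro i k c hc
    obtain ⟨h1, h2⟩ := eigen_pow_of_scalar _ (hvne i) (hv i) k hc
    rw [hdet i] at h2
    rw [← h1, inv_pow] at h2
    have htk : t ^ k ≠ 0 := pow_ne_zero k ht0
    have h3 : t ^ k * (t ^ k) ^ 2 = 1 := by
      have h4 : (t ^ k) ^ 2 ≠ 0 := pow_ne_zero 2 htk
      rw [inv_pow] at h2
      calc t ^ k * (t ^ k) ^ 2 = ((t ^ k) ^ 2)⁻¹ * (t ^ k) ^ 2 := by rw [← h2]
        _ = 1 := inv_mul_cancel₀ h4
    rw [← h3]
    ring
  -- the image in `PGL₂`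
  let D : Subgroup (ProjGenLinGroup (Fin 2) (ZMod p)) := Γ.map ProjGenLinGroup.mk
  have hDcard : ¬ p ∣ Nat.card D := fun h => hΓ (h.trans (Subgroup.card_map_dvd _ _))
  let x : ι → D := fun i => ⟨ProjGenLinGroup.mk (g i), Subgroup.mem_map_of_mem _ (hg i)⟩
  have hxpow' : ∀ (i : ι) (k : ℕ), (x i) ^ k = 1 → t ^ (3 * k) = 1 := by
    intro i k h
    have h1 : ProjGenLinGroup.mk (g i ^ k) = 1 := by
      have := congrArg Subtype.val h
      simpa [x] using this
    rw [ProjGenLinGroup.mk_eq_one, Matrix.GeneralLinearGroup.center_eq_range_scalar] at h1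
    obtain ⟨u, hu⟩ := h1
    have h2 : (g i : Matrix (Fin 2) (Fin 2) (ZMod p)) ^ k =
        (u : ZMod p) • (1 : Matrix (Fin 2) (Fin 2) (ZMod p)) := by
      have := congrArg (fun z : GL (Fin 2) (ZMod p) => (z : Matrix (Fin 2) (Fin 2) (ZMod p))) hu
      simp only [Matrix.GeneralLinearGroup.coe_scalar, Units.val_pow_eq_pow_val] at this
      rw [← this, Matrix.smul_one_eq_diagonal]
      rfl
    exact K1 i k _ h2
  have hx2 : ∀ i, (x i) ^ 2 ≠ 1 := fun i h => hsmall 6 (by norm_num) (by norm_num) (hxpow' i 2 h)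
  have hx3 : ∀ i, (x i) ^ 3 ≠ 1 := fun i h => hsmall 9 (by norm_num) (by norm_num) (hxpow' i 3 h)
  have hx5 : ∀ i, (x i) ^ 5 ≠ 1 := fun i h => h15 (hxpow' i 5 h)
  have hx4 : ∀ i, (x i) ^ 4 = 1 → p = 13 := fun i h => h12 (hxpow' i 4 h)
  -- (K2)
  have K2 : ∀ i j : ι, i ≠ j → x i * x j = x j * x i →
      ∃ a : ZMod p, (g i : Matrix (Fin 2) (Fin 2) (ZMod p)).mulVec (v j) = a • v j := by
    intro i j hij hcomm
    have h1 : ProjGenLinGroup.mk (g i * g j) = ProjGenLinGroup.mk (g j * g i) := by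
      have := congrArg Subtype.val hcomm
      simpa [x] using this
    rw [ProjGenLinGroup.mk_eq_mk_iff] at h1
    obtain ⟨u, hu⟩ := h1
    have h2 : (u : ZMod p) • ((g i : Matrix (Fin 2) (Fin 2) (ZMod p)) *
        (g j : Matrix (Fin 2) (Fin 2) (ZMod p))) =
        (g j : Matrix (Fin 2) (Fin 2) (ZMod p)) * (g i : Matrix (Fin 2) (Fin 2) (ZMod p)) := by
      have := congrArg (fun z : GL (Fin 2) (ZMod p) => (z : Matrix (Fin 2) (Fin 2) (ZMod p))) hu
      simp only [Matrix.GeneralLinearGroup.coe_mul, Matrix.GeneralLinearGroup.coe_scalar] at this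
      rw [← this, Matrix.scalar_apply, ← Matrix.smul_eq_mul_diagonal]
    have hu2 : (u : ZMod p) ^ 2 = 1 := by
      have := congrArg Matrix.det h2
      rw [Matrix.det_smul, Matrix.det_mul, Matrix.det_mul, hdet i, hdet j, Fintype.card_fin] at this
      have htt : t * t ≠ 0 := mul_ne_zero ht0 ht0
      exact mul_right_cancel₀ htt (by rw [this, one_mul])
    set w := (g i : Matrix (Fin 2) (Fin 2) (ZMod p)).mulVec (v j) with hw
    have hwe : (g j : Matrix (Fin 2) (Fin 2) (ZMod p)).mulVec w = ((u : ZMod p) * t⁻¹) • w := by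
      rw [hw, Matrix.mulVec_mulVec, ← h2, Matrix.smul_mulVec, ← Matrix.mulVec_mulVec, hv j,
        Matrix.mulVec_smul, smul_smul]
    by_cases hc : cross (v j) w = 0
    · have hc' : cross w (v j) = 0 := by
        unfold cross at hc ⊢
        linear_combination -hc
      exact exists_smul_of_cross_eq_zero (hvne j) hc'
    · exfalso
      have h3 := eigen_mul_eq_det _ (hv j) hwe hc
      rw [hdet j] at h3
      have hu3 : (u : ZMod p) = t ^ 3 := by
        field_simp at h3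
        linear_combination h3
      rw [hu3, ← pow_mul] at hu2
      exact hsmall 6 (by norm_num) (by norm_num) hu2
  -- commuting elements give the contradiction
  have hcomm_false : ∀ i0 i1 i2 : ι, i0 ≠ i1 → i0 ≠ i2 → i1 ≠ i2 →
      x i0 * x i1 = x i1 * x i0 → x i0 * x i2 = x i2 * x i0 → False := by
    intro i0 i1 i2 h01 h02 h12' hc1 hc2
    obtain ⟨a2, h2⟩ := K2 i0 i1 h01 hc1
    obtain ⟨a3, h3⟩ := K2 i0 i2 h02 hc2
    have hM : (g i0 : Matrix (Fin 2) (Fin 2) (ZMod p)).det ≠ 0 := by rw [hdet i0]; exact ht0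
    have hs := scalar_of_three_eigen _ hM (hv i0) h2 h3 (hind i0 i1 h01) (hind i0 i2 h02)
      (hind i1 i2 h12')
    have := K1 i0 1 t⁻¹ (by rw [pow_one]; exact hs)
    exact hsmall 3 (by norm_num) (by norm_num) (by simpa using this)
  have hallcomm_false : (∀ i j : ι, x i * x j = x j * x i) → False := by
    intro hc
    exact hcomm_false (emb 0) (emb 1) (emb 2) (by simp) (by simp) (by simp) (hc _ _) (hc _ _)
  rcases pgl2_pprime hp2 D hDcard with h | ⟨n, hn, ⟨f⟩⟩ | ⟨⟨f⟩⟩ | ⟨⟨f⟩⟩ | ⟨⟨f⟩⟩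
  · -- cyclic
    apply hallcomm_false
    intro i j
    obtain ⟨z, hz⟩ := h.exists_generator
    obtain ⟨a, ha⟩ := Subgroup.mem_zpowers_iff.mp (hz (x i))
    obtain ⟨b, hb⟩ := Subgroup.mem_zpowers_iff.mp (hz (x j))
    rw [← ha, ← hb, ← _root_.zpow_add, ← _root_.zpow_add, add_comm]
  · -- dihedral
    have hrot : ∀ i, ∃ a, f (x i) = DihedralGroup.r a := by
      intro i
      rcases hfx : f (x i) with a | a
      · exact ⟨a, rfl⟩
      · exfalso
        apply hx2 i
        apply f.injective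
        rw [map_pow, map_one, hfx, sq, DihedralGroup.sr_mul_self]
    apply hallcomm_false
    intro i j
    obtain ⟨a, ha⟩ := hrot i
    obtain ⟨b, hb⟩ := hrot j
    apply f.injective
    rw [map_mul, map_mul, ha, hb, DihedralGroup.r_mul_r, DihedralGroup.r_mul_r, add_comm]
  · -- A₄
    rcases a4_orders (f (x (emb 0))) with h | h
    · apply hx2 (emb 0)
      apply f.injective; rw [map_pow, map_one, h]
    · apply hx3 (emb 0)
      apply f.injective; rw [map_pow, map_one, h]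
  · -- S₄
    have h4 : ∀ i, (f (x i)) ^ 4 = 1 := by
      intro i
      rcases Cfsg.Agent.Helper51.PSLDih.s4_orders (f (x i)) with h | h | h
      · exfalso; apply hx2 i
        apply f.injective; rw [map_pow, map_one, h]
      · exfalso; apply hx3 i
        apply f.injective; rw [map_pow, map_one, h]
      · exact h
    have h2' : ∀ i, (f (x i)) ^ 2 ≠ 1 := by
      intro i h
      apply hx2 i
      apply f.injective; rw [map_pow, map_one, h]
    have hp13' : p = 13 := by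
      apply hx4 (emb 0)
      apply f.injective; rw [map_pow, map_one, h4]
    have hcard9 : Fintype.card (Fin 4) * 2 < Fintype.card ι := by
      have := hp13 hp13'
      rw [Fintype.card_fin]; omega
    obtain ⟨y, hy⟩ := Fintype.exists_lt_card_fiber_of_mul_lt_card
      (fun i : ι => ((f (x i)) ^ 2) 0) hcard9
    obtain ⟨i0, hi0, i1, hi1, i2, hi2, h01, h02, h12'⟩ := Finset.two_lt_card.mp hy
    simp only [Finset.mem_filter, Finset.mem_univ, true_and] at hi0 hi1 hi2
    refine hcomm_false i0 i1 i2 h01 h02 h12' ?_ ?_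
    · apply f.injective
      rw [map_mul, map_mul]
      exact s4_comm _ _ (h4 i0) (h4 i1) (h2' i0) (h2' i1) (by rw [hi0, hi1])
    · apply f.injective
      rw [map_mul, map_mul]
      exact s4_comm _ _ (h4 i0) (h4 i2) (h2' i0) (h2' i2) (by rw [hi0, hi2])
  · -- A₅
    rcases Cfsg.Agent.Helper51.PSLDih.a5_orders (f (x (emb 0))) with h | h | h
    · apply hx2 (emb 0)
      apply f.injective; rw [map_pow, map_one, h]
    · apply hx3 (emb 0)
      apply f.injective; rw [map_pow, map_one, h]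
    · apply hx5 (emb 0)
      apply f.injective; rw [map_pow, map_one, h]

end Cfsg.Agent.Helper51.RV
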