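import Mathlib

/-!
# Extraspecial groups of order `p³` and exponent `p`: commutator calculus

`B a b = a b a⁻¹ b⁻¹` is bimultiplicative when commutators are central.
-/

set_option autoImplicit false
set_option linter.unusedSectionVars false
set_option linter.unusedVariables false
set_option linter.style.haveILetI false

namespace Cfsg.Agent.Helper51.RV

section calculus

variable {E : Type*} [Group E]

/-- the commutator -/
def B (a b : E) : E := a * b * a⁻¹ * b⁻¹

variable (hc : ∀ a b : E, B a b ∈ Subgroup.center E)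
include hc

theorem B_comm_all (a b g : E) : g * B a b = B a b * g :=
  (Subgroup.mem_center_iff.mp (hc a b) g)

theorem B_mul_left (a a' b : E) : B (a * a') b = B a b * B a' b := by
  have h1 : a' * b * a'⁻¹ = B a' b * b := by unfold B; group
  have h2 := B_comm_all hc a' b a
  calc B (a * a') b = a * (a' * b * a'⁻¹) * a⁻¹ * b⁻¹ := by unfold B; group
    _ = a * (B a' b * b) * a⁻¹ * b⁻¹ := by rw [h1]
    _ = (a * B a' b) * b * a⁻¹ * b⁻¹ := by group
    _ = (B a' b * a) * b * a⁻¹ * b⁻¹ := by rw [h2]
    _ = B a' b * (a * b * a⁻¹ * b⁻¹) := by group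
    _ = B a' b * B a b := rfl
    _ = B a b * B a' b := (B_comm_all hc a b (B a' b))

theorem B_mul_right (a b b' : E) : B a (b * b') = B a b * B a b' := by
  have h1 : a * b' * a⁻¹ = B a b' * b' := by unfold B; group
  have h2 := B_comm_all hc a b' (a * b * a⁻¹)
  calc B a (b * b') = (a * b * a⁻¹) * (a * b' * a⁻¹) * b'⁻¹ * b⁻¹ := by unfold B; group
    _ = (a * b * a⁻¹) * (B a b' * b') * b'⁻¹ * b⁻¹ := by rw [h1]
    _ = ((a * b * a⁻¹) * B a b') * b⁻¹ := by group
    _ = (B a b' * (a * b * a⁻¹)) * b⁻¹ := by rw [h2]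
    _ = B a b' * (a * b * a⁻¹ * b⁻¹) := by group
    _ = B a b' * B a b := rfl
    _ = B a b * B a b' := (B_comm_all hc a b (B a b'))

omit hc in
theorem B_one_left (b : E) : B 1 b = 1 := by unfold B; group

omit hc in
theorem B_one_right (a : E) : B a 1 = 1 := by unfold B; group

omit hc in
theorem B_self (a : E) : B a a = 1 := by unfold B; group

omit hc in
theorem B_swap (a b : E) : B b a = (B a b)⁻¹ := by unfold B; group

theorem B_pow_left (a b : E) (k : ℕ) : B (a ^ k) b = (B a b) ^ k := by
  induction k with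
  | zero => rw [pow_zero, pow_zero, B_one_left]
  | succ k ih => rw [pow_succ, B_mul_left hc, ih, pow_succ]

theorem B_pow_right (a b : E) (k : ℕ) : B a (b ^ k) = (B a b) ^ k := by
  induction k with
  | zero => rw [pow_zero, pow_zero, B_one_right]
  | succ k ih => rw [pow_succ, B_mul_right hc, ih, pow_succ]

omit hc in
theorem B_central_left {c : E} (hcc : c ∈ Subgroup.center E) (b : E) : B c b = 1 := by
  have := Subgroup.mem_center_iff.mp hcc b
  unfold B
  rw [← this]
  group

omit hc in
theorem B_central_right {c : E} (hcc : c ∈ Subgroup.center E) (a : E) : B a c = 1 := by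
  rw [B_swap, B_central_left hcc, inv_one]

theorem B_mul_central_left (a b : E) {c : E} (hcc : c ∈ Subgroup.center E) :
    B (a * c) b = B a b := by
  rw [B_mul_left hc, B_central_left hcc, mul_one]

theorem B_mul_central_right (a b : E) {c : E} (hcc : c ∈ Subgroup.center E) :
    B a (b * c) = B a b := by
  rw [B_mul_right hc, B_central_right hcc, mul_one]

omit hc in
theorem B_pow_pow_self (a : E) (i k : ℕ) : B (a ^ i) (a ^ k) = 1 := by
  unfold B
  have : a ^ i * a ^ k = a ^ k * a ^ i := by rw [← pow_add, ← pow_add, add_comm]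
  rw [this]
  group

/-- the four-term expansion -/
theorem B_expand (y0 y1 : E) (i j k l : ℕ) :
    B (y0 ^ i * y1 ^ j) (y0 ^ k * y1 ^ l) = (B y0 y1) ^ (i * l) * ((B y0 y1) ^ (j * k))⁻¹ := by
  rw [B_mul_left hc, B_mul_right hc, B_mul_right hc, B_pow_pow_self, B_pow_pow_self, one_mul, mul_one,
    B_pow_left hc, B_pow_right hc, B_pow_left hc, B_pow_right hc, B_swap y0 y1, ← pow_mul, ← pow_mul,
    inv_pow, mul_comm l i, mul_comm k j]

omit hc in
theorem B_map {E' : Type*} [Group E'] (φ : E →* E') (a b : E) : φ (B a b) = B (φ a) (φ b) := by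
  unfold B
  rw [map_mul, map_mul, map_mul, map_inv, map_inv]

end calculus

end Cfsg.Agent.Helper51.RV
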