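import Mathlib
import Cfsg.Agent.Lib.Helper51.RVExtra1

/-!
# Extraspecial groups of order `p³` and exponent `p`: the representation of `Aut E` on `E / Z(E)`

`ES.exists_rep` : coordinates `κ : E → 𝔽_p²` (additive, onto, kernel `Z(E)`) and a homomorphism
`ρ : MulAut E →* GL₂(p)` with `κ (φ a) = ρ φ · κ a` and `φ z = z ^ det (ρ φ)` for central `z`.
-/

set_option autoImplicit false
set_option linter.unusedSectionVars false
set_option linter.unusedVariables false
set_option linter.style.haveILetI false

namespace Cfsg.Agent.Helper51.RV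

open Matrix

/-- extraspecial of order `p³` and exponent `p` (as used here) -/
structure ES (p : ℕ) (E : Type*) [Group E] : Prop where
  card : Nat.card E = p ^ 3
  exp : ∀ x : E, x ^ p = 1
  comm : commutator E = Subgroup.center E
  cardZ : Nat.card (Subgroup.center E) = p

variable {E : Type*} [Group E] {p : ℕ} [Fact p.Prime]

theorem ES.B_mem (h : ES p E) (a b : E) : B a b ∈ Subgroup.center E := by
  rw [← h.comm]
  exact Subgroup.commutator_mem_commutator (Subgroup.mem_top a) (Subgroup.mem_top b)

/-- the representation data of an extraspecial group of order `p³`, exponent `p` -/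
structure Rep (p : ℕ) (E : Type*) [Group E] where
  /-- coordinates on `E / Z(E)` -/
  κ : E → (Fin 2 → ZMod p)
  /-- the action of automorphisms on `E / Z(E)` -/
  ρ : MulAut E →* GL (Fin 2) (ZMod p)
  map_mul : ∀ a b, κ (a * b) = κ a + κ b
  surj : Function.Surjective κ
  ker : ∀ a, κ a = 0 ↔ a ∈ Subgroup.center E
  equiv : ∀ φ a, κ (φ a) = (ρ φ : Matrix (Fin 2) (Fin 2) (ZMod p)).mulVec (κ a)
  det : ∀ φ, ∀ z ∈ Subgroup.center E,
        φ z = z ^ ((ρ φ : Matrix (Fin 2) (Fin 2) (ZMod p)).det).val
  comm : ∀ a a', a * a' = a' * a ↔ κ a 0 * κ a' 1 = κ a 1 * κ a' 0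

theorem ES.exists_rep [Finite E] (h : ES p E) : Nonempty (Rep p E) := by
  classical
  have hpp : p.Prime := Fact.out
  have hc := h.B_mem
  -- the module
  have hofsurj : ∀ y : Abelianization E, ∃ a : E, Abelianization.of a = y := fun y =>
    QuotientGroup.mk_surjective y
  have hexp : ∀ x : Additive (Abelianization E), p • x = 0 := by
    intro x
    induction x using Additive.rec with
    | ofMul y =>
      obtain ⟨a, rfl⟩ := hofsurj y
      rw [← ofMul_pow, ← map_pow, h.exp, map_one]
      rfl
  obtain ⟨mod⟩ : Nonempty (Module (ZMod p) (Additive (Abelianization E))) :=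
    ⟨AddCommGroup.zmodModule hexp⟩
  have hcardAb : Nat.card (Additive (Abelianization E)) = p ^ 2 := by
    show Nat.card (E ⧸ commutator E) = p ^ 2
    have h1 := Subgroup.card_eq_card_quotient_mul_card_subgroup (commutator E)
    rw [h.card, h.comm, h.cardZ] at h1
    have h2 : p ^ 2 * p = Nat.card (E ⧸ Subgroup.center E) * p := by
      rw [← h1]; ring
    have h3 := Nat.eq_of_mul_eq_mul_right hpp.pos h2
    rw [h.comm]
    exact h3.symm
  haveI : Finite (Additive (Abelianization E)) :=
    Nat.finite_of_card_ne_zero (by rw [hcardAb]; exact pow_ne_zero 2 hpp.ne_zero)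
  have hfr : Module.finrank (ZMod p) (Additive (Abelianization E)) = 2 := by
    have : Fintype (Additive (Abelianization E)) := Fintype.ofFinite _
    have h1 := Module.card_eq_pow_finrank (K := ZMod p) (V := Additive (Abelianization E))
    rw [ZMod.card, ← Nat.card_eq_fintype_card, hcardAb] at h1
    exact (Nat.pow_right_injective hpp.two_le h1).symm
  let b := Module.finBasisOfFinrankEq (ZMod p) (Additive (Abelianization E)) hfr
  let κ : E → (Fin 2 → ZMod p) := fun a => b.equivFun (Additive.ofMul (Abelianization.of a))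
  have hκmul : ∀ a a', κ (a * a') = κ a + κ a' := by
    intro a a'
    show b.equivFun (Additive.ofMul (Abelianization.of (a * a'))) = _
    rw [map_mul, ofMul_mul, map_add]
  have hκone : κ 1 = 0 := by
    have := hκmul 1 1
    rw [mul_one] at this
    exact left_eq_add.mp this
  have hκsurj : Function.Surjective κ := by
    intro w
    obtain ⟨x, hx⟩ := b.equivFun.surjective w
    induction x using Additive.rec with
    | ofMul y =>
      obtain ⟨a, rfl⟩ := hofsurj y
      exact ⟨a, hx⟩
  have hκker : ∀ a, κ a = 0 ↔ a ∈ Subgroup.center E := by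
    intro a
    rw [← h.comm, ← Abelianization.ker_of, MonoidHom.mem_ker]
    constructor
    · intro h0
      have h1 : Additive.ofMul (Abelianization.of a) = 0 := by
        apply b.equivFun.injective
        rw [map_zero]; exact h0
      exact h1
    · intro h0
      show b.equivFun (Additive.ofMul (Abelianization.of a)) = 0
      rw [h0]
      exact map_zero _
  -- the action
  let A : MulAut E → (Additive (Abelianization E) →+ Additive (Abelianization E)) := fun φ =>
    MonoidHom.toAdditive (Abelianization.map φ.toMonoidHom)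
  have hA : ∀ φ a, A φ (Additive.ofMul (Abelianization.of a)) =
      Additive.ofMul (Abelianization.of (φ a)) := fun φ a => rfl
  let ρ0 : MulAut E →* Matrix (Fin 2) (Fin 2) (ZMod p) :=
    { toFun := fun φ => LinearMap.toMatrix b b ((A φ).toZModLinearMap p)
      map_one' := by
        have : (A 1).toZModLinearMap p = LinearMap.id := by
          apply LinearMap.ext
          intro x
          induction x using Additive.rec with
          | ofMul y =>
            obtain ⟨a, rfl⟩ := hofsurj y
            rfl
        rw [this, LinearMap.toMatrix_id]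
      map_mul' := by
        intro φ ψ
        have : (A (φ * ψ)).toZModLinearMap p =
            ((A φ).toZModLinearMap p).comp ((A ψ).toZModLinearMap p) := by
          apply LinearMap.ext
          intro x
          induction x using Additive.rec with
          | ofMul y =>
            obtain ⟨a, rfl⟩ := hofsurj y
            rfl
        rw [this, LinearMap.toMatrix_comp b b b] }
  let ρ : MulAut E →* GL (Fin 2) (ZMod p) := ρ0.toHomUnits
  have hρ : ∀ φ, (ρ φ : Matrix (Fin 2) (Fin 2) (ZMod p)) =
      LinearMap.toMatrix b b ((A φ).toZModLinearMap p) := fun φ => rfl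
  have hκφ : ∀ φ a, κ (φ a) = (ρ φ : Matrix (Fin 2) (Fin 2) (ZMod p)).mulVec (κ a) := by
    intro φ a
    rw [hρ]
    have := LinearMap.toMatrix_mulVec_repr b b ((A φ).toZModLinearMap p)
      (Additive.ofMul (Abelianization.of a))
    show b.equivFun (Additive.ofMul (Abelianization.of (φ a))) = _
    rw [Module.Basis.equivFun_apply, ← hA φ a]
    exact this.symm
  -- the determinant
  have hκpow : ∀ (a : E) (n : ℕ), κ (a ^ n) = (n : ZMod p) • κ a := by
    intro a n
    induction n with
    | zero => rw [pow_zero, hκone, Nat.cast_zero, zero_smul]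
    | succ n ih => rw [pow_succ, hκmul, ih, Nat.cast_succ, add_smul, one_smul]
  have hκinv : ∀ a, κ a⁻¹ = -κ a := by
    intro a
    have := hκmul a⁻¹ a
    rw [inv_mul_cancel, hκone] at this
    exact eq_neg_of_add_eq_zero_left this.symm
  obtain ⟨y0, hy0⟩ := hκsurj (Pi.single 0 1)
  obtain ⟨y1, hy1⟩ := hκsurj (Pi.single 1 1)
  set c0 := B y0 y1 with hc0
  -- decomposition
  have hdecomp : ∀ a : E, ∃ ζ ∈ Subgroup.center E,
      a = y0 ^ (κ a 0).val * y1 ^ (κ a 1).val * ζ := by
    intro a
    refine ⟨(y0 ^ (κ a 0).val * y1 ^ (κ a 1).val)⁻¹ * a, ?_, by group⟩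
    rw [← hκker, hκmul, hκinv, hκmul, hκpow, hκpow, hy0, hy1, ZMod.natCast_zmod_val,
      ZMod.natCast_zmod_val]
    ext i
    fin_cases i <;> simp
  have hformula : ∀ a a' : E, B a a' =
      c0 ^ ((κ a 0).val * (κ a' 1).val) * (c0 ^ ((κ a 1).val * (κ a' 0).val))⁻¹ := by
    intro a a'
    obtain ⟨ζ, hζ, ha⟩ := hdecomp a
    obtain ⟨ζ', hζ', ha'⟩ := hdecomp a'
    conv_lhs => rw [ha, ha']
    rw [B_mul_central_left hc _ _ hζ, B_mul_central_right hc _ _ hζ', B_expand hc]
  have hc0ne : c0 ≠ 1 := by
    intro h1
    have hcomm : ∀ a a' : E, a * a' = a' * a := by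
      intro a a'
      have := hformula a a'
      rw [h1, one_pow, one_pow, inv_one, mul_one] at this
      unfold B at this
      calc a * a' = (a * a' * a⁻¹ * a'⁻¹) * a' * a := by group
        _ = a' * a := by rw [this, one_mul]
    have htop : Subgroup.center E = ⊤ := by
      rw [eq_top_iff]
      intro a _
      rw [Subgroup.mem_center_iff]
      intro g
      exact hcomm g a
    have := h.cardZ
    rw [htop, Subgroup.card_top, h.card] at this
    have h2 : p ^ 3 = p ^ 1 := by rw [pow_one]; exact this
    have := Nat.pow_right_injective hpp.two_le h2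
    omega
  have hord : orderOf c0 = p := orderOf_eq_prime (h.exp c0) hc0ne
  have hZ : Subgroup.center E = Subgroup.zpowers c0 := by
    symm
    apply Subgroup.eq_of_le_of_card_ge
    · exact Subgroup.zpowers_le.mpr (hc y0 y1)
    · rw [Nat.card_zpowers, hord, h.cardZ]
  refine ⟨⟨κ, ρ, hκmul, hκsurj, hκker, hκφ, ?_, ?_⟩⟩
  · -- determinant
    intro φ z hz
    set M := (ρ φ : Matrix (Fin 2) (Fin 2) (ZMod p)) with hM
    have hφ0 : κ (φ y0) = fun i => M i 0 := by
      rw [hκφ, hy0]
      ext i
      simp [Matrix.mulVec, dotProduct, Fin.sum_univ_two, hM]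
    have hφ1 : κ (φ y1) = fun i => M i 1 := by
      rw [hκφ, hy1]
      ext i
      simp [Matrix.mulVec, dotProduct, Fin.sum_univ_two, hM]
    have hφc : φ c0 = c0 ^ (M.det).val := by
      have h1 : φ c0 = B (φ y0) (φ y1) := B_map φ.toMonoidHom y0 y1
      rw [h1, hformula, hφ0, hφ1]
      rw [mul_inv_eq_iff_eq_mul, ← pow_add, pow_eq_pow_iff_modEq, hord,
        ← ZMod.natCast_eq_natCast_iff]
      push_cast
      rw [ZMod.natCast_zmod_val, ZMod.natCast_zmod_val, ZMod.natCast_zmod_val, ZMod.natCast_zmod_val,
        ZMod.natCast_zmod_val, Matrix.det_fin_two]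
      ring
    rw [hZ] at hz
    obtain ⟨r, rfl⟩ := Subgroup.mem_zpowers_iff.mp hz
    rw [map_zpow, hφc, ← zpow_natCast, ← zpow_natCast, ← _root_.zpow_mul, ← _root_.zpow_mul, mul_comm]
  · -- commutation
    intro a a'
    have h1 : a * a' = a' * a ↔ B a a' = 1 := by
      unfold B
      constructor
      · intro h1; rw [h1]; group
      · intro h1
        calc a * a' = (a * a' * a⁻¹ * a'⁻¹) * a' * a := by group
          _ = a' * a := by rw [h1, one_mul]
    rw [h1, hformula, mul_inv_eq_one, pow_eq_pow_iff_modEq, hord, ← ZMod.natCast_eq_natCast_iff]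
    push_cast
    rw [ZMod.natCast_zmod_val, ZMod.natCast_zmod_val, ZMod.natCast_zmod_val, ZMod.natCast_zmod_val]

end Cfsg.Agent.Helper51.RV
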