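import Mathlib

/-!
# Ruiz–Viruel type bound: producing torus elements in `N_G(P)`

An abelian pair `z, x` of elements of order dividing `p` gives `e : 𝔽_p² → G`; `Acts g M` says that
conjugation by `g` acts on the image of `e` through the matrix `M`.  From an upper and a lower
transvection we build the diagonal element, then move it into `N_G(P)` by Sylow's theorem.
-/

set_option autoImplicit false
set_option linter.unusedSectionVars false
set_option linter.unusedVariables false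
set_option linter.style.haveILetI false

namespace Cfsg.Agent.Helper51.RV

open Matrix

section zp

variable {G : Type*} [Group G] {p : ℕ} [Fact p.Prime]

/-- `y ^ a` for `a : ZMod p` -/
def zp (y : G) (a : ZMod p) : G := y ^ a.val

theorem pow_mod_p {y : G} (hy : y ^ p = 1) (n : ℕ) : y ^ (n % p) = y ^ n := by
  conv_rhs => rw [← Nat.div_add_mod n p, pow_add, pow_mul, hy, one_pow, one_mul]

theorem zp_add {y : G} (hy : y ^ p = 1) (a b : ZMod p) : zp y (a + b) = zp y a * zp y b := by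
  unfold zp
  rw [ZMod.val_add, pow_mod_p hy, pow_add]

theorem zp_mul {y : G} (hy : y ^ p = 1) (a b : ZMod p) : zp y (a * b) = zp (zp y a) b := by
  unfold zp
  rw [ZMod.val_mul, pow_mod_p hy, pow_mul]

theorem zp_zero (y : G) : zp y (0 : ZMod p) = 1 := by
  unfold zp
  rw [ZMod.val_zero, pow_zero]

theorem zp_one (y : G) : zp y (1 : ZMod p) = y := by
  unfold zp
  rw [ZMod.val_one, pow_one]

theorem zp_natCast {y : G} (hy : y ^ p = 1) (n : ℕ) : zp y (n : ZMod p) = y ^ n := by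
  unfold zp
  rw [ZMod.val_natCast, pow_mod_p hy]

theorem zp_conj (g y : G) (a : ZMod p) : g * zp y a * g⁻¹ = zp (g * y * g⁻¹) a := by
  unfold zp
  rw [conj_pow]

theorem zp_pow_p {y : G} (hy : y ^ p = 1) (a : ZMod p) : (zp y a) ^ p = 1 := by
  unfold zp
  rw [← pow_mul, mul_comm, pow_mul, hy, one_pow]

theorem zp_mul_distrib {y y' : G} (h : Commute y y') (a : ZMod p) :
    zp (y * y') a = zp y a * zp y' a := by
  unfold zp
  rw [h.mul_pow]

end zp

section acts

variable {G : Type*} [Group G] {p : ℕ} [Fact p.Prime] (z x : G)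

/-- the map `𝔽_p² → G` -/
def ee (v : Fin 2 → ZMod p) : G := zp z (v 0) * zp x (v 1)

variable {z x} (hz : z ^ p = 1) (hx : x ^ p = 1) (hzx : Commute z x)
include hz hx hzx

theorem ee_add (v v' : Fin 2 → ZMod p) : ee z x (v + v') = ee z x v * ee z x v' := by
  unfold ee
  rw [Pi.add_apply, Pi.add_apply, zp_add hz, zp_add hx]
  have h1 : Commute (zp x (v 1)) (zp z (v' 0)) := (hzx.pow_pow _ _).symm
  calc zp z (v 0) * zp z (v' 0) * (zp x (v 1) * zp x (v' 1))
      = zp z (v 0) * (zp z (v' 0) * zp x (v 1)) * zp x (v' 1) := by group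
    _ = zp z (v 0) * (zp x (v 1) * zp z (v' 0)) * zp x (v' 1) := by rw [h1.eq]
    _ = _ := by group

theorem ee_smul (c : ZMod p) (v : Fin 2 → ZMod p) : ee z x (c • v) = zp (ee z x v) c := by
  unfold ee
  have h1 : Commute (zp z (v 0)) (zp x (v 1)) := hzx.pow_pow _ _
  rw [zp_mul_distrib h1, Pi.smul_apply, Pi.smul_apply, smul_eq_mul, smul_eq_mul, mul_comm c,
    mul_comm c, zp_mul hz, zp_mul hx]

omit hz hx hzx in
theorem ee_zero : ee z x (0 : Fin 2 → ZMod p) = 1 := by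
  unfold ee
  rw [Pi.zero_apply, Pi.zero_apply, zp_zero, zp_zero, one_mul]

omit hz hx hzx in
theorem ee_e0 : ee z x (![1, 0] : Fin 2 → ZMod p) = z := by
  unfold ee
  simp [zp_zero, zp_one]

omit hz hx hzx in
theorem ee_e1 : ee z x (![0, 1] : Fin 2 → ZMod p) = x := by
  unfold ee
  simp [zp_zero, zp_one]

theorem ee_pow_p (v : Fin 2 → ZMod p) : (ee z x v) ^ p = 1 := by
  unfold ee
  have h1 : Commute (zp z (v 0)) (zp x (v 1)) := hzx.pow_pow _ _
  rw [h1.mul_pow, zp_pow_p hz, zp_pow_p hx, one_mul]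

omit hz hx hzx in
variable (z x) in
/-- conjugation by `g` acts through `M` -/
def Acts (g : G) (M : Matrix (Fin 2) (Fin 2) (ZMod p)) : Prop :=
  ∀ v : Fin 2 → ZMod p, g * ee z x v * g⁻¹ = ee z x (M.mulVec v)

omit hz hx hzx in
theorem Acts.one : Acts z x (1 : G) (1 : Matrix (Fin 2) (Fin 2) (ZMod p)) := by
  intro v
  rw [one_mulVec, one_mul, inv_one, mul_one]

omit hz hx hzx in
theorem Acts.mul {g h : G} {M N : Matrix (Fin 2) (Fin 2) (ZMod p)} (hg : Acts z x g M)
    (hh : Acts z x h N) : Acts z x (g * h) (M * N) := by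
  intro v
  calc g * h * ee z x v * (g * h)⁻¹ = g * (h * ee z x v * h⁻¹) * g⁻¹ := by group
    _ = _ := by rw [hh v, hg, mulVec_mulVec]

omit hz hx hzx in
theorem Acts.inv {g : G} {M N : Matrix (Fin 2) (Fin 2) (ZMod p)} (hg : Acts z x g M)
    (hMN : M * N = 1) : Acts z x g⁻¹ N := by
  intro v
  have h1 := hg (N.mulVec v)
  rw [mulVec_mulVec, hMN, one_mulVec] at h1
  rw [← h1]
  group

theorem Acts.mk' {g : G} {M : Matrix (Fin 2) (Fin 2) (ZMod p)}
    (h0 : g * z * g⁻¹ = ee z x (fun i => M i 0)) (h1 : g * x * g⁻¹ = ee z x (fun i => M i 1)) :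
    Acts z x g M := by
  intro v
  have hv : M.mulVec v = v 0 • (fun i => M i 0) + v 1 • (fun i => M i 1) := by
    ext i
    simp [Matrix.mulVec, dotProduct, Fin.sum_univ_two, mul_comm]
  rw [hv, ee_add hz hx hzx, ee_smul hz hx hzx, ee_smul hz hx hzx, ← h0, ← h1, ← zp_conj, ← zp_conj]
  unfold ee
  group

omit hz hx hzx in
theorem Acts.apply_z {g : G} {M : Matrix (Fin 2) (Fin 2) (ZMod p)} (hg : Acts z x g M) :
    g * z * g⁻¹ = zp z (M 0 0) * zp x (M 1 0) := by
  have := hg ![1, 0]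
  rw [ee_e0] at this
  rw [this]
  unfold ee
  simp [Matrix.mulVec, dotProduct, Fin.sum_univ_two]

omit hz hx hzx in
theorem Acts.apply_x {g : G} {M : Matrix (Fin 2) (Fin 2) (ZMod p)} (hg : Acts z x g M) :
    g * x * g⁻¹ = zp z (M 0 1) * zp x (M 1 1) := by
  have := hg ![0, 1]
  rw [ee_e1] at this
  rw [this]
  unfold ee
  simp [Matrix.mulVec, dotProduct, Fin.sum_univ_two]

end acts

section sylow

variable {G : Type*} [Group G] [Finite G] {p : ℕ} [Fact p.Prime]

/-- Sylow's theorem inside a subgroup `X` containing the Sylow subgroup `P` -/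
theorem sylow_conj_in (P : Sylow p G) (X : Subgroup G) (hPX : (P : Subgroup G) ≤ X)
    (Q : Subgroup G) (hQ : IsPGroup p Q) (hQX : Q ≤ X) :
    ∃ c ∈ X, ∀ q ∈ Q, c⁻¹ * q * c ∈ (P : Subgroup G) := by
  let Pc : Sylow p ↥X := P.subtype hPX
  have hQc : IsPGroup p (Q.subgroupOf X) := hQ.comap_subtype
  obtain ⟨R, hR⟩ := hQc.exists_le_sylow
  obtain ⟨c, hc⟩ := MulAction.exists_smul_eq ↥X Pc R
  refine ⟨c, c.2, ?_⟩
  intro q hq
  have h1 : (⟨q, hQX hq⟩ : ↥X) ∈ (R : Subgroup ↥X) :=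
    hR (by rw [Subgroup.mem_subgroupOf]; exact hq)
  rw [← hc, Sylow.coe_subgroup_smul, Subgroup.mem_pointwise_smul_iff_inv_smul_mem] at h1
  rw [Sylow.coe_subtype, Subgroup.mem_subgroupOf] at h1
  simpa [MulAut.smul_def] using h1

end sylow

section torus

variable {G : Type*} [Group G] {p : ℕ} [Fact p.Prime]

/-- upper unitriangular -/
def UU (k : ZMod p) : Matrix (Fin 2) (Fin 2) (ZMod p) := !![1, k; 0, 1]

/-- lower unitriangular -/
def LL (k : ZMod p) : Matrix (Fin 2) (Fin 2) (ZMod p) := !![1, 0; k, 1]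

/-- diagonal of determinant one -/
def DD (t : ZMod p) : Matrix (Fin 2) (Fin 2) (ZMod p) := !![t, 0; 0, t⁻¹]

theorem UU_mul (a b : ZMod p) : UU a * UU b = UU (a + b) := by
  unfold UU
  ext i j
  fin_cases i <;> fin_cases j <;> simp [Matrix.mul_apply, Fin.sum_univ_two, add_comm]

theorem LL_mul (a b : ZMod p) : LL a * LL b = LL (a + b) := by
  unfold LL
  ext i j
  fin_cases i <;> fin_cases j <;> simp [Matrix.mul_apply, Fin.sum_univ_two, add_comm]

theorem UU_zero : UU (0 : ZMod p) = 1 := by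
  unfold UU
  ext i j
  fin_cases i <;> fin_cases j <;> simp

theorem LL_zero : LL (0 : ZMod p) = 1 := by
  unfold LL
  ext i j
  fin_cases i <;> fin_cases j <;> simp

theorem word_eq {t : ZMod p} (ht : t ≠ 0) :
    UU t * LL (-t⁻¹) * UU t * UU (-1) * LL 1 * UU (-1) = DD t := by
  unfold UU LL DD
  ext i j
  fin_cases i <;> fin_cases j <;> simp [Matrix.mul_apply, Fin.sum_univ_two] <;> field_simp <;> ring

theorem DD_mul_inv {t : ZMod p} (ht : t ≠ 0) : DD t * DD t⁻¹ = 1 := by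
  unfold DD
  ext i j
  fin_cases i <;> fin_cases j <;> simp [Matrix.mul_apply, Fin.sum_univ_two, ht]

theorem DD_conj {t : ZMod p} (ht : t ≠ 0) (k : ZMod p) : DD t * UU k * DD t⁻¹ = UU (k * t ^ 2) := by
  unfold DD UU
  ext i j
  fin_cases i <;> fin_cases j <;> simp [Matrix.mul_apply, Fin.sum_univ_two, ht] <;> ring

theorem UU_mul_DD (k t : ZMod p) : UU k * DD t = !![t, k * t⁻¹; 0, t⁻¹] := by
  unfold DD UU
  ext i j
  fin_cases i <;> fin_cases j <;> simp [Matrix.mul_apply, Fin.sum_univ_two]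

variable {z x : G}

theorem Acts.pow_UU {w : G} (hw : Acts z x w (UU (1 : ZMod p))) (n : ℕ) :
    Acts z x (w ^ n) (UU (n : ZMod p)) := by
  induction n with
  | zero => rw [pow_zero, Nat.cast_zero, UU_zero]; exact Acts.one
  | succ n ih => rw [pow_succ, Nat.cast_succ, ← UU_mul]; exact ih.mul hw

theorem exists_UU {w : G} (hw : Acts z x w (UU (1 : ZMod p))) (a : ZMod p) :
    ∃ g : G, Acts z x g (UU a) := by
  refine ⟨w ^ a.val, ?_⟩
  have := Acts.pow_UU hw a.val
  rwa [ZMod.natCast_zmod_val] at this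

theorem Acts.pow_LL {gL : G} {u : ZMod p} (hL : Acts z x gL (LL u)) (n : ℕ) :
    Acts z x (gL ^ n) (LL (u * (n : ZMod p))) := by
  induction n with
  | zero => rw [pow_zero, Nat.cast_zero, mul_zero, LL_zero]; exact Acts.one
  | succ n ih =>
    rw [pow_succ, Nat.cast_succ, mul_add, mul_one, ← LL_mul]; exact ih.mul hL

theorem exists_LL {gL : G} {u : ZMod p} (hu : u ≠ 0) (hL : Acts z x gL (LL u)) (b : ZMod p) :
    ∃ g : G, Acts z x g (LL b) := by
  refine ⟨gL ^ (u⁻¹ * b).val, ?_⟩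
  have := Acts.pow_LL hL (u⁻¹ * b).val
  rwa [ZMod.natCast_zmod_val, ← mul_assoc, mul_inv_cancel₀ hu, one_mul] at this

variable (z x) in
/-- the elements acting as upper unitriangular matrices -/
def XX : Subgroup G where
  carrier := {g | ∃ k : ZMod p, Acts z x g (UU k)}
  one_mem' := ⟨0, by rw [UU_zero]; exact Acts.one⟩
  mul_mem' := by
    rintro a b ⟨k, hk⟩ ⟨l, hl⟩
    exact ⟨k + l, by rw [← UU_mul]; exact hk.mul hl⟩
  inv_mem' := by
    rintro a ⟨k, hk⟩
    exact ⟨-k, hk.inv (by rw [UU_mul, add_neg_cancel, UU_zero])⟩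

theorem torus [Finite G] (P : Sylow p G)
    (hP : ∀ y ∈ (P : Subgroup G), ∃ k : ZMod p, Acts z x y (UU k))
    {w : G} (hw : Acts z x w (UU (1 : ZMod p))) {gL : G} {u : ZMod p} (hu : u ≠ 0)
    (hL : Acts z x gL (LL u)) {t : ZMod p} (ht : t ≠ 0) :
    ∃ m ∈ Subgroup.normalizer ((P : Subgroup G) : Set G), ∃ j : ZMod p,
      Acts z x m !![t, j; 0, t⁻¹] := by
  obtain ⟨wt, hwt⟩ := exists_UU hw t
  obtain ⟨wm, hwm⟩ := exists_UU hw (-1)
  obtain ⟨l1, hl1⟩ := exists_LL hu hL 1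
  obtain ⟨lt, hlt⟩ := exists_LL hu hL (-t⁻¹)
  set S := wt * lt * wt * wm * l1 * wm with hSdef
  have hS : Acts z x S (DD t) := by
    rw [← word_eq ht]
    exact ((((hwt.mul hlt).mul hwt).mul hwm).mul hl1).mul hwm
  have hSinv : Acts z x S⁻¹ (DD t⁻¹) := hS.inv (DD_mul_inv ht)
  have hPX : (P : Subgroup G) ≤ XX (p := p) z x := fun y hy => hP y hy
  let Q : Subgroup G := (P : Subgroup G).map (MulAut.conj S).toMonoidHom
  have hQ : IsPGroup p Q := P.2.map _
  have hQX : Q ≤ XX (p := p) z x := by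
    rintro q ⟨y, hy, rfl⟩
    obtain ⟨k, hk⟩ := hP y hy
    refine ⟨k * t ^ 2, ?_⟩
    rw [← DD_conj ht k]
    show Acts z x (S * y * S⁻¹) _
    exact (hS.mul hk).mul hSinv
  obtain ⟨c, hcX, hc⟩ := sylow_conj_in P (XX (p := p) z x) hPX Q hQ hQX
  obtain ⟨k, hk⟩ := hcX
  have hcinv : Acts z x c⁻¹ (UU (-k)) := hk.inv (by rw [UU_mul, add_neg_cancel, UU_zero])
  refine ⟨c⁻¹ * S, ?_, -k * t⁻¹, ?_⟩
  · apply Subgroup.mem_normalizer_fintype
    intro y hy
    have h1 := hc (S * y * S⁻¹) ⟨y, hy, rfl⟩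
    have h2 : c⁻¹ * S * y * (c⁻¹ * S)⁻¹ = c⁻¹ * (S * y * S⁻¹) * c := by group
    rw [h2]
    exact h1
  · have h1 := hcinv.mul hS
    rwa [UU_mul_DD] at h1

/-- elementary form of the torus lemma -/
theorem torus' [Finite G] (P : Sylow p G) (hz : z ^ p = 1) (hx : x ^ p = 1)
    (hzx : z * x = x * z)
    (hP : ∀ y ∈ (P : Subgroup G), y * z * y⁻¹ = z ∧ ∃ k : ℕ, y * x * y⁻¹ = z ^ k * x)
    {w : G} (hw1 : w * z * w⁻¹ = z) (hw2 : w * x * w⁻¹ = z * x)
    {gL : G} (hL1 : gL * x * gL⁻¹ = x) {u : ℕ} (hu : x ^ u ≠ 1)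
    (hL2 : gL * z * gL⁻¹ = z * x ^ u) {t : ZMod p} (ht : t ≠ 0) :
    ∃ m ∈ Subgroup.normalizer ((P : Subgroup G) : Set G),
      m * z * m⁻¹ = z ^ t.val ∧ ∃ j : ℕ, m * x * m⁻¹ = z ^ j * x ^ (t⁻¹).val := by
  have hcomm : Commute z x := hzx
  have hUU : ∀ (y : G) (k : ℕ), y * z * y⁻¹ = z → y * x * y⁻¹ = z ^ k * x →
      Acts z x y (UU (k : ZMod p)) := by
    intro y k h1 h2
    apply Acts.mk' hz hx hcomm
    · rw [h1]
      unfold ee UU
      simp [zp_one, zp_zero]
    · rw [h2]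
      unfold ee UU
      simp [zp_one, zp_natCast hz]
  have hP' : ∀ y ∈ (P : Subgroup G), ∃ k : ZMod p, Acts z x y (UU k) := by
    intro y hy
    obtain ⟨h1, k, h2⟩ := hP y hy
    exact ⟨k, hUU y k h1 h2⟩
  have hw : Acts z x w (UU (1 : ZMod p)) := by
    have := hUU w 1 hw1 (by rw [pow_one]; exact hw2)
    rwa [Nat.cast_one] at this
  have hL : Acts z x gL (LL (u : ZMod p)) := by
    apply Acts.mk' hz hx hcomm
    · rw [hL2]
      unfold ee LL
      simp [zp_one, zp_natCast hx]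
    · rw [hL1]
      unfold ee LL
      simp [zp_one, zp_zero]
  have hu' : (u : ZMod p) ≠ 0 := by
    intro h0
    apply hu
    rw [ZMod.natCast_eq_zero_iff] at h0
    obtain ⟨r, rfl⟩ := h0
    rw [pow_mul, hx, one_pow]
  obtain ⟨m, hm, j, hj⟩ := torus P hP' hw hu' hL ht
  refine ⟨m, hm, ?_, j.val, ?_⟩
  · have := hj.apply_z
    simpa [zp, zp_zero] using this
  · have := hj.apply_x
    simpa [zp] using this

end torus

end Cfsg.Agent.Helper51.RV
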