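import Mathlib
import Cfsg.Agent.Lib.Helper51.RVDickson
import Cfsg.Agent.Lib.Helper51.RVExtra2
import Cfsg.Agent.Lib.Helper51.RVTorus

/-!
# Ruiz–Viruel type bound: assembly

`assembly` : a Sylow `p`-subgroup `P` (extraspecial `p³`, exponent `p`) of `G`, elements `xs i ∈ P` in
pairwise distinct "directions" each satisfying the transvection hypothesis `LHyp`, force
`p ≤ 7 ∨ (p = 13 ∧ #ι ≤ 8)`.
-/

set_option autoImplicit false
set_option linter.unusedSectionVars false
set_option linter.unusedVariables false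
set_option linter.style.haveILetI false

namespace Cfsg.Agent.Helper51.RV

open Matrix

section rep

variable {E : Type*} [Group E] {p : ℕ} [Fact p.Prime] (R : Rep p E)

theorem Rep.κ_one : R.κ 1 = 0 := by
  have := R.map_mul 1 1
  rw [mul_one] at this
  exact left_eq_add.mp this

theorem Rep.κ_pow (a : E) (n : ℕ) : R.κ (a ^ n) = (n : ZMod p) • R.κ a := by
  induction n with
  | zero => rw [pow_zero, R.κ_one, Nat.cast_zero, zero_smul]
  | succ n ih => rw [pow_succ, R.map_mul, ih, Nat.cast_succ, add_smul, one_smul]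

theorem Rep.κ_inv (a : E) : R.κ a⁻¹ = -R.κ a := by
  have := R.map_mul a⁻¹ a
  rw [inv_mul_cancel, R.κ_one] at this
  exact eq_neg_of_add_eq_zero_left this.symm

theorem Rep.κ_conj (n a : E) : R.κ (n * a * n⁻¹) = R.κ a := by
  rw [R.map_mul, R.map_mul, R.κ_inv]
  abel

theorem Rep.comm_iff_cross (a a' : E) : a * a' = a' * a ↔ cross (R.κ a) (R.κ a') = 0 := by
  rw [R.comm, cross, sub_eq_zero]

theorem Rep.ρ_eq_one {φ : MulAut E} (h : ∀ a, R.κ (φ a) = R.κ a) : R.ρ φ = 1 := by
  apply Units.ext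
  apply Matrix.mulVec_injective
  funext v
  obtain ⟨a, rfl⟩ := R.surj v
  rw [← R.equiv, h]
  simp

end rep

section es

variable {E : Type*} [Group E] {p : ℕ} [Fact p.Prime] (h : ES p E)
include h

theorem ES.orderOf_eq {z : E} (hz1 : z ≠ 1) : orderOf z = p :=
  orderOf_eq_prime (h.exp z) hz1

theorem ES.center_eq_zpowers {z : E} (hz : z ∈ Subgroup.center E) (hz1 : z ≠ 1) :
    Subgroup.center E = Subgroup.zpowers z := by
  have hpp : p.Prime := Fact.out
  haveI : Finite E := Nat.finite_of_card_ne_zero (by rw [h.card]; exact pow_ne_zero 3 hpp.ne_zero)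
  symm
  apply Subgroup.eq_of_le_of_card_ge
  · exact Subgroup.zpowers_le.mpr hz
  · rw [Nat.card_zpowers, h.orderOf_eq hz1, h.cardZ]

theorem ES.exists_pow {z : E} (hz : z ∈ Subgroup.center E) (hz1 : z ≠ 1) {c : E}
    (hc : c ∈ Subgroup.center E) : ∃ k : ℕ, c = z ^ k := by
  have hpp : p.Prime := Fact.out
  rw [h.center_eq_zpowers hz hz1] at hc
  have hfin : IsOfFinOrder z := isOfFinOrder_iff_pow_eq_one.mpr ⟨p, hpp.pos, h.exp z⟩
  rw [← hfin.mem_powers_iff_mem_zpowers, Submonoid.mem_powers_iff] at hc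
  obtain ⟨k, hk⟩ := hc
  exact ⟨k, hk.symm⟩

theorem ES.pow_eq_pow_iff {z : E} (hz1 : z ≠ 1) (a b : ℕ) :
    z ^ a = z ^ b ↔ (a : ZMod p) = (b : ZMod p) := by
  rw [pow_eq_pow_iff_modEq, h.orderOf_eq hz1, ZMod.natCast_eq_natCast_iff]

end es

theorem exists_prim_root (p : ℕ) [Fact p.Prime] :
    ∃ t : ZMod p, t ≠ 0 ∧ ∀ k : ℕ, t ^ k = 1 → (p - 1) ∣ k := by
  obtain ⟨g, hg⟩ := IsCyclic.exists_generator (α := (ZMod p)ˣ)
  refine ⟨(g : ZMod p), Units.ne_zero g, ?_⟩
  intro k hk
  have h1 : g ^ k = 1 := Units.ext (by push_cast; exact hk)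
  have h2 : orderOf g = p - 1 := by
    rw [orderOf_eq_card_of_forall_mem_zpowers hg, Nat.card_eq_fintype_card, ZMod.card_units]
  rw [← h2]
  exact orderOf_dvd_of_pow_eq_one h1

section assembly

variable {G : Type*} [Group G] {p : ℕ} [Fact p.Prime]

/-- the transvection hypothesis at `x' ∈ P` -/
def LHyp (P : Sylow p G) (x' : ↥(P : Subgroup G)) : Prop :=
  ∃ (gL : G) (z' : ↥(P : Subgroup G)) (u : ℕ), z' ∈ Subgroup.center ↥(P : Subgroup G) ∧ z' ≠ 1 ∧
    gL * (x' : G) * gL⁻¹ = x' ∧ gL * (z' : G) * gL⁻¹ = z' * (x' : G) ^ u ∧ (x' : G) ^ u ≠ 1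

/-- the torus element attached to a non-central `x'` satisfying `LHyp` -/
theorem exists_torus_elt [Finite G] (P : Sylow p G) (hES : ES p ↥(P : Subgroup G))
    (R : Rep p ↥(P : Subgroup G)) {x' : ↥(P : Subgroup G)}
    (hx' : x' ∉ Subgroup.center ↥(P : Subgroup G)) (hL : LHyp P x') {t : ZMod p} (ht : t ≠ 0) :
    ∃ n : ↥(Subgroup.normalizer ((P : Subgroup G) : Set G)),
      ((R.ρ ((P : Subgroup G).normalizerMonoidHom n) : GL (Fin 2) (ZMod p)) :
          Matrix (Fin 2) (Fin 2) (ZMod p)).mulVec (R.κ x') = t⁻¹ • R.κ x' ∧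
      ((R.ρ ((P : Subgroup G).normalizerMonoidHom n) : GL (Fin 2) (ZMod p)) :
          Matrix (Fin 2) (Fin 2) (ZMod p)).det = t := by
  classical
  have hpp : p.Prime := Fact.out
  have hc := hES.B_mem
  obtain ⟨gL, z', u, hz'c, hz'1, hLx, hLz, hxu⟩ := hL
  -- basic facts
  have hzp : (z' : G) ^ p = 1 := by
    have := hES.exp z'
    exact_mod_cast congrArg Subtype.val this
  have hxp : (x' : G) ^ p = 1 := by
    have := hES.exp x'
    exact_mod_cast congrArg Subtype.val this
  have hzx : (z' : G) * (x' : G) = (x' : G) * (z' : G) := by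
    have := Subgroup.mem_center_iff.mp hz'c x'
    exact_mod_cast (congrArg Subtype.val this).symm
  have hPact : ∀ y ∈ (P : Subgroup G), y * (z' : G) * y⁻¹ = z' ∧
      ∃ k : ℕ, y * (x' : G) * y⁻¹ = (z' : G) ^ k * x' := by
    intro y hy
    have key : ∀ y' : ↥(P : Subgroup G), (y' : G) * (z' : G) * (y' : G)⁻¹ = z' ∧
        ∃ k : ℕ, (y' : G) * (x' : G) * (y' : G)⁻¹ = (z' : G) ^ k * x' := by
      intro y'
      constructor
      · have h1 := Subgroup.mem_center_iff.mp hz'c y'
        have h2 : y' * z' * y'⁻¹ = z' := by rw [h1]; group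
        exact_mod_cast congrArg Subtype.val h2
      · obtain ⟨k, hk⟩ := hES.exists_pow hz'c hz'1 (hc y' x')
        refine ⟨k, ?_⟩
        have h2 : y' * x' * y'⁻¹ = z' ^ k * x' := by
          rw [← hk]; unfold B; group
        exact_mod_cast congrArg Subtype.val h2
    exact key ⟨y, hy⟩
  -- the element w
  obtain ⟨w', hw'⟩ : ∃ w' : ↥(P : Subgroup G), B w' x' = z' := by
    have h1 : ∃ y' : ↥(P : Subgroup G), y' * x' ≠ x' * y' := by
      by_contra hcon
      push Not at hcon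
      exact hx' (Subgroup.mem_center_iff.mpr hcon)
    obtain ⟨y', hy'⟩ := h1
    have hB1 : B y' x' ≠ 1 := by
      intro h1
      apply hy'
      unfold B at h1
      calc y' * x' = (y' * x' * y'⁻¹ * x'⁻¹) * x' * y' := by group
        _ = x' * y' := by rw [h1, one_mul]
    obtain ⟨s, hs⟩ := hES.exists_pow hz'c hz'1 (hc y' x')
    have hs0 : (s : ZMod p) ≠ 0 := by
      intro h0
      apply hB1
      rw [hs]
      rw [ZMod.natCast_eq_zero_iff] at h0
      obtain ⟨r, rfl⟩ := h0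
      rw [pow_mul, hES.exp, one_pow]
    refine ⟨y' ^ ((s : ZMod p)⁻¹).val, ?_⟩
    rw [B_pow_left hc, hs, ← pow_mul]
    conv_rhs => rw [← pow_one z']
    rw [hES.pow_eq_pow_iff hz'1]
    push_cast
    rw [ZMod.natCast_zmod_val, mul_inv_cancel₀ hs0]
  have hw1 : (w' : G) * (z' : G) * (w' : G)⁻¹ = z' := (hPact w' w'.2).1
  have hw2 : (w' : G) * (x' : G) * (w' : G)⁻¹ = (z' : G) * x' := by
    have h2 : w' * x' * w'⁻¹ = z' * x' := by
      rw [← hw']; unfold B; group
    exact_mod_cast congrArg Subtype.val h2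
  obtain ⟨m, hm, hmz, j, hmx⟩ := torus' P hzp hxp hzx hPact hw1 hw2 hLx hxu hLz ht
  refine ⟨⟨m, hm⟩, ?_, ?_⟩
  · -- eigenvector
    set φ := (P : Subgroup G).normalizerMonoidHom ⟨m, hm⟩ with hφ
    have h1 : φ x' = z' ^ j * x' ^ (t⁻¹).val := by
      apply Subtype.ext
      rw [hφ, Subgroup.normalizerMonoidHom_apply_apply_coe]
      push_cast
      exact hmx
    rw [← R.equiv, h1, R.map_mul, R.κ_pow, R.κ_pow, (R.ker z').mpr hz'c, smul_zero, zero_add,
      ZMod.natCast_zmod_val]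
  · -- determinant
    set φ := (P : Subgroup G).normalizerMonoidHom ⟨m, hm⟩ with hφ
    have h1 : φ z' = z' ^ t.val := by
      apply Subtype.ext
      rw [hφ, Subgroup.normalizerMonoidHom_apply_apply_coe]
      push_cast
      exact hmz
    have h2 := R.det φ z' hz'c
    rw [h1, hES.pow_eq_pow_iff hz'1, ZMod.natCast_zmod_val, ZMod.natCast_zmod_val] at h2
    exact h2.symm

theorem assembly [Finite G] (hp2 : p ≠ 2) (P : Sylow p G) (hES : ES p ↥(P : Subgroup G))
    (R : Rep p ↥(P : Subgroup G)) {ι : Type*} [Fintype ι] (h3 : 3 ≤ Fintype.card ι)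
    (xs : ι → ↥(P : Subgroup G))
    (hind : ∀ i j, i ≠ j → cross (R.κ (xs i)) (R.κ (xs j)) ≠ 0) (hL : ∀ i, LHyp P (xs i)) :
    p ≤ 7 ∨ (p = 13 ∧ Fintype.card ι ≤ 8) := by
  classical
  have hpp : p.Prime := Fact.out
  obtain ⟨t, ht0, ht⟩ := exists_prim_root p
  have hnc : ∀ i, xs i ∉ Subgroup.center ↥(P : Subgroup G) := by
    intro i
    obtain ⟨j, hj⟩ : ∃ j, j ≠ i := by
      by_contra hcon
      push Not at hcon
      have : Fintype.card ι ≤ 1 := Fintype.card_le_one_iff.mpr (fun a b => by rw [hcon a, hcon b])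
      omega
    rw [← R.ker]
    exact ne_zero_of_cross_left (hind i j hj.symm)
  let f : ↥(Subgroup.normalizer ((P : Subgroup G) : Set G)) →* GL (Fin 2) (ZMod p) :=
    R.ρ.comp (P : Subgroup G).normalizerMonoidHom
  have key := fun i => exists_torus_elt P hES R (hnc i) (hL i) ht0
  choose g hgv hgdet using key
  have hΓ : ¬ p ∣ Nat.card f.range := by
    rw [← Subgroup.index_ker]
    intro hdvd
    have hle : (P : Subgroup G).subgroupOf (Subgroup.normalizer ((P : Subgroup G) : Set G)) ≤ f.ker := by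
      intro n hn
      rw [Subgroup.mem_subgroupOf] at hn
      rw [MonoidHom.mem_ker]
      show R.ρ ((P : Subgroup G).normalizerMonoidHom n) = 1
      apply R.ρ_eq_one
      intro a
      have h1 : (P : Subgroup G).normalizerMonoidHom n a =
          (⟨n, hn⟩ : ↥(P : Subgroup G)) * a * (⟨n, hn⟩ : ↥(P : Subgroup G))⁻¹ := by
        apply Subtype.ext
        rw [Subgroup.normalizerMonoidHom_apply_apply_coe]
        push_cast
        rfl
      rw [h1, R.κ_conj]
    have h1 := Subgroup.index_dvd_of_le hle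
    have h2 : ((P : Subgroup G).subgroupOf (Subgroup.normalizer ((P : Subgroup G) : Set G))).index ∣
        (P : Subgroup G).index := Subgroup.relIndex_dvd_index_of_le Subgroup.le_normalizer
    exact P.not_dvd_index (hdvd.trans (h1.trans h2))
  exact bound_of_tori h3 hp2 f.range hΓ t ht0 ht (fun i => f (g i)) (fun i => ⟨g i, rfl⟩)
    (fun i => R.κ (xs i)) hgv hgdet hind

end assembly

end Cfsg.Agent.Helper51.RV
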