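import Mathlib
import Cfsg.Agent.Lib.Helper51.RVAssembly

/-!
# Ruiz–Viruel type bound: verifying the transvection hypothesis

`lhyp_of_conj` : if all non-identity elements of `P` are `G`-conjugate, every non-central element of
`P` satisfies `LHyp`.
`lhyp_of_SL` : if every automorphism of order `p` of `A ≤ P` (`|A| = p²`) is induced by `G`, then the
non-central elements of `A` satisfy `LHyp`.
-/

set_option autoImplicit false
set_option linter.unusedSectionVars false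
set_option linter.unusedVariables false
set_option linter.style.haveILetI false

namespace Cfsg.Agent.Helper51.RV

open Matrix

section es2

variable {E : Type*} [Group E] {p : ℕ} [Fact p.Prime] (h : ES p E)
include h

theorem ES.finite : Finite E := by
  have hpp : p.Prime := Fact.out
  exact Nat.finite_of_card_ne_zero (by rw [h.card]; exact pow_ne_zero 3 hpp.ne_zero)

theorem ES.exists_central : ∃ z : E, z ∈ Subgroup.center E ∧ z ≠ 1 := by
  have hpp : p.Prime := Fact.out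
  haveI := h.finite
  haveI : Nontrivial ↥(Subgroup.center E) := by
    rw [← Finite.one_lt_card_iff_nontrivial, h.cardZ]
    exact hpp.one_lt
  obtain ⟨z, hz, hz1⟩ := Subgroup.exists_ne_one_of_nontrivial (Subgroup.center E)
  exact ⟨z, hz, hz1⟩

/-- a power of `x` that is a non-trivial central element forces `x` central -/
theorem ES.central_of_zpow {z x : E} (hz : z ∈ Subgroup.center E) (hz1 : z ≠ 1) {k : ℤ}
    (hk : x ^ k = z) : x ∈ Subgroup.center E := by
  have hpp : p.Prime := Fact.out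
  haveI := h.finite
  have hx1 : x ≠ 1 := by
    rintro rfl
    rw [_root_.one_zpow] at hk
    exact hz1 hk.symm
  have hle : Subgroup.zpowers z ≤ Subgroup.zpowers x := by
    rw [Subgroup.zpowers_le]
    exact ⟨k, hk⟩
  have heq : Subgroup.zpowers z = Subgroup.zpowers x := by
    apply Subgroup.eq_of_le_of_card_ge hle
    rw [Nat.card_zpowers, Nat.card_zpowers, h.orderOf_eq hz1, h.orderOf_eq hx1]
  have : x ∈ Subgroup.zpowers z := by
    rw [heq]
    exact Subgroup.mem_zpowers x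
  exact (Subgroup.zpowers_le.mpr hz) this

theorem ES.exists_not_comm {y : E} (hy : y ∉ Subgroup.center E) : ∃ y₂ : E, B y₂ y ≠ 1 := by
  have h1 : ∃ y₂ : E, y₂ * y ≠ y * y₂ := by
    by_contra hcon
    push Not at hcon
    exact hy (Subgroup.mem_center_iff.mpr hcon)
  obtain ⟨y₂, hy₂⟩ := h1
  refine ⟨y₂, ?_⟩
  intro h1
  apply hy₂
  unfold B at h1
  calc y₂ * y = (y₂ * y * y₂⁻¹ * y⁻¹) * y * y₂ := by group
    _ = y * y₂ := by rw [h1, one_mul]

end es2

section conj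

variable {G : Type*} [Group G] {p : ℕ} [Fact p.Prime]

theorem lhyp_of_conj [Finite G] (P : Sylow p G) (hES : ES p ↥(P : Subgroup G))
    (hconj : ∀ x y : ↥(P : Subgroup G), x ≠ 1 → y ≠ 1 → ∃ g : G, g * (x : G) * g⁻¹ = (y : G))
    (x' : ↥(P : Subgroup G)) (hx' : x' ∉ Subgroup.center ↥(P : Subgroup G)) : LHyp P x' := by
  classical
  have hpp : p.Prime := Fact.out
  have hc := hES.B_mem
  obtain ⟨z', hz'c, hz'1⟩ := hES.exists_central
  have hx'1 : x' ≠ 1 := by
    rintro rfl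
    exact hx' (Subgroup.one_mem _)
  obtain ⟨g, hg⟩ := hconj z' x' hz'1 hx'1
  -- central elements commute with `P`
  have hzP : ∀ y ∈ (P : Subgroup G), y * (z' : G) * y⁻¹ = z' := by
    intro y hy
    have key : ∀ y' : ↥(P : Subgroup G), (y' : G) * (z' : G) * (y' : G)⁻¹ = z' := by
      intro y'
      have h1 := Subgroup.mem_center_iff.mp hz'c y'
      have h2 : y' * z' * y'⁻¹ = z' := by rw [h1]; group
      exact_mod_cast congrArg Subtype.val h2
    exact key ⟨y, hy⟩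
  -- the Sylow subgroup `g P g⁻¹` inside `C_G(x)`
  have hHC : ((g • P : Sylow p G) : Subgroup G) ≤ Subgroup.centralizer {(x' : G)} := by
    intro h hh
    rw [Sylow.coe_subgroup_smul, Subgroup.mem_pointwise_smul_iff_inv_smul_mem] at hh
    have hh' : g⁻¹ * h * g ∈ (P : Subgroup G) := by simpa [MulAut.smul_def] using hh
    rw [Subgroup.mem_centralizer_singleton_iff, ← hg]
    have h1 := hzP _ hh'
    calc h * (g * ↑z' * g⁻¹) = g * ((g⁻¹ * h * g) * ↑z' * (g⁻¹ * h * g)⁻¹) * g⁻¹ * h := by group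
      _ = g * ↑z' * g⁻¹ * h := by rw [h1]
  have hQ : IsPGroup p (Subgroup.zpowers (z' : G)) :=
    P.2.to_le (Subgroup.zpowers_le.mpr z'.2)
  have hQC : Subgroup.zpowers (z' : G) ≤ Subgroup.centralizer {(x' : G)} := by
    rw [Subgroup.zpowers_le, Subgroup.mem_centralizer_singleton_iff]
    have := Subgroup.mem_center_iff.mp hz'c x'
    exact_mod_cast (congrArg Subtype.val this).symm
  obtain ⟨c, hcC, hcQ⟩ := sylow_conj_in (g • P) _ hHC _ hQ hQC
  have h1 := hcQ _ (Subgroup.mem_zpowers (z' : G))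
  rw [Sylow.coe_subgroup_smul, Subgroup.mem_pointwise_smul_iff_inv_smul_mem] at h1
  have hyP : g⁻¹ * (c⁻¹ * ↑z' * c) * g ∈ (P : Subgroup G) := by
    rw [MulAut.smul_def, ← map_inv, MulAut.conj_apply, inv_inv] at h1
    exact h1
  rw [Subgroup.mem_centralizer_singleton_iff] at hcC
  set g₁ := c * g with hg₁
  set y' : ↥(P : Subgroup G) := ⟨g⁻¹ * (c⁻¹ * ↑z' * c) * g, hyP⟩ with hy'
  have hg₁z : g₁ * (z' : G) * g₁⁻¹ = x' := by
    calc g₁ * (z' : G) * g₁⁻¹ = c * (g * ↑z' * g⁻¹) * c⁻¹ := by rw [hg₁]; group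
      _ = c * ↑x' * c⁻¹ := by rw [hg]
      _ = ↑x' := by rw [hcC]; group
  have hg₁y : g₁ * (y' : G) * g₁⁻¹ = z' := by
    rw [hy', hg₁]; group
  -- `y'` is not central
  have hy'nc : y' ∉ Subgroup.center ↥(P : Subgroup G) := by
    intro hcen
    obtain ⟨k, hk⟩ := hES.exists_pow hz'c hz'1 hcen
    apply hx'
    apply hES.central_of_zpow hz'c hz'1 (k := (k : ℤ))
    apply Subtype.ext
    rw [zpow_natCast]
    push_cast
    rw [← hg₁z, conj_pow]
    have : ((z' ^ k : ↥(P : Subgroup G)) : G) = (y' : G) := by rw [← hk]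
    push_cast at this
    rw [this, hg₁y]
  obtain ⟨y₂, hy₂⟩ := hES.exists_not_comm hy'nc
  obtain ⟨k, hk⟩ := hES.exists_pow hz'c hz'1 (hc y₂ y')
  have hzk : (z' : G) ^ k ≠ 1 := by
    intro h1
    apply hy₂
    rw [hk]
    apply Subtype.ext
    push_cast
    exact h1
  have hy₂y : (y₂ : G) * (y' : G) * (y₂ : G)⁻¹ = (z' : G) ^ k * (y' : G) := by
    have h2 : y₂ * y' * y₂⁻¹ = z' ^ k * y' := by
      rw [← hk]; unfold B; group
    exact_mod_cast congrArg Subtype.val h2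
  refine ⟨g₁ * y₂ * g₁⁻¹, z', k, hz'c, hz'1, ?_, ?_, ?_⟩
  · calc g₁ * ↑y₂ * g₁⁻¹ * ↑x' * (g₁ * ↑y₂ * g₁⁻¹)⁻¹
        = g₁ * ↑y₂ * (g₁⁻¹ * ↑x' * g₁) * (↑y₂)⁻¹ * g₁⁻¹ := by group
      _ = g₁ * (↑y₂ * ↑z' * (↑y₂)⁻¹) * g₁⁻¹ := by rw [← hg₁z]; group
      _ = ↑x' := by rw [hzP _ y₂.2, hg₁z]
  · calc g₁ * ↑y₂ * g₁⁻¹ * ↑z' * (g₁ * ↑y₂ * g₁⁻¹)⁻¹
        = g₁ * ↑y₂ * (g₁⁻¹ * ↑z' * g₁) * (↑y₂)⁻¹ * g₁⁻¹ := by group
      _ = g₁ * (↑y₂ * ↑y' * (↑y₂)⁻¹) * g₁⁻¹ := by rw [← hg₁y]; group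
      _ = g₁ * ((z' : G) ^ k * (y' : G)) * g₁⁻¹ := by rw [hy₂y]
      _ = (g₁ * (z' : G) * g₁⁻¹) ^ k * (g₁ * (y' : G) * g₁⁻¹) := by rw [conj_pow]; group
      _ = (x' : G) ^ k * z' := by rw [hg₁z, hg₁y]
      _ = ↑z' * ↑x' ^ k := by
        have := Subgroup.mem_center_iff.mp hz'c (x' ^ k)
        exact_mod_cast (congrArg Subtype.val this)
  · rw [← hg₁z, conj_pow]
    intro h1
    apply hzk
    calc (z' : G) ^ k = g₁⁻¹ * (g₁ * (z' : G) ^ k * g₁⁻¹) * g₁ := by group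
      _ = 1 := by rw [h1]; group

end conj

end Cfsg.Agent.Helper51.RV
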