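import Mathlib
import Cfsg.Agent.Lib.Helper51.RVApply

/-!
# Ruiz–Viruel type bound: the transvection hypothesis from `SL₂`-type planes

`lhyp_of_SL` : if every automorphism of order `p` of `A ≤ P` (`|A| = p²`) is induced by `G`, then the
non-central elements of `A` satisfy `LHyp`.
`plane_eq_of_cross` : two planes of `P` through parallel non-central elements coincide.
-/

set_option autoImplicit false
set_option linter.unusedSectionVars false
set_option linter.unusedVariables false
set_option linter.style.haveILetI false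
set_option linter.deprecated false

namespace Cfsg.Agent.Helper51.RV

open Matrix

section es3

variable {E : Type*} [Group E] {p : ℕ} [Fact p.Prime] (h : ES p E)
include h

/-- the center of `E` is inside every subgroup of order `p²` -/
theorem ES.center_le_of_card_sq (A' : Subgroup E) (hA' : Nat.card A' = p ^ 2) :
    Subgroup.center E ≤ A' := by
  have hpp : p.Prime := Fact.out
  haveI := h.finite
  have hidx : A'.index = p := by
    have h1 := A'.index_mul_card
    rw [hA', h.card] at h1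
    have : A'.index * p ^ 2 = p * p ^ 2 := by rw [h1]; ring
    exact Nat.eq_of_mul_eq_mul_right (pow_pos hpp.pos 2) this
  haveI : A'.Normal := Subgroup.normal_of_index_eq_minFac_card
    (by rw [hidx, h.card, hpp.pow_minFac (by norm_num)])
  haveI : IsCyclic (E ⧸ A') :=
    isCyclic_of_prime_card (p := p) (by rw [← Subgroup.index_eq_card, hidx])
  letI : CommGroup (E ⧸ A') := IsCyclic.commGroup
  have h2 := Abelianization.commutator_subset_ker (QuotientGroup.mk' A')
  rw [QuotientGroup.ker_mk'] at h2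
  rw [← h.comm]
  exact h2

end es3

section SL

variable {G : Type*} [Group G] {p : ℕ} [Fact p.Prime]

theorem lhyp_of_SL [Finite G] (P : Sylow p G) (hES : ES p ↥(P : Subgroup G)) (A : Subgroup G)
    (hAP : A ≤ (P : Subgroup G)) (hAcard : Nat.card ↥A = p ^ 2)
    (hSL : ∀ φ : MulAut ↥A, orderOf φ = p → ∃ g : G, ∀ a : ↥A, (φ a : G) = g * (a : G) * g⁻¹)
    (x' : ↥(P : Subgroup G)) (hxA : (x' : G) ∈ A)
    (hx' : x' ∉ Subgroup.center ↥(P : Subgroup G)) : LHyp P x' := by
  classical
  have hpp : p.Prime := Fact.out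
  obtain ⟨z', hz'c, hz'1⟩ := hES.exists_central
  have hzA : (z' : G) ∈ A := by
    have hc2 : Nat.card ↥(A.subgroupOf (P : Subgroup G)) = p ^ 2 := by
      rw [Nat.card_congr (Subgroup.subgroupOfEquivOfLe hAP).toEquiv, hAcard]
    have h1 := hES.center_le_of_card_sq (A.subgroupOf (P : Subgroup G)) hc2 hz'c
    exact Subgroup.mem_subgroupOf.mp h1
  have hcomm : ∀ a b : ↥A, a * b = b * a := IsPGroup.commutative_of_card_eq_prime_sq hAcard
  have hpowA : ∀ a : ↥A, a ^ p = 1 := by
    intro a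
    have := hES.exp ⟨a, hAP a.2⟩
    apply Subtype.ext
    have h2 := congrArg Subtype.val this
    push_cast at h2 ⊢
    exact h2
  set xa : ↥A := ⟨x', hxA⟩ with hxa
  set za : ↥A := ⟨z', hzA⟩ with hza
  have hxa1 : xa ≠ 1 := by
    intro h1
    apply hx'
    have : x' = 1 := by
      apply Subtype.ext
      have := congrArg Subtype.val h1
      exact this
    rw [this]
    exact Subgroup.one_mem _
  let X : Subgroup ↥A := Subgroup.zpowers xa
  haveI : X.Normal := ⟨fun n hn g => by rw [hcomm g n, mul_inv_cancel_right]; exact hn⟩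
  have hXcard : Nat.card X = p := by
    rw [Nat.card_zpowers]
    exact orderOf_eq_prime (hpowA xa) hxa1
  have hQcard : Nat.card (↥A ⧸ X) = p := by
    have h1 := Subgroup.card_eq_card_quotient_mul_card_subgroup X
    rw [hAcard, hXcard] at h1
    have h2 : p * p = Nat.card (↥A ⧸ X) * p := by rw [← h1]; ring
    exact (Nat.eq_of_mul_eq_mul_right hpp.pos h2).symm
  haveI : IsCyclic (↥A ⧸ X) := isCyclic_of_prime_card hQcard
  haveI : IsCyclic X := isCyclic_of_prime_card hXcard
  let θ : (↥A ⧸ X) ≃* X := mulEquivOfCyclicCardEq (hQcard.trans hXcard.symm)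
  let ψ : ↥A →* ↥A := X.subtype.comp (θ.toMonoidHom.comp (QuotientGroup.mk' X))
  have hψX : ∀ a, ψ a ∈ X := fun a => (θ (QuotientGroup.mk' X a)).2
  have hψ1 : ∀ a, ψ a = 1 ↔ a ∈ X := by
    intro a
    show ((θ (QuotientGroup.mk' X a) : X) : ↥A) = 1 ↔ _
    rw [OneMemClass.coe_eq_one, EmbeddingLike.map_eq_one_iff, QuotientGroup.mk'_apply,
      QuotientGroup.eq_one_iff]
  have hψψ : ∀ a, ψ (ψ a) = 1 := fun a => (hψ1 _).mpr (hψX a)
  let φ : MulAut ↥A :=
    { toFun := fun a => a * ψ a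
      invFun := fun a => a * (ψ a)⁻¹
      left_inv := by
        intro a
        show a * ψ a * (ψ (a * ψ a))⁻¹ = a
        rw [map_mul, hψψ, mul_one]; group
      right_inv := by
        intro a
        show a * (ψ a)⁻¹ * ψ (a * (ψ a)⁻¹) = a
        rw [map_mul, map_inv, hψψ, inv_one, mul_one]; group
      map_mul' := by
        intro a b
        show a * b * ψ (a * b) = a * ψ a * (b * ψ b)
        rw [map_mul, mul_assoc a b, ← mul_assoc b, hcomm b (ψ a)]; group }
  have hφapp : ∀ a, φ a = a * ψ a := fun a => rfl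
  have hφpow : ∀ (k : ℕ) (a : ↥A), (φ ^ k) a = a * (ψ a) ^ k := by
    intro k
    induction k with
    | zero => intro a; simp
    | succ k ih =>
      intro a
      rw [pow_succ', MulAut.mul_apply, ih, hφapp, map_mul, map_pow, hψψ, one_pow, mul_one,
        pow_succ]
      group
  -- `za ∉ X`
  have hzaX : za ∉ X := by
    intro h3
    obtain ⟨k, hk⟩ := Subgroup.mem_zpowers_iff.mp h3
    apply hx'
    apply hES.central_of_zpow hz'c hz'1 (k := k)
    apply Subtype.ext
    have := congrArg Subtype.val hk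
    push_cast at this ⊢
    exact this
  have hψza1 : ψ za ≠ 1 := fun h1 => hzaX ((hψ1 za).mp h1)
  have hord : orderOf φ = p := by
    apply orderOf_eq_prime
    · ext a
      rw [hφpow, ← map_pow, hpowA, map_one, mul_one]
      rfl
    · intro h1
      have h2 : φ za = za := by rw [h1]; rfl
      rw [hφapp] at h2
      exact hψza1 (mul_left_cancel (h2.trans (mul_one za).symm))
  obtain ⟨g, hg⟩ := hSL φ hord
  obtain ⟨u, hu⟩ : ∃ u : ℕ, xa ^ u = ψ za := by
    have hfin : IsOfFinOrder xa := isOfFinOrder_iff_pow_eq_one.mpr ⟨p, hpp.pos, hpowA xa⟩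
    have := hψX za
    rw [← hfin.mem_powers_iff_mem_zpowers, Submonoid.mem_powers_iff] at this
    exact this
  refine ⟨g, z', u, hz'c, hz'1, ?_, ?_, ?_⟩
  · have := hg xa
    rw [hφapp, (hψ1 xa).mpr (Subgroup.mem_zpowers xa), mul_one] at this
    exact this.symm
  · have := hg za
    rw [hφapp, ← hu] at this
    push_cast at this
    exact this.symm
  · intro h1
    apply hψza1
    rw [← hu]
    apply Subtype.ext
    push_cast
    exact h1

theorem plane_eq_of_cross [Finite G] (P : Sylow p G) (hES : ES p ↥(P : Subgroup G))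
    (R : Rep p ↥(P : Subgroup G)) (A₁ A₂ : Subgroup G) (h₁P : A₁ ≤ (P : Subgroup G))
    (h₂P : A₂ ≤ (P : Subgroup G)) (hc₁ : Nat.card ↥A₁ = p ^ 2) (hc₂ : Nat.card ↥A₂ = p ^ 2)
    (x₁ x₂ : ↥(P : Subgroup G)) (hx₁A : (x₁ : G) ∈ A₁) (hx₂A : (x₂ : G) ∈ A₂)
    (hx₁ : x₁ ∉ Subgroup.center ↥(P : Subgroup G)) (hx₂ : x₂ ∉ Subgroup.center ↥(P : Subgroup G))
    (hcr : cross (R.κ x₁) (R.κ x₂) = 0) : A₁ = A₂ := by
  classical
  have hpp : p.Prime := Fact.out
  have hcomm : ∀ a b : ↥A₁, a * b = b * a := IsPGroup.commutative_of_card_eq_prime_sq hc₁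
  have hκ₁ : R.κ x₁ ≠ 0 := fun h0 => hx₁ ((R.ker x₁).mp h0)
  have hκ₂ : R.κ x₂ ≠ 0 := fun h0 => hx₂ ((R.ker x₂).mp h0)
  obtain ⟨lam, hlam⟩ := exists_smul_of_cross_eq_zero hκ₂ hcr
  have hZ₂ : ∀ c : ↥(P : Subgroup G), c ∈ Subgroup.center ↥(P : Subgroup G) → (c : G) ∈ A₂ := by
    intro c hc
    have hc2 : Nat.card ↥(A₂.subgroupOf (P : Subgroup G)) = p ^ 2 := by
      rw [Nat.card_congr (Subgroup.subgroupOfEquivOfLe h₂P).toEquiv, hc₂]
    have h1 := hES.center_le_of_card_sq (A₂.subgroupOf (P : Subgroup G)) hc2 hc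
    exact Subgroup.mem_subgroupOf.mp h1
  have hle : A₁ ≤ A₂ := by
    intro a ha
    set a' : ↥(P : Subgroup G) := ⟨a, h₁P ha⟩ with ha'
    have hcm : a' * x₁ = x₁ * a' := by
      have := hcomm ⟨a, ha⟩ ⟨x₁, hx₁A⟩
      apply Subtype.ext
      have h2 := congrArg Subtype.val this
      push_cast at h2 ⊢
      exact h2
    rw [R.comm_iff_cross] at hcm
    obtain ⟨mu, hmu⟩ := exists_smul_of_cross_eq_zero hκ₁ hcm
    have hκa : R.κ a' = R.κ (x₂ ^ (mu * lam).val) := by
      rw [R.κ_pow, ZMod.natCast_zmod_val, hmu, hlam, smul_smul]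
    have hcen : a' * (x₂ ^ (mu * lam).val)⁻¹ ∈ Subgroup.center ↥(P : Subgroup G) := by
      rw [← R.ker, R.map_mul, R.κ_inv, hκa, add_neg_cancel]
    have h1 := hZ₂ _ hcen
    push_cast at h1
    have h2 : (x₂ : G) ^ (mu * lam).val ∈ A₂ := pow_mem hx₂A _
    have h3 := mul_mem h1 h2
    rw [inv_mul_cancel_right] at h3
    exact h3
  exact Subgroup.eq_of_le_of_card_ge hle (by rw [hc₁, hc₂])

end SL

end Cfsg.Agent.Helper51.RV
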