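import Mathlib
import Cfsg.Agent.Lib.Helper51.RuSylMain

/-!
# Odd-order automorphisms of a 2-group with the Ru-type conditions are trivial
-/

set_option autoImplicit false
set_option linter.unusedSectionVars false

namespace Cfsg.Agent.Helper51.RuSyl

open Subgroup

variable {T : Type*} [Group T] [Finite T]

/-- coprime action, elementwise: if `α t t⁻¹` is fixed by the odd-order automorphism `α` of a
2-group, then `t` is fixed. -/
theorem fix_of_comm (hT : IsPGroup 2 T) (α : MulAut T) (m : ℕ) (hm : Odd m) (hαm : α ^ m = 1)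
    (t : T) (hv : α (α t * t⁻¹) = α t * t⁻¹) : α t = t := by
  set v := α t * t⁻¹ with hvdef
  have hvt : v * t = α t := by rw [hvdef]; group
  have key : ∀ k : ℕ, (α ^ k) t = v ^ k * t := by
    intro k
    induction k with
    | zero => simp
    | succ k ih =>
      rw [pow_succ', MulAut.mul_apply, ih, map_mul, map_pow, hv, ← hvt, pow_succ]
      group
  have h1 := key m
  rw [hαm, MulAut.one_apply] at h1
  have h2 : v ^ m = 1 := by
    have : v ^ m * t = 1 * t := by rw [one_mul]; exact h1.symm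
    exact mul_right_cancel this
  have h3 : orderOf v ∣ m := orderOf_dvd_of_pow_eq_one h2
  obtain ⟨j, hj⟩ := hT v
  have h4 : orderOf v ∣ 2 ^ j := orderOf_dvd_of_pow_eq_one hj
  obtain ⟨i, _, hi⟩ := (Nat.dvd_prime_pow Nat.prime_two).1 h4
  have hi0 : i = 0 := by
    by_contra hne
    have : 2 ∣ orderOf v := by
      rw [hi]
      exact dvd_pow_self 2 hne
    have h5 : 2 ∣ m := this.trans h3
    rcases hm with ⟨c, hc⟩
    omega
  rw [hi0, pow_zero, orderOf_eq_one_iff] at hi
  rw [← hvt, hi, one_mul]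

namespace Hyp

variable {W : Subgroup T} (h : Hyp W)
include h

theorem aut_trivial (α : MulAut T) (m : ℕ) (hm : Odd m) (hαm : α ^ m = 1) : α = 1 := by
  classical
  have hn := h.normalFr
  have hWn := h.normalW
  have hchar : ∀ (i : ℕ) (z : T), α z ∈ Subgroup.upperCentralSeries T i ↔
      z ∈ Subgroup.upperCentralSeries T i := by
    intro i z
    have h1 := Subgroup.characteristic_iff_comap_eq.1
      (inferInstance : (Subgroup.upperCentralSeries T i).Characteristic) α
    constructor
    · intro hz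
      rw [← h1]
      exact hz
    · intro hz
      rw [← h1] at hz
      exact hz
  obtain ⟨r0, r1, r2, r3⟩ := relIndex_ucs h.pg h.z4 h.big'
  have hrel : ∀ i, i < 4 → (Subgroup.upperCentralSeries T i).relIndex
      (Subgroup.upperCentralSeries T (i + 1)) = 2 := by
    intro i hi
    interval_cases i
    · exact r0
    · exact r1
    · exact r2
    · exact r3
  -- (i) α fixes Z_4 pointwise
  have hfix : ∀ i, i ≤ 4 → ∀ z ∈ Subgroup.upperCentralSeries T i, α z = z := by
    intro i
    induction i with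
    | zero =>
      intro _ z hz
      rw [Subgroup.upperCentralSeries_zero, Subgroup.mem_bot] at hz
      rw [hz, map_one]
    | succ i ih =>
      intro hi z hz
      have ih' := ih (by omega)
      apply fix_of_comm h.pg α m hm hαm
      apply ih'
      by_cases hzi : z ∈ Subgroup.upperCentralSeries T i
      · rw [ih' z hzi, mul_inv_cancel]
        exact Subgroup.one_mem _
      · refine mul_mem_of_relIndex_two (hrel i (by omega)) ((hchar _ z).2 hz)
          (Subgroup.inv_mem _ hz) ?_ ?_
        · intro h1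
          exact hzi ((hchar _ z).1 h1)
        · intro h1
          exact hzi (by simpa using Subgroup.inv_mem _ h1)
  -- (ii) α acts trivially on T / W
  have hs : ∀ t : T, α t * t⁻¹ ∈ W := by
    intro t
    rw [h.hW, Subgroup.mem_centralizer_iff]
    intro z hz
    have hz' : t⁻¹ * z * t ∈ Subgroup.upperCentralSeries T 3 := by
      have := (inferInstance : (Subgroup.upperCentralSeries T 3).Normal).conj_mem z hz t⁻¹
      simpa using this
    have E : (α t)⁻¹ * z * α t = t⁻¹ * z * t := by
      have h1 := hfix 3 (by norm_num) _ hz'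
      rw [map_mul, map_mul, map_inv, hfix 3 (by norm_num) z hz] at h1
      exact h1
    calc z * (α t * t⁻¹) = α t * ((α t)⁻¹ * z * α t) * t⁻¹ := by group
      _ = α t * (t⁻¹ * z * t) * t⁻¹ := by rw [E]
      _ = α t * t⁻¹ * z := by group
  have hαW : ∀ w ∈ W, α w ∈ W := by
    intro w hw
    have : α w = (α w * w⁻¹) * w := by group
    rw [this]
    exact W.mul_mem (hs w) hw
  have hmemM : ∀ w ∈ W, QuotientGroup.mk' (Fr W) w ∈ W.map (QuotientGroup.mk' (Fr W)) :=
    fun w hw => ⟨w, hw, rfl⟩
  -- (iii) α acts trivially on W / Fr W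
  have hw : ∀ w ∈ W, α w * w⁻¹ ∈ Fr W := by
    let ψ : ↥W →* T ⧸ Fr W :=
      { toFun := fun w => QuotientGroup.mk' (Fr W) (α (w : T) * (w : T)⁻¹)
        map_one' := by simp
        map_mul' := by
          intro a b
          have c := h.map_comm _ (hmemM _ (W.inv_mem a.2)) _
            (hmemM _ (W.mul_mem (hαW _ b.2) (W.inv_mem b.2)))
          have e1 : α ((a : T) * (b : T)) * ((a : T) * (b : T))⁻¹
              = α (a : T) * (α (b : T) * (b : T)⁻¹) * (a : T)⁻¹ := by
            rw [map_mul]; group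
          show QuotientGroup.mk' (Fr W) (α ((a : T) * (b : T)) * ((a : T) * (b : T))⁻¹) = _
          rw [e1, map_mul, map_mul, mul_assoc, ← c, ← mul_assoc, ← map_mul] }
    have hψ : ∀ w : ↥W, ψ w = QuotientGroup.mk' (Fr W) (α (w : T) * (w : T)⁻¹) := fun _ => rfl
    have hXp : IsPGroup 2 (T ⧸ Fr W) := h.pg.to_quotient (Fr W)
    have : Fact (Nat.Prime 2) := ⟨Nat.prime_two⟩
    have hXn : Group.IsNilpotent (T ⧸ Fr W) := hXp.isNilpotent
    have hNn : ψ.range.Normal := by
      constructor
      rintro y ⟨w, rfl⟩ x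
      obtain ⟨t, rfl⟩ := QuotientGroup.mk'_surjective (Fr W) x
      have htw : t * (w : T) * t⁻¹ ∈ W := hWn.conj_mem _ w.2 t
      refine ⟨⟨t * (w : T) * t⁻¹, htw⟩, ?_⟩
      rw [hψ, hψ]
      show QuotientGroup.mk' (Fr W) (α (t * (w : T) * t⁻¹) * (t * (w : T) * t⁻¹)⁻¹) = _
      have e1 : α (t * (w : T) * t⁻¹) * (t * (w : T) * t⁻¹)⁻¹
          = (α t * t⁻¹) * (t * α (w : T) * t⁻¹) * (α t * t⁻¹)⁻¹ * (t * (w : T)⁻¹ * t⁻¹) := by
        rw [map_mul, map_mul, map_inv]; group
      have c := h.map_comm _ (hmemM _ (hs t)) _ (hmemM _ (hWn.conj_mem _ (hαW _ w.2) t))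
      have e2 : QuotientGroup.mk' (Fr W)
            ((α t * t⁻¹) * (t * α (w : T) * t⁻¹) * (α t * t⁻¹)⁻¹ * (t * (w : T)⁻¹ * t⁻¹))
          = QuotientGroup.mk' (Fr W) (α t * t⁻¹) * QuotientGroup.mk' (Fr W) (t * α (w : T) * t⁻¹)
            * (QuotientGroup.mk' (Fr W) (α t * t⁻¹))⁻¹
            * QuotientGroup.mk' (Fr W) (t * (w : T)⁻¹ * t⁻¹) := by
        simp only [map_mul, map_inv]
      rw [e1, e2, c, mul_inv_cancel_right]
      simp only [map_mul, map_inv]
      group
    have hbot : ψ.range = ⊥ := by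
      by_contra hne
      have h0 : ¬ ψ.range ≤ Subgroup.upperCentralSeries (T ⧸ Fr W) 0 := by
        rw [Subgroup.upperCentralSeries_zero, le_bot_iff]
        exact hne
      obtain ⟨y, hy, hy1, hy0⟩ := exists_mem_ucs_succ_not_mem' ψ.range 0 h0
      obtain ⟨w, rfl⟩ := hy
      rw [Subgroup.upperCentralSeries_zero, Subgroup.mem_bot] at hy0
      rw [zero_add, Subgroup.upperCentralSeries_one, Subgroup.mem_center_iff] at hy1
      apply hy0
      rw [hψ] at hy1 ⊢
      -- v = α w w⁻¹ lies in Z_4
      have hv4 : α (w : T) * (w : T)⁻¹ ∈ Subgroup.upperCentralSeries T 4 := by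
        rw [show (4 : ℕ) = 3 + 1 from rfl, Subgroup.mem_upperCentralSeries_succ_iff]
        intro t
        apply h.Fr_le_ucs3
        rw [commutatorElement_def, ← mk_comm_iff]
        exact (hy1 _).symm
      have hfixv := hfix 4 le_rfl _ hv4
      have := fix_of_comm h.pg α m hm hαm (w : T) hfixv
      rw [this, mul_inv_cancel, map_one]
    intro w hw'
    have h1 : ψ ⟨w, hw'⟩ ∈ ψ.range := ⟨_, rfl⟩
    rw [hbot, Subgroup.mem_bot, hψ, mk_eq_one_iff] at h1
    exact h1
  -- (iv)
  have hfixW : ∀ w ∈ W, α w = w := by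
    intro w hw'
    apply fix_of_comm h.pg α m hm hαm
    exact hfix 3 (by norm_num) _ (h.Fr_le_ucs3 (hw w hw'))
  ext t
  rw [MulAut.one_apply]
  apply fix_of_comm h.pg α m hm hαm
  exact hfixW _ (hs t)

end Hyp

end Cfsg.Agent.Helper51.RuSyl
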