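import Mathlib
import Cfsg.Agent.Lib.Helper51.RuSylMain

/-!
# Weak closure of `W` and triviality of odd-order automorphisms
-/

set_option autoImplicit false
set_option linter.unusedSectionVars false

namespace Cfsg.Agent.Helper51.RuSyl

open Subgroup

variable {T : Type*} [Group T] [Finite T]

namespace Hyp

variable {W : Subgroup T} (h : Hyp W)
include h

/-- any subgroup of `T` isomorphic to `W` lies in `W`. -/
theorem weakly_closed (W1 : Subgroup T) (e : ↥W ≃* ↥W1) : W1 ≤ W := by
  classical
  have hn := h.normalFr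
  have hWn := h.normalW
  by_contra hcon
  obtain ⟨x, hx1, hxW⟩ := SetLike.not_le_iff_exists.1 hcon
  set U : Subgroup T := W ⊓ W1 with hU
  have hUW : U ≤ W := inf_le_left
  have hUW1 : U ≤ W1 := inf_le_right
  -- the index r of U in W1 (and in W)
  set r := W.relIndex W1 with hr
  have hrdvd : r ∣ W.index := Subgroup.relIndex_dvd_index_of_normal W W1
  have hidx := h.index_W_le
  have hidx0 : W.index ≠ 0 := Subgroup.index_ne_zero_of_finite
  have hr8 : r ≤ 8 := (Nat.le_of_dvd (Nat.pos_of_ne_zero hidx0) hrdvd).trans hidx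
  have hrU1 : U.relIndex W1 = r := by rw [hU, Subgroup.inf_relIndex_right]
  have hcard1 : Nat.card U * r = Nat.card W1 := by
    rw [← hrU1]; exact card_mul_relIndex_of_le hUW1
  have hcardW1 : Nat.card W1 = Nat.card W := (Nat.card_congr e.toEquiv).symm
  have hcardU : Nat.card U * U.relIndex W = Nat.card W := card_mul_relIndex_of_le hUW
  have hUpos : 0 < Nat.card U := Nat.card_pos
  have hrU : U.relIndex W = r := by
    have : Nat.card U * U.relIndex W = Nat.card U * r := by rw [hcardU, hcard1, hcardW1]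
    exact Nat.eq_of_mul_eq_mul_left hUpos this
  -- (d) for W gives Fr W ≤ U
  have hFU : Fr W ≤ U := by
    have h1 : frattini ↥W ≤ U.subgroupOf W := by
      apply h.hd
      show U.relIndex W ≤ 16
      rw [hrU]; omega
    intro y hy
    have hyW := Fr_le W hy
    rw [mem_Fr_iff hyW] at hy
    have := h1 hy
    rwa [Subgroup.mem_subgroupOf] at this
  -- (d) for W1
  have hd1 : ∀ U1 : Subgroup ↥W1, U1.index ≤ 16 → frattini ↥W1 ≤ U1 := by
    intro U1 hU1 y hy
    have h1 : (U1.comap e.toMonoidHom).index = U1.index :=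
      Subgroup.index_comap_of_surjective U1 e.surjective
    have h2 := h.hd (U1.comap e.toMonoidHom) (by rw [h1]; exact hU1)
    have h3 := frattini_le_comap_frattini_of_surjective (φ := e.symm.toMonoidHom) e.symm.surjective hy
    rw [Subgroup.mem_comap] at h3
    have h4 := h2 h3
    rw [Subgroup.mem_comap] at h4
    simpa using h4
  -- Frattini of W1 lies in Fr W
  have hF1 : ∀ y : ↥W1, y ∈ frattini ↥W1 → (y : T) ∈ Fr W := by
    intro y hy
    -- y ∈ U
    have hyU : (y : T) ∈ U := by
      have h1 : frattini ↥W1 ≤ U.subgroupOf W1 := by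
        apply hd1
        show U.relIndex W1 ≤ 16
        rw [hrU1]; omega
      have := h1 hy
      rwa [Subgroup.mem_subgroupOf] at this
    have hyW : (y : T) ∈ W := hUW hyU
    rw [mem_Fr_iff hyW, mem_frattini_iff']
    intro N hN
    obtain ⟨_, hNidx⟩ := coatom_index_two h.pgW N hN
    set Nt : Subgroup T := N.map W.subtype with hNt
    have hNtW : Nt ≤ W := Subgroup.map_subtype_le _
    have hNtrel : Nt.relIndex W = 2 := by
      rw [hNt, Subgroup.relIndex, Subgroup.subgroupOf, Subgroup.comap_map_eq_self_of_injective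
        W.subtype_injective]
      exact hNidx
    have h1 : (Nt ⊓ U).relIndex W1 ≤ 16 := by
      have e1 : (Nt ⊓ U).relIndex U * U.relIndex W1 = (Nt ⊓ U).relIndex W1 :=
        Subgroup.relIndex_mul_relIndex _ _ _ inf_le_right hUW1
      have e2 : (Nt ⊓ U).relIndex U = Nt.relIndex U := Subgroup.inf_relIndex_right _ _
      have e3 : Nt.relIndex U ≤ Nt.relIndex W :=
        Subgroup.relIndex_le_of_le_right hUW (by rw [hNtrel]; norm_num)
      rw [← e1, e2, hrU1]
      calc Nt.relIndex U * r ≤ 2 * 8 := Nat.mul_le_mul (by rw [hNtrel] at e3; exact e3) hr8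
        _ = 16 := by norm_num
    have h2 : frattini ↥W1 ≤ (Nt ⊓ U).subgroupOf W1 := hd1 _ h1
    have h3 := h2 hy
    rw [Subgroup.mem_subgroupOf] at h3
    obtain ⟨n, hn, hny⟩ := (Subgroup.mem_inf.1 h3).1
    have : n = ⟨(y : T), hyW⟩ := Subtype.ext hny
    rwa [← this]
  -- A = W ⊔ ⟨x⟩
  set A : Subgroup T := W ⊔ Subgroup.zpowers x with hA
  have hWA : W ≤ A := le_sup_left
  have hxA : x ∈ A := (le_sup_right : Subgroup.zpowers x ≤ A) (Subgroup.mem_zpowers x)
  have hUA : ∀ u ∈ U, ∀ a ∈ A, a * u * a⁻¹ * u⁻¹ ∈ Fr W := by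
    intro u hu a ha
    rw [← mk_comm_iff]
    have hle : A ≤ (Subgroup.centralizer ({QuotientGroup.mk' (Fr W) u} : Set (T ⧸ Fr W))).comap
        (QuotientGroup.mk' (Fr W)) := by
      refine sup_le ?_ ?_
      · intro w hw
        rw [Subgroup.mem_comap, Subgroup.mem_centralizer_singleton_iff, mk_comm_iff]
        exact h.comm_mem hw (hUW hu)
      · rw [Subgroup.zpowers_le, Subgroup.mem_comap, Subgroup.mem_centralizer_singleton_iff,
          mk_comm_iff]
        have h1 := comm_mem_frattini (h.pg.to_subgroup W1) (⟨x, hx1⟩ : ↥W1) ⟨u, hUW1 hu⟩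
        exact hF1 _ h1
    have := hle ha
    rw [Subgroup.mem_comap, Subgroup.mem_centralizer_singleton_iff] at this
    exact this
  have hkey := h.card_le_of_centralizes U A hFU hUW hWA hUA
  -- the index of A is at most 4
  have hAidx : A.index ≤ 4 := by
    have e1 := Subgroup.relIndex_mul_index hWA
    have hne1 : W.relIndex A ≠ 1 := by
      intro h1
      rw [Subgroup.relIndex_eq_one] at h1
      exact hxW (h1 hxA)
    have hne0 : W.relIndex A ≠ 0 := by
      intro h0
      rw [h0, zero_mul] at e1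
      exact hidx0 e1.symm
    have h2 : 2 ≤ W.relIndex A := by omega
    nlinarith
  have hpow : 2 ^ A.index ≤ 2 ^ 4 := Nat.pow_le_pow_right (by norm_num) hAidx
  have hF8 := h.card_Fr_le
  have hW11 := h.card_W_ge
  have h1 : Nat.card U ≤ 8 * 2 ^ 4 := hkey.trans (Nat.mul_le_mul hF8 hpow)
  rw [hcardW1] at hcard1
  norm_num at h1 hW11
  nlinarith

end Hyp

end Cfsg.Agent.Helper51.RuSyl
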