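import Mathlib
import Cfsg.Prelude.Def_SylowChains
import Cfsg.Agent.Lib.Helper46.SPE
import Cfsg.Agent.Lib.Helper48.SPE

set_option autoImplicit false

namespace Cfsg.Agent.Helper51

open Subgroup

variable {G : Type*} [Group G] {p : ℕ}

/-- Adjacency of Sylow subgroups: distinct with nontrivial intersection. -/
def sylAdj (S T : Sylow p G) : Prop := S ≠ T ∧ (S : Subgroup G) ⊓ (T : Subgroup G) ≠ ⊥

theorem sylAdj_symm {S T : Sylow p G} (h : sylAdj S T) : sylAdj T S :=
  ⟨h.1.symm, by rw [inf_comm]; exact h.2⟩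

theorem mem_smul_sylow (g x : G) (P : Sylow p G) :
    x ∈ ((g • P : Sylow p G) : Subgroup G) ↔ g⁻¹ * x * g ∈ (P : Subgroup G) :=
  Cfsg.Agent.Helper48.mem_sylow_smul_iff g x P

theorem sylAdj_smul {S T : Sylow p G} (h : sylAdj S T) (g : G) : sylAdj (g • S) (g • T) := by
  refine ⟨fun heq => h.1 (MulAction.injective g heq), ?_⟩
  intro hbot
  apply h.2
  rw [eq_bot_iff] at hbot ⊢
  intro x hx
  rw [Subgroup.mem_inf] at hx
  have : g * x * g⁻¹ ∈ ((g • S : Sylow p G) : Subgroup G) ⊓ ((g • T : Sylow p G) : Subgroup G) := by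
    rw [Subgroup.mem_inf, mem_smul_sylow, mem_smul_sylow]
    have e : g⁻¹ * (g * x * g⁻¹) * g = x := by group
    rw [e]; exact hx
  have := hbot this
  rw [Subgroup.mem_bot] at this ⊢
  have e : x = g⁻¹ * (g * x * g⁻¹) * g := by group
  rw [e, this]; group

/-- Reachability in the Sylow graph. -/
def sylReach (S T : Sylow p G) : Prop := Relation.ReflTransGen sylAdj S T

theorem sylReach_symm {S T : Sylow p G} (h : sylReach S T) : sylReach T S := by
  unfold sylReach at *
  induction h with
  | refl => exact Relation.ReflTransGen.refl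
  | tail _ hbc ih => exact Relation.ReflTransGen.head (sylAdj_symm hbc) ih

theorem sylReach_smul {S T : Sylow p G} (h : sylReach S T) (g : G) : sylReach (g • S) (g • T) := by
  unfold sylReach at *
  induction h with
  | refl => exact Relation.ReflTransGen.refl
  | tail _ hbc ih => exact Relation.ReflTransGen.tail ih (sylAdj_smul hbc g)

theorem sylReach_of_inf_ne_bot {S T : Sylow p G} (h : (S : Subgroup G) ⊓ (T : Subgroup G) ≠ ⊥) :
    sylReach S T := by
  by_cases hST : S = T
  · rw [hST]; exact Relation.ReflTransGen.refl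
  · exact Relation.ReflTransGen.single ⟨hST, h⟩

/-- A `Fin`-indexed chain. -/
def sylChain (S T : Sylow p G) : Prop :=
  ∃ (n : ℕ) (c : Fin (n + 1) → Sylow p G), c 0 = S ∧ c (Fin.last n) = T ∧
    ∀ i : Fin n, sylAdj (c i.castSucc) (c i.succ)

theorem sylChain_of_reach {S T : Sylow p G} (h : sylReach S T) : sylChain S T := by
  unfold sylReach at h
  induction h with
  | refl => exact ⟨0, fun _ => S, rfl, rfl, fun i => i.elim0⟩
  | @tail b c _ hbc ih =>
    obtain ⟨n, f, h0, hl, hadj⟩ := ih
    refine ⟨n + 1, Fin.snoc f c, ?_, ?_, ?_⟩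
    · have : (0 : Fin (n + 2)) = Fin.castSucc (0 : Fin (n + 1)) := rfl
      rw [this, Fin.snoc_castSucc]; exact h0
    · exact Fin.snoc_last _ _
    · intro i
      refine Fin.lastCases ?_ (fun j => ?_) i
      · rw [Fin.snoc_castSucc, Fin.succ_last, Fin.snoc_last, hl]; exact hbc
      · rw [Fin.snoc_castSucc, ← Fin.castSucc_succ, Fin.snoc_castSucc]; exact hadj j

theorem connected_of_reach (h : ∀ S T : Sylow p G, sylReach S T) : Cfsg.IsSylowChainConnected p G := by
  intro S T
  by_cases hbot : (S : Subgroup G) ⊓ (T : Subgroup G) = ⊥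
  · obtain ⟨n, c, h0, hl, hadj⟩ := sylChain_of_reach (h S T)
    exact ⟨n, c, h0, hl, fun i => by rw [hbot]; exact bot_le, hadj⟩
  · by_cases hST : S = T
    · subst hST
      exact ⟨0, fun _ => S, rfl, rfl, fun i => inf_le_left, fun i => i.elim0⟩
    · refine ⟨1, ![S, T], rfl, rfl, ?_, ?_⟩
      · intro i
        fin_cases i
        · exact inf_le_left
        · exact inf_le_right
      · intro i
        fin_cases i
        exact ⟨hST, hbot⟩

theorem reach_of_connected (h : Cfsg.IsSylowChainConnected p G) (S T : Sylow p G) : sylReach S T := by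
  obtain ⟨n, c, h0, hl, _, hadj⟩ := h S T
  have : ∀ i : Fin (n + 1), sylReach S (c i) := by
    intro i
    induction i using Fin.induction with
    | zero => rw [h0]; exact Relation.ReflTransGen.refl
    | succ j ih => exact Relation.ReflTransGen.tail ih (hadj j)
  rw [← hl]; exact this _

end Cfsg.Agent.Helper51
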