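import Mathlib
import Cfsg.Prelude.Def_SylowChains
import Cfsg.Agent.Lib.Helper51.SylowGraph
import Cfsg.Agent.Lib.Helper47.Basic

set_option autoImplicit false

namespace Cfsg.Agent.Helper51

open Subgroup

variable {G : Type*} [Group G] {p : ℕ}

/-- The subgroup of elements `g` with `g • S₀` reachable from `S₀`. -/
def reachSub (S₀ : Sylow p G) : Subgroup G where
  carrier := {g | sylReach S₀ (g • S₀)}
  one_mem' := by
    show sylReach S₀ ((1 : G) • S₀)
    rw [one_smul]; exact Relation.ReflTransGen.refl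
  mul_mem' := by
    intro a b ha hb
    show sylReach S₀ ((a * b) • S₀)
    rw [mul_smul]
    exact Relation.ReflTransGen.trans ha (sylReach_smul hb a)
  inv_mem' := by
    intro a ha
    show sylReach S₀ (a⁻¹ • S₀)
    have h1 := sylReach_smul (sylReach_symm ha) a⁻¹
    rwa [inv_smul_smul] at h1

theorem mem_reachSub (S₀ : Sylow p G) (g : G) :
    g ∈ reachSub S₀ ↔ sylReach S₀ (g • S₀) := Iff.rfl

theorem sylow_le_reachSub (S₀ : Sylow p G) : (S₀ : Subgroup G) ≤ reachSub S₀ := by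
  intro s hs
  rw [mem_reachSub]
  have : s • S₀ = S₀ := Sylow.smul_eq_iff_mem_normalizer.mpr (Subgroup.le_normalizer hs)
  rw [this]; exact Relation.ReflTransGen.refl

theorem exists_not_reach (hnc : ¬ Cfsg.IsSylowChainConnected p G) (S₀ : Sylow p G) :
    ∃ T₀ : Sylow p G, ¬ sylReach S₀ T₀ := by
  by_contra hall
  push Not at hall
  apply hnc
  apply connected_of_reach
  intro S T
  exact Relation.ReflTransGen.trans (sylReach_symm (hall S)) (hall T)

theorem reachSub_ne_top [Finite G] [Fact p.Prime] {S₀ T₀ : Sylow p G} (hST : ¬ sylReach S₀ T₀) :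
    reachSub S₀ ≠ ⊤ := by
  intro htop
  obtain ⟨g, hg⟩ := MulAction.exists_smul_eq G S₀ T₀
  have : g ∈ reachSub S₀ := by rw [htop]; exact Subgroup.mem_top g
  rw [mem_reachSub, hg] at this
  exact hST this

theorem sylow_ne_bot_of_not_reach [Finite G] [Fact p.Prime] {S₀ T₀ : Sylow p G}
    (hST : ¬ sylReach S₀ T₀) : (S₀ : Subgroup G) ≠ ⊥ := by
  intro hb
  apply hST
  have hcard : Nat.card (T₀ : Subgroup G) = Nat.card (S₀ : Subgroup G) :=
    (Sylow.card_eq_multiplicity T₀).trans (Sylow.card_eq_multiplicity S₀).symm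
  have hT : (T₀ : Subgroup G) = ⊥ := by
    rw [← Subgroup.card_eq_one, hcard, hb]; exact Subgroup.card_bot
  have : S₀ = T₀ := Sylow.ext (by rw [hb, hT])
  rw [this]; exact Relation.ReflTransGen.refl

theorem dvd_card_reachSub [Finite G] [Fact p.Prime] {S₀ T₀ : Sylow p G} (hST : ¬ sylReach S₀ T₀) :
    p ∣ Nat.card (reachSub S₀) :=
  (Cfsg.Agent.Helper48.dvd_card_of_ne_bot S₀.2 (sylow_ne_bot_of_not_reach hST)).trans
    (Subgroup.card_dvd_of_le (sylow_le_reachSub S₀))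

theorem reachSub_coprime_inf_conj [Finite G] [Fact p.Prime] (S₀ : Sylow p G) :
    ∀ g : G, g ∉ reachSub S₀ →
      ¬ p ∣ Nat.card ↥(reachSub S₀ ⊓ (reachSub S₀).map (MulAut.conj g).toMonoidHom) := by
  intro g hg hdvd
  have hle := sylow_le_reachSub S₀
  set H := reachSub S₀ with hH
  obtain ⟨x, hx⟩ := exists_prime_orderOf_dvd_card' p hdvd
  have hxp : orderOf (x : G) = p := by rw [← hx, Subgroup.orderOf_coe]
  have hxH : (x : G) ∈ H := (Subgroup.mem_inf.mp x.2).1
  have hxg : g⁻¹ * (x : G) * g ∈ H :=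
    Cfsg.Agent.Helper46.mem_map_conj.mp (Subgroup.mem_inf.mp x.2).2
  have hZp : IsPGroup p (Subgroup.zpowers (x : G)) :=
    Cfsg.Agent.Helper48.isPGroup_zpowers_of_orderOf hxp
  obtain ⟨h, hhH, hh⟩ := Cfsg.Agent.Helper48.exists_conj_mem_sylow S₀ hle hZp
    ((Subgroup.zpowers_le).mpr hxH)
  have hxp' : orderOf (g⁻¹ * (x : G) * g) = p := by
    have := Cfsg.Agent.Helper48.orderOf_conj' g⁻¹ (x : G)
    rw [inv_inv] at this
    rw [this, hxp]
  have hZp' : IsPGroup p (Subgroup.zpowers (g⁻¹ * (x : G) * g)) :=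
    Cfsg.Agent.Helper48.isPGroup_zpowers_of_orderOf hxp'
  obtain ⟨k, hkH, hk⟩ := Cfsg.Agent.Helper48.exists_conj_mem_sylow S₀ hle hZp'
    ((Subgroup.zpowers_le).mpr hxg)
  have h1 : h * (x : G) * h⁻¹ ∈ (S₀ : Subgroup G) := hh _ (Subgroup.mem_zpowers _)
  have h2 : k * (g⁻¹ * (x : G) * g) * k⁻¹ ∈ (S₀ : Subgroup G) := hk _ (Subgroup.mem_zpowers _)
  have m1 : (x : G) ∈ ((h⁻¹ • S₀ : Sylow p G) : Subgroup G) := by
    rw [mem_smul_sylow, inv_inv]; exact h1
  have m2 : (x : G) ∈ (((g * k⁻¹) • S₀ : Sylow p G) : Subgroup G) := by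
    rw [mem_smul_sylow]
    have e : (g * k⁻¹)⁻¹ * (x : G) * (g * k⁻¹) = k * (g⁻¹ * (x : G) * g) * k⁻¹ := by group
    rw [e]; exact h2
  have hxne : (x : G) ≠ 1 := by
    intro h1'
    rw [h1', orderOf_one] at hxp
    exact (Fact.out : p.Prime).one_lt.ne hxp
  have hne : ((h⁻¹ • S₀ : Sylow p G) : Subgroup G) ⊓
      (((g * k⁻¹) • S₀ : Sylow p G) : Subgroup G) ≠ ⊥ := by
    intro hb
    have : (x : G) ∈ (⊥ : Subgroup G) := hb ▸ Subgroup.mem_inf.mpr ⟨m1, m2⟩
    exact hxne (Subgroup.mem_bot.mp this)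
  have r1 : sylReach S₀ (h⁻¹ • S₀) := (mem_reachSub S₀ _).mp (H.inv_mem hhH)
  have r2 : sylReach S₀ ((g * k⁻¹) • S₀) :=
    Relation.ReflTransGen.trans r1 (sylReach_of_inf_ne_bot hne)
  have hgk : g * k⁻¹ ∈ H := (mem_reachSub S₀ _).mpr r2
  apply hg
  have := H.mul_mem hgk hkH
  rwa [inv_mul_cancel_right] at this

/-- If the Sylow graph is disconnected, then every Sylow `p`-subgroup lies in a strongly
`p`-embedded subgroup. -/
theorem exists_spe_ge_sylow [Finite G] [Fact p.Prime] (hnc : ¬ Cfsg.IsSylowChainConnected p G)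
    (S₀ : Sylow p G) :
    ∃ H : Subgroup G, (S₀ : Subgroup G) ≤ H ∧ Cfsg.IsStronglyPEmbedded p H := by
  obtain ⟨T₀, hST⟩ := exists_not_reach hnc S₀
  refine ⟨reachSub S₀, sylow_le_reachSub S₀, ?_⟩
  exact Cfsg.Agent.Helper46.spe_of_normProp (reachSub_ne_top hST) (dvd_card_reachSub hST)
    (Cfsg.Agent.Helper46.normProp_of_coprime_inf_conj (reachSub_coprime_inf_conj S₀))

/-- The `p`-core is trivial when the Sylow graph is disconnected. -/
theorem pCore_eq_bot_of_not_connected [Finite G] [Fact p.Prime]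
    (hnc : ¬ Cfsg.IsSylowChainConnected p G) : Cfsg.pCore p G = ⊥ := by
  by_contra hne
  apply hnc
  apply connected_of_reach
  intro S T
  apply sylReach_of_inf_ne_bot
  intro hb
  apply hne
  rw [eq_bot_iff, ← hb]
  exact le_inf (Cfsg.Agent.Helper47.pCore_le_sylow S) (Cfsg.Agent.Helper47.pCore_le_sylow T)

end Cfsg.Agent.Helper51
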