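import Mathlib
import Cfsg.Prelude.Def_SylowChains
import Cfsg.Agent.Lib.Helper51.SylowGraphSPE
import Cfsg.Agent.Lib.Helper51.Replacement
import Cfsg.Agent.Lib.Helper51.DStar
import Cfsg.Agent.Lib.Helper48.CoprimeGen
import Cfsg.Agent.Lib.Helper64.Basic

set_option autoImplicit false

namespace Cfsg.Agent.Helper51

open Subgroup

variable {G : Type*} [Group G] {p : ℕ}

theorem closure_pair_comm {a b : G} (hab : a * b = b * a) :
    ∀ x ∈ Subgroup.closure ({a, b} : Set G), ∀ y ∈ Subgroup.closure ({a, b} : Set G),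
      x * y = y * x := by
  have key : ∀ c : G, c * a = a * c → c * b = b * c →
      c ∈ Subgroup.centralizer (Subgroup.closure ({a, b} : Set G) : Set G) := by
    intro c hca hcb
    apply Cfsg.Agent.Helper51.mem_centralizer_closure
    intro g hg
    rcases hg with rfl | rfl
    · exact hca.symm
    · exact hcb.symm
  have ha : a ∈ Subgroup.centralizer (Subgroup.closure ({a, b} : Set G) : Set G) :=
    key a rfl hab
  have hb : b ∈ Subgroup.centralizer (Subgroup.closure ({a, b} : Set G) : Set G) :=
    key b hab.symm rfl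
  have hle : Subgroup.closure ({a, b} : Set G) ≤
      Subgroup.centralizer (Subgroup.closure ({a, b} : Set G) : Set G) := by
    rw [Subgroup.closure_le]
    intro g hg
    rcases hg with rfl | rfl
    · exact ha
    · exact hb
  intro x hx y hy
  exact ((Subgroup.mem_centralizer_iff.mp (hle hx)) y hy).symm

theorem closure_pair_pow {a b : G} (hab : a * b = b * a) {p : ℕ}
    (ha : a ^ p = 1) (hb : b ^ p = 1) :
    ∀ x ∈ Subgroup.closure ({a, b} : Set G), x ^ p = 1 := by
  have hc := closure_pair_comm hab
  intro x hx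
  induction hx using Subgroup.closure_induction with
  | mem x hx =>
    rcases hx with rfl | rfl
    · exact ha
    · exact hb
  | one => exact one_pow p
  | mul x y hx hy ihx ihy =>
    have : Commute x y := hc x hx y hy
    rw [this.mul_pow, ihx, ihy, one_mul]
  | inv x _ ih => rw [inv_pow, ih, inv_one]

/-- A strongly `p`-embedded subgroup containing a noncyclic elementary abelian `p`-subgroup
contains every normal `p'`-subgroup. -/
theorem normal_pprime_le_spe [Finite G] [Fact p.Prime] {H : Subgroup G}
    (hspe : Cfsg.IsStronglyPEmbedded p H) {a b : G} (haH : a ∈ H) (hbH : b ∈ H)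
    (hap : orderOf a = p) (hbp : orderOf b = p) (hab : a * b = b * a)
    (habz : a ∉ Subgroup.zpowers b) (K : Subgroup G) [K.Normal] (hK : (Nat.card K).Coprime p) :
    K ≤ H := by
  have hp : p.Prime := Fact.out
  have hap' : a ^ p = 1 := by rw [← hap]; exact pow_orderOf_eq_one a
  have hbp' : b ^ p = 1 := by rw [← hbp]; exact pow_orderOf_eq_one b
  set A : Subgroup G := Subgroup.closure ({a, b} : Set G) with hA
  have hAc := closure_pair_comm hab
  have hAp := closure_pair_pow hab hap' hbp'
  have haA : a ∈ A := Subgroup.subset_closure (by simp)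
  have hbA : b ∈ A := Subgroup.subset_closure (by simp)
  have hb1 : b ≠ 1 := by
    intro h
    rw [h, orderOf_one] at hbp
    exact hp.one_lt.ne hbp
  have hAH : A ≤ H := by
    rw [hA, Subgroup.closure_le]
    intro g hg
    rcases hg with rfl | rfl
    · exact haH
    · exact hbH
  have hAK : A ≤ Subgroup.normalizer ((K : Subgroup G) : Set G) := by
    rw [Subgroup.normalizer_eq_top]; exact le_top
  have hKgen := Cfsg.Agent.Helper48.le_genC A K hAc hAp haA hbA hb1 habz hAK hK
  refine hKgen.trans ?_
  unfold Cfsg.Agent.Helper48.genC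
  apply iSup_le
  rintro ⟨c, hcA, hc1⟩
  have hcH : c ∈ H := hAH hcA
  have hcp : orderOf c = p := by
    have h1 : orderOf c ∣ p := orderOf_dvd_of_pow_eq_one (hAp c hcA)
    rcases (Nat.dvd_prime hp).mp h1 with h2 | h2
    · exact absurd (orderOf_eq_one_iff.mp h2) hc1
    · exact h2
  exact inf_le_right.trans (Cfsg.Agent.Helper48.spe_ufp hspe hcH hcp).centralizer_le

/-- A normal subgroup of order divisible by `p` is not contained in a strongly `p`-embedded
subgroup. -/
theorem not_normal_le_spe [Finite G] [Fact p.Prime] {H : Subgroup G}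
    (hspe : Cfsg.IsStronglyPEmbedded p H) (N : Subgroup G) [N.Normal] (hN : p ∣ Nat.card N) :
    ¬ N ≤ H := by
  intro hNH
  obtain ⟨g, hg⟩ : ∃ g : G, g ∉ H := by
    by_contra hall
    push Not at hall
    exact hspe.2.1 (eq_top_iff.mpr fun x _ => hall x)
  apply Cfsg.Agent.Helper48.spe_not_dvd_card_inf_map_conj hspe hg
  have hle : N ≤ H ⊓ H.map (MulAut.conj g).toMonoidHom := by
    intro x hx
    refine Subgroup.mem_inf.mpr ⟨hNH hx, ?_⟩
    rw [Cfsg.Agent.Helper46.mem_map_conj]
    apply hNH
    have := (inferInstance : N.Normal).conj_mem _ hx g⁻¹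
    rwa [inv_inv] at this
  exact hN.trans (Subgroup.card_dvd_of_le hle)

/-- Key step: `K ≤ N` normal, `K` a `p'`-group inside `H`, `N / K` a `p`-group, `P ≤ H` Sylow:
then `N ≤ H`. -/
theorem le_of_pprime_by_p [Finite G] [Fact p.Prime] {H : Subgroup G} (P : Sylow p G)
    (hPH : (P : Subgroup G) ≤ H) (K N : Subgroup G) [N.Normal] (hKN : K ≤ N) (hKH : K ≤ H)
    (hK : ¬ p ∣ Nat.card K) {m : ℕ} (hm : K.relIndex N = p ^ m) : N ≤ H := by
  have hp : p.Prime := Fact.out
  have hcardN : Nat.card K * p ^ m = Nat.card N := by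
    rw [← hm]; exact card_mul_relIndex_of_le K N hKN
  set Q : Subgroup G := (P : Subgroup G) ⊓ N with hQ
  have hQcard : Nat.card Q = p ^ m := by
    have h1 : Nat.card ((Cfsg.Agent.Helper64.sylowInfNormal P N : Sylow p N) : Subgroup N) =
        p ^ (Nat.card N).factorization p := Sylow.card_eq_multiplicity _
    have h2 : Nat.card (((Cfsg.Agent.Helper64.sylowInfNormal P N : Sylow p N) : Subgroup N).map
        N.subtype) = Nat.card ((Cfsg.Agent.Helper64.sylowInfNormal P N : Sylow p N) : Subgroup N) :=
      Subgroup.card_map_of_injective N.subtype_injective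
    rw [Cfsg.Agent.Helper64.sylowInfNormal_map] at h2
    rw [hQ, h2, h1, ← hcardN]
    have hKpos : Nat.card K ≠ 0 := Nat.card_pos.ne'
    have hpm : p ^ m ≠ 0 := pow_ne_zero _ hp.ne_zero
    rw [Nat.factorization_mul hKpos hpm, Finsupp.add_apply,
      Nat.factorization_eq_zero_of_not_dvd hK, zero_add, hp.factorization_pow,
      Finsupp.single_eq_same]
  set L : Subgroup G := K ⊔ Q with hL
  have hLN : L ≤ N := sup_le hKN inf_le_right
  have hLH : L ≤ H := sup_le hKH (inf_le_left.trans hPH)
  have h1 : Nat.card K ∣ Nat.card L := Subgroup.card_dvd_of_le le_sup_left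
  have h2 : p ^ m ∣ Nat.card L := by rw [← hQcard]; exact Subgroup.card_dvd_of_le le_sup_right
  have hcop : (Nat.card K).Coprime (p ^ m) :=
    Nat.Coprime.pow_right m ((Nat.Prime.coprime_iff_not_dvd hp).mpr hK).symm
  have h3 : Nat.card N ∣ Nat.card L := by
    rw [← hcardN]; exact Nat.Coprime.mul_dvd_of_dvd_of_dvd hcop h1 h2
  have h4 : Nat.card N ≤ Nat.card L := Nat.le_of_dvd Nat.card_pos h3
  have h5 : L = N := Subgroup.eq_of_le_of_card_ge hLN h4
  rw [← h5]; exact hLH

/-- In a `p`-solvable group with a strongly `p`-embedded subgroup `H`, two commuting elements of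
order `p` in a Sylow `p`-subgroup of `H` generate the same subgroup. -/
theorem mem_zpowers_of_psolvable_spe [Finite G] [Fact p.Prime] (hsol : Cfsg.IsPSolvable p G)
    {H : Subgroup G} (hspe : Cfsg.IsStronglyPEmbedded p H) (P : Sylow p G)
    (hPH : (P : Subgroup G) ≤ H) {a b : G} (haP : a ∈ (P : Subgroup G))
    (hbP : b ∈ (P : Subgroup G)) (hap : orderOf a = p) (hbp : orderOf b = p)
    (hab : a * b = b * a) : a ∈ Subgroup.zpowers b := by
  have hp : p.Prime := Fact.out
  by_contra habz
  obtain ⟨n, Hs, h0, hlast, hmono, hnorm, hfac⟩ := hsol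
  have key : ∀ i : Fin (n + 1), ¬ p ∣ Nat.card (Hs i) := by
    intro i
    induction i using Fin.induction with
    | zero =>
      rw [h0, Subgroup.card_bot]
      exact hp.one_lt.ne' ∘ Nat.dvd_one.mp
    | succ j ih =>
      intro hdvd
      have := hnorm j.castSucc
      have := hnorm j.succ
      have hKN : Hs j.castSucc ≤ Hs j.succ := hmono (Fin.castSucc_le_succ j)
      have hKcop : (Nat.card (Hs j.castSucc)).Coprime p :=
        ((Nat.Prime.coprime_iff_not_dvd hp).mpr ih).symm
      have hKH : Hs j.castSucc ≤ H :=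
        normal_pprime_le_spe hspe (hPH haP) (hPH hbP) hap hbp hab habz _ hKcop
      have hcard := card_mul_relIndex_of_le (Hs j.castSucc) (Hs j.succ) hKN
      rcases hfac j with ⟨m, hm⟩ | hcop
      · exact not_normal_le_spe hspe (Hs j.succ) hdvd
          (le_of_pprime_by_p P hPH _ _ hKN hKH ih hm)
      · rw [← hcard] at hdvd
        rcases (Nat.Prime.dvd_mul hp).mp hdvd with h1 | h1
        · exact ih h1
        · have := Nat.Coprime.eq_one_of_dvd hcop.symm h1
          exact hp.one_lt.ne' this
  have h1 := key (Fin.last n)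
  rw [hlast] at h1
  apply h1
  rw [Subgroup.card_top]
  exact hspe.1

end Cfsg.Agent.Helper51
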